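import Cfsg.Agent.Lib.Blocks.SectionNorm

/-!
Inner products of two columns of the principal block on a section.
-/

set_option autoImplicit false
set_option linter.style.haveILetI false

namespace CfsgLib.SDCyclic

open Cfsg CfsgLib.Characters CfsgLib.Blocks
open scoped ComplexConjugate

universe u

variable {G : Type u} [Group G] [Fintype G] {p : ℕ} {M : Ideal AlgInt} [Fact p.Prime] {z : G}

open scoped Classical in
/-- The sesquilinear sums over the principal blocks agree on a section. -/
theorem principal_section_inner (hM : IsPModular p M) (hz : ∃ k : ℕ, orderOf z = p ^ k)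
    [Fintype (Subgroup.centralizer ({z} : Set G))] {y y' : Subgroup.centralizer ({z} : Set G)}
    (hy : ¬ p ∣ orderOf y) (hy' : ¬ p ∣ orderOf y') :
    ∑ ζ ∈ Finset.univ.filter (· ∈ principalBlock M G),
        conj ((ζ : G → ℂ) (z * (y : G))) * (ζ : G → ℂ) (z * (y' : G)) =
      ∑ χ ∈ Finset.univ.filter (· ∈ principalBlock M (Subgroup.centralizer ({z} : Set G))),
        conj ((χ : Subgroup.centralizer ({z} : Set G) → ℂ) y) *
          (χ : Subgroup.centralizer ({z} : Set G) → ℂ) y' := by
  have hzy : ∀ c : (Subgroup.centralizer ({z} : Set G)), ¬ p ∣ orderOf c → IsPPart p (z * (c : G)) z := fun c hc =>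
    isPPart_mul (commute_centralizer c) hz (by rwa [Subgroup.orderOf_coe])
  have heq : ∀ c : (Subgroup.centralizer ({z} : Set G)), ¬ p ∣ orderOf c →
      ∑ ζ : IrrCharacter G, conj ((ζ : G → ℂ) (z * (y : G))) * sectionFun z (ζ : G → ℂ) c =
        ∑ χ : IrrCharacter (Subgroup.centralizer ({z} : Set G)), conj ((χ : (Subgroup.centralizer ({z} : Set G)) → ℂ) y) * (χ : (Subgroup.centralizer ({z} : Set G)) → ℂ) c := by
    intro c hc
    have h1 := column_orth (z * (c : G)) (z * (y : G))
    have h2 := column_orth c y
    have hiff : IsConj (z * (c : G)) (z * (y : G)) ↔ IsConj c y := by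
      constructor
      · intro h
        obtain ⟨d, hd⟩ := isConj_iff.1 h
        have h3 := IsPPart.conj (hzy c hc) d
        rw [hd] at h3
        have h4 := IsPPart.unique hM.1 h3 (hzy y hy)
        have hdC : d ∈ (Subgroup.centralizer ({z} : Set G)) := Subgroup.mem_centralizer_singleton_iff.2 (mul_inv_eq_iff_eq_mul.1 h4)
        refine isConj_iff.2 ⟨⟨d, hdC⟩, Subtype.ext ?_⟩
        refine mul_left_cancel (a := z) ?_
        rw [← hd]
        show z * (d * (c : G) * d⁻¹) = d * (z * (c : G)) * d⁻¹
        rw [← mul_assoc d z, mul_inv_eq_iff_eq_mul.1 h4]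
        group
      · intro h
        obtain ⟨d, hd⟩ := isConj_iff.1 h
        refine isConj_iff.2 ⟨(d : G), ?_⟩
        rw [← hd]
        simp only [Subgroup.coe_mul, Subgroup.coe_inv]
        rw [← mul_assoc (d : G) z, ← (commute_centralizer d).eq]
        group
    have hcard : Nat.card (Subgroup.centralizer ({z * (c : G)} : Set G)) =
        Nat.card (Subgroup.centralizer ({c} : Set (Subgroup.centralizer ({z} : Set G)))) := by
      have hmem : ∀ d ∈ Subgroup.centralizer ({z * (c : G)} : Set G), d ∈ (Subgroup.centralizer ({z} : Set G)) ∧ d * c = c * d := by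
        intro d hd
        have hd' := Subgroup.mem_centralizer_singleton_iff.1 hd
        have h3 := IsPPart.conj (hzy c hc) d
        rw [mul_inv_eq_iff_eq_mul.2 hd'] at h3
        have h4 := mul_inv_eq_iff_eq_mul.1 (IsPPart.unique hM.1 h3 (hzy c hc))
        refine ⟨Subgroup.mem_centralizer_singleton_iff.2 h4, mul_left_cancel (a := z) ?_⟩
        rw [← mul_assoc, ← h4, mul_assoc, hd', mul_assoc]
      refine Nat.card_congr
        { toFun := fun d => ⟨⟨d, (hmem d d.2).1⟩,
            Subgroup.mem_centralizer_singleton_iff.2 (Subtype.ext (hmem d d.2).2)⟩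
          invFun := fun d => ⟨((d : (Subgroup.centralizer ({z} : Set G))) : G), Subgroup.mem_centralizer_singleton_iff.2 ?_⟩
          left_inv := fun d => rfl
          right_inv := fun d => rfl }
      have hd := congrArg Subtype.val (Subgroup.mem_centralizer_singleton_iff.1 d.2)
      simp only [Subgroup.coe_mul] at hd
      rw [← mul_assoc, ← (commute_centralizer (d : (Subgroup.centralizer ({z} : Set G)))).eq, mul_assoc, hd, mul_assoc]
    calc ∑ ζ : IrrCharacter G, conj ((ζ : G → ℂ) (z * (y : G))) * sectionFun z (ζ : G → ℂ) c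
        = ∑ ζ : IrrCharacter G, (ζ : G → ℂ) (z * (c : G)) * conj ((ζ : G → ℂ) (z * (y : G))) :=
          Finset.sum_congr rfl fun ζ _ => mul_comm _ _
      _ = ∑ χ : IrrCharacter (Subgroup.centralizer ({z} : Set G)), (χ : (Subgroup.centralizer ({z} : Set G)) → ℂ) c * conj ((χ : (Subgroup.centralizer ({z} : Set G)) → ℂ) y) := by
          rw [h1, h2]
          by_cases hcy : IsConj c y
          · rw [if_pos (hiff.2 hcy), if_pos hcy, hcard]
          · rw [if_neg (fun h => hcy (hiff.1 h)), if_neg hcy]
      _ = _ := Finset.sum_congr rfl fun χ _ => mul_comm _ _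
  have key := blockPart_congr_regular hM (B := (principalBlock M (Subgroup.centralizer ({z} : Set G)))) (isPBlock_principalBlock M) heq hy'
  rw [blockPart_linear, blockPart_linear] at key
  simp only [blockPart_principal_section hM hz hy', blockPart_irr, mul_ite, mul_zero] at key
  rw [← Finset.sum_filter, ← Finset.sum_filter] at key
  exact key

open scoped Classical in
/-- The value on the section is a combination of the principal block of the centraliser. -/
theorem section_value (hM : IsPModular p M) (hz : ∃ k : ℕ, orderOf z = p ^ k)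
    [Fintype (Subgroup.centralizer ({z} : Set G))] {y y' : Subgroup.centralizer ({z} : Set G)}
    (hy : ¬ p ∣ orderOf y) (hy' : ¬ p ∣ orderOf y') {ζ : IrrCharacter G}
    (hζ : ζ ∈ principalBlock M G)
    (h : ∀ χ ∈ principalBlock M (Subgroup.centralizer ({z} : Set G)),
      (χ : Subgroup.centralizer ({z} : Set G) → ℂ) y =
        (χ : Subgroup.centralizer ({z} : Set G) → ℂ) y') :
    (ζ : G → ℂ) (z * (y : G)) = (ζ : G → ℂ) (z * (y' : G)) := by
  have e1 := blockPart_principal_section hM hz hy ζ
  have e2 := blockPart_principal_section hM hz hy' ζ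
  rw [if_pos hζ] at e1 e2
  rw [← e1, ← e2, blockPart_eq_sum, blockPart_eq_sum]
  exact Finset.sum_congr rfl fun χ hχ => by rw [h χ (Finset.mem_filter.1 hχ).2]

end CfsgLib.SDCyclic
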