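import Mathlib

/-!
Semidihedral Sylow 2-subgroups and cyclic odd Sylow subgroups: the arithmetic of the degrees.
-/

set_option autoImplicit false

namespace CfsgLib.SDCyclic.Arith

theorem pair_cases {a b : ℤ} (h : b * b + b - a * b + a * a - a ≤ 0) :
    a = 0 ∨ (a = 1 ∧ b = 0) := by
  have h1 : (a - b - 1) ^ 2 + a ^ 2 + b ^ 2 ≤ 1 := by linarith
  have ha1 : a ≤ 1 := by nlinarith
  have ha2 : -1 ≤ a := by nlinarith
  have hb1 : b ≤ 1 := by nlinarith
  have hb2 : -1 ≤ b := by nlinarith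
  interval_cases a <;> interval_cases b <;> omega

/-- The relation between the degrees in the four term relation. -/
theorem shifted {q X Y D : ℤ} (hD : D = -1 - X - Y) (hne : X + Y ≠ 0)
    (h : X * Y * D + q * q * (Y * D) + q * q * (X * D) + X * Y = 0) :
    (X + q * q) * (Y + q * q) = q * q * (q * q - 1) := by
  subst hD
  have h2 : (X + Y) * (q * q * (-1 - X - Y) - X * Y) = 0 := by linear_combination h
  have h1 := (mul_eq_zero.1 h2).resolve_left hne
  linear_combination -h1

theorem natAbs_factorization_mul {a b : ℤ} (ha : a ≠ 0) (hb : b ≠ 0) (r : ℕ) :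
    (a * b).natAbs.factorization r = a.natAbs.factorization r + b.natAbs.factorization r := by
  rw [Int.natAbs_mul, Nat.factorization_mul (Int.natAbs_ne_zero.2 ha) (Int.natAbs_ne_zero.2 hb),
    Finsupp.add_apply]

/-- The valuations in the order equation. -/
theorem val_eq {r G oj W c k : ℕ} {u XX : ℤ} (hG : G ≠ 0) (hoj : oj ≠ 0) (hW : W ≠ 0)
    (hc : c ≠ 0) (hk : k ≠ 0) (hu : u ≠ 0) (hXX : XX ≠ 0)
    (h : (G : ℤ) * u ^ 2 * oj = W * (c : ℤ) ^ 2 * (k : ℤ) ^ 2 * XX)
    (hGc : G.factorization r = c.factorization r) :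
    2 * u.natAbs.factorization r + oj.factorization r =
      W.factorization r + c.factorization r + 2 * k.factorization r +
        XX.natAbs.factorization r := by
  have hG' : (G : ℤ) ≠ 0 := by exact_mod_cast hG
  have hoj' : (oj : ℤ) ≠ 0 := by exact_mod_cast hoj
  have hW' : (W : ℤ) ≠ 0 := by exact_mod_cast hW
  have hc' : (c : ℤ) ≠ 0 := by exact_mod_cast hc
  have hk' : (k : ℤ) ≠ 0 := by exact_mod_cast hk
  have h1 := congrArg (fun x : ℤ => x.natAbs.factorization r) h
  simp only [natAbs_factorization_mul, ne_eq, mul_eq_zero, pow_eq_zero_iff, OfNat.ofNat_ne_zero,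
    not_false_eq_true, hG', hoj', hW', hc', hk', hu, hXX, or_self, Int.natAbs_natCast,
    Int.natAbs_pow, Nat.factorization_pow, Finsupp.smul_apply, smul_eq_mul] at h1
  omega

/-- The end of the arithmetic: only `q = -5`, `X = -35` remains. -/
theorem endgame {q X Y : ℤ} (hp : q.natAbs.Prime) (hq : q % 4 = 3) (hne : X + q ≠ 0)
    (hprod : (X + q * q) * (Y + q * q) = q * q * (q * q - 1))
    (hu : 2 * (q + 1) ∣ X + q) (h1 : q ∣ X) (h2 : ¬ q * q ∣ X + q * q) :
    q = -5 ∧ X = -35 := by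
  have hprime : Prime q := Int.prime_iff_natAbs_prime.2 hp
  obtain ⟨x, rfl⟩ := h1
  have hs : q * x + q * q = q * (x + q) := by ring
  generalize hσ : x + q = σ at hs
  have hqσ : ¬ q ∣ σ := fun ⟨w, hw⟩ => h2 ⟨w, by rw [hs, hw]; ring⟩
  rw [hs, mul_assoc, mul_assoc q q] at hprod
  have e : σ * (Y + q * q) = q * (q * q - 1) := mul_left_cancel₀ hprime.ne_zero hprod
  have hdvd : σ ∣ q * q - 1 := by
    have hco : IsCoprime q σ := hprime.coprime_iff_not_dvd.2 hqσ
    exact hco.symm.dvd_of_dvd_mul_left ⟨_, e.symm⟩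
  have hodd : q % 2 = 1 := by omega
  -- the factor `σ` agrees with `q - 1` modulo `2(q+1)`
  have hg : 2 * (q + 1) ∣ σ - (q - 1) := by
    have hco : IsCoprime (2 * (q + 1)) q := by
      refine ((Int.isCoprime_iff_gcd_eq_one).2 ?_).mul_left ⟨1, -1, by ring⟩
      have h2' : ¬ (2 : ℤ) ∣ q := by omega
      exact Int.isCoprime_iff_gcd_eq_one.1 ((Int.prime_two.coprime_iff_not_dvd).2 h2')
    refine hco.dvd_of_dvd_mul_left ?_
    have : q * (σ - (q - 1)) = q * x + q := by rw [← hσ]; ring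
    rw [this]; exact hu
  obtain ⟨m, hm⟩ := hg
  -- `σ` divides `q - 1`
  have h2σ : σ % 4 = 2 := by
    obtain ⟨a, ha⟩ : ∃ a, q = 4 * a + 3 := ⟨q / 4, by omega⟩
    have : σ = 4 * a + 2 + 8 * (a + 1) * m := by
      have := hm; subst ha; linear_combination this
    rw [this]
    have h8 : 4 * a + 2 + 8 * (a + 1) * m = 2 + 4 * (a + 2 * (a + 1) * m) := by ring
    rw [h8]; omega
  have hdvd2 : σ ∣ 2 * (q - 1) := by
    have hσg : σ ∣ (q + 1) * (q - 1) := by
      have : (q + 1) * (q - 1) = q * q - 1 := by ring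
      rw [this]; exact hdvd
    have hgcd : (Int.gcd σ (q + 1) : ℤ) ∣ 2 := by
      have a1 := Int.gcd_dvd_left σ (q + 1)
      have a2 := Int.gcd_dvd_right σ (q + 1)
      have a3 : (Int.gcd σ (q + 1) : ℤ) ∣ q - 1 := by
        have : q - 1 = σ - 2 * (q + 1) * m := by linarith
        rw [this]; exact dvd_sub a1 ((a2.mul_left 2).mul_right m)
      have := dvd_sub a2 a3
      simpa using this
    exact ((Int.dvd_gcd_mul_iff_dvd_mul).2 hσg).trans (mul_dvd_mul_right hgcd _)
  have hdvd1 : σ ∣ q - 1 := by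
    obtain ⟨t, ht⟩ := hdvd2
    obtain ⟨a, ha⟩ : ∃ a, q = 4 * a + 3 := ⟨q / 4, by omega⟩
    obtain ⟨b, hb⟩ : ∃ b, σ = 4 * b + 2 := ⟨σ / 4, by omega⟩
    obtain ⟨s, hs'⟩ : ∃ s, t = 2 * s := by
      rcases Int.even_or_odd t with ⟨s, hs'⟩ | ⟨s, hs'⟩
      · exact ⟨s, by omega⟩
      · exfalso
        subst ha hb hs'
        have : 2 = 4 * (2 * a - 2 * b * s - b - s) + 4 := by linear_combination (-1) * ht
        omega
    exact ⟨s, by rw [hs'] at ht; linarith⟩
  have hσ0 : σ ≠ 0 := by omega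
  have hb1 : |σ| ≤ |q - 1| := Int.le_of_dvd (abs_pos.2 (by omega)) ((abs_dvd_abs σ (q - 1)).2 hdvd1)
  have hmne : m ≠ 0 := by
    rintro rfl
    refine hne ?_
    have : σ = q - 1 := by linarith
    have hx : x = -1 := by omega
    subst hx; ring
  rcases lt_or_gt_of_ne hprime.ne_zero with hneg | hpos
  · obtain ⟨s, hs'⟩ := hdvd1
    have hqm : q ≤ -5 := by
      have := hp.two_le
      omega
    have e1 : |σ| ≤ 1 - q := by rwa [abs_of_neg (by omega : q - 1 < 0), neg_sub] at hb1
    obtain ⟨b1, b2⟩ := abs_le.1 e1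
    have hm1 : m = 1 ∨ m = -1 := by
      have u1 : m < 2 := by nlinarith
      have u2 : -2 < m := by nlinarith
      omega
    rcases hm1 with rfl | rfl
    · omega
    · -- `σ = -q - 3`
      have e2 : σ = -q - 3 := by linarith
      have hsne : s ≠ 1 := by rintro rfl; omega
      have hsn : s ≠ -1 := by rintro rfl; omega
      have hs0 : s ≠ 0 := by rintro rfl; omega
      have h3 : s ≤ -2 := by
        rcases le_or_gt s (-2) with h | h
        · exact h
        · exfalso
          have : 2 ≤ s := by omega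
          nlinarith
      have h3' : s ≤ -3 := by
        rcases eq_or_lt_of_le h3 with rfl | h <;> omega
      have : q = -5 := by nlinarith
      subst this
      exact ⟨rfl, by subst hσ; omega⟩
  · exfalso
    have hq2 : 3 ≤ q := by
      have := hp.two_le
      omega
    have e1 : |σ| ≤ q - 1 := by rwa [abs_of_pos (by omega : 0 < q - 1)] at hb1
    obtain ⟨b1, b2⟩ := abs_le.1 e1
    rcases lt_or_gt_of_ne hmne with h | h <;> nlinarith

end CfsgLib.SDCyclic.Arith
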