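import Cfsg.Agent.Lib.CyclicZFact.Socle
import Cfsg.Agent.Lib.CyclicZFact.Recognize
import Cfsg.Agent.Lib.Suborbit3.PSLRecog
import Cfsg.Agent.Lib.SL2Char.OrderP

/-!
Groups with cyclic odd Sylow subgroups and 2-subgroups with a cyclic subgroup of index at most two:
inheritance, and the non-abelian simple ones given the dihedral and semidihedral cases.
-/

set_option autoImplicit false
set_option linter.style.haveILetI false

open Subgroup

namespace CfsgLib.SDCyclic

universe u v

open CfsgLib.GWCons.RankOneCover (DihedralClassification)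

/-- Every subgroup of odd prime power order is cyclic. -/
def OddCyclic (G : Type u) [Group G] : Prop :=
  ∀ p : ℕ, p.Prime → p ≠ 2 → ∀ P : Subgroup G, IsPGroup p P → IsCyclic P

/-- Every `2`-subgroup has a cyclic subgroup of index at most two. -/
def CycTwo (G : Type u) [Group G] : Prop :=
  ∀ T : Subgroup G, IsPGroup 2 T → ∃ c ∈ T, (zpowers c).relIndex T ∣ 2

variable {G : Type u} [Group G] [Finite G]

theorem oddCyclic_of_sylow
    (h : ∀ p : ℕ, p.Prime → p ≠ 2 → ∀ P : Sylow p G, IsCyclic P) : OddCyclic G := by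
  intro p hp hp2 P hP
  obtain ⟨Q, hQ⟩ := hP.exists_le_sylow
  haveI := h p hp hp2 Q
  exact isCyclic_of_le hQ

omit [Finite G] in
theorem subgroupOf_zpowers {S : Subgroup G} {c : G} (hc : c ∈ S) :
    (zpowers c).subgroupOf S = zpowers (⟨c, hc⟩ : S) := by
  rw [show zpowers c = (zpowers (⟨c, hc⟩ : S)).map S.subtype from
    (MonoidHom.map_zpowers S.subtype ⟨c, hc⟩).symm, subgroupOf,
    comap_map_eq_self_of_injective (subtype_injective _)]

theorem cycTwo_sub {T S : Subgroup G} (hTS : T ≤ S) {c : G} (hc : (zpowers c).relIndex S ∣ 2) :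
    ∃ d ∈ T, (zpowers d).relIndex T ∣ 2 := by
  have hcyc : IsCyclic (zpowers c ⊓ T : Subgroup G) := isCyclic_of_le inf_le_left
  obtain ⟨d, hd⟩ := isCyclic_iff_exists_zpowers_eq_top.1 hcyc
  refine ⟨(d : G), (mem_inf.1 d.2).2, ?_⟩
  have e : zpowers (d : G) = zpowers c ⊓ T := by
    rw [show zpowers (d : G) = (zpowers d).map (zpowers c ⊓ T).subtype from
      (MonoidHom.map_zpowers (zpowers c ⊓ T).subtype d).symm, hd, ← MonoidHom.range_eq_map, range_subtype]
  rw [e, inf_relIndex_right]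
  have h0 : (zpowers c).relIndex S ≠ 0 := fun e0 => by rw [e0] at hc; simp at hc
  have h1 := relIndex_le_of_le_right (H := zpowers c) hTS h0
  have h2 : (zpowers c).relIndex S ≤ 2 := Nat.le_of_dvd two_pos hc
  have h3 : (zpowers c).relIndex T ≠ 0 := index_ne_zero_of_finite
  obtain h4 | h4 : (zpowers c).relIndex T = 1 ∨ (zpowers c).relIndex T = 2 := by omega
  · rw [h4]; exact one_dvd 2
  · rw [h4]

theorem cycTwo_of_sylow
    (h : ∀ S : Sylow 2 G, ∃ C : Subgroup ↥(S : Subgroup G), IsCyclic C ∧ C.index ∣ 2) : CycTwo G := by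
  intro T hT
  obtain ⟨S, hS⟩ := hT.exists_le_sylow
  obtain ⟨C, hC, hi⟩ := h S
  obtain ⟨c₀, hc₀⟩ := hC.exists_generator
  obtain ⟨c, hc, rfl⟩ : ∃ c ∈ C, C = zpowers c := by
    refine ⟨c₀, c₀.2, le_antisymm (fun x hx => ?_) (zpowers_le.2 c₀.2)⟩
    obtain ⟨i, hi'⟩ := hc₀ ⟨x, hx⟩
    exact ⟨i, congrArg Subtype.val hi'⟩
  refine cycTwo_sub hS (c := (c : G)) ?_
  rwa [relIndex, show (zpowers (c : G)).subgroupOf (S : Subgroup G) = zpowers c from ?_]
  rw [show zpowers (c : G) = (zpowers c).map (S : Subgroup G).subtype from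
    (MonoidHom.map_zpowers (S : Subgroup G).subtype c).symm, subgroupOf, comap_map_eq_self_of_injective (subtype_injective _)]

theorem OddCyclic.of_injective {H : Type v} [Group H] (h : OddCyclic G) (f : H →* G)
    (hf : Function.Injective f) : OddCyclic H := by
  intro p hp hp2 P hP
  haveI := h p hp hp2 (P.map f) (hP.map f)
  exact (equivMapOfInjective P f hf).isCyclic.2 inferInstance

theorem OddCyclic.of_surjective {H : Type v} [Group H] (h : OddCyclic G) (f : G →* H)
    (hf : Function.Surjective f) : OddCyclic H := by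
  intro p hp hp2 P hP
  haveI := Fact.mk hp
  haveI : Finite H := Finite.of_surjective f hf
  obtain ⟨R, hR⟩ := hP.exists_le_sylow
  obtain ⟨Q, rfl⟩ := Sylow.mapSurjective_surjective hf p R
  haveI := h p hp hp2 Q Q.2
  haveI : IsCyclic ((Q : Subgroup G).map f) :=
    isCyclic_of_surjective _ (f.subgroupMap_surjective (Q : Subgroup G))
  rw [Sylow.coe_mapSurjective] at hR
  exact isCyclic_of_le hR

theorem CycTwo.of_injective {H : Type v} [Group H] [Finite H] (h : CycTwo G) (f : H →* G)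
    (hf : Function.Injective f) : CycTwo H := by
  intro T hT
  obtain ⟨c, ⟨d, hd, rfl⟩, hi⟩ := h (T.map f) (hT.map f)
  refine ⟨d, hd, ?_⟩
  rwa [← MonoidHom.map_zpowers, relIndex_map_map_of_injective _ _ hf] at hi

theorem CycTwo.of_surjective {H : Type v} [Group H] (h : CycTwo G) (f : G →* H)
    (hf : Function.Surjective f) : CycTwo H := by
  intro T hT
  haveI : Finite H := Finite.of_surjective f hf
  haveI : Fact (Nat.Prime 2) := ⟨Nat.prime_two⟩
  obtain ⟨R, hR⟩ := hT.exists_le_sylow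
  obtain ⟨Q, rfl⟩ := Sylow.mapSurjective_surjective hf 2 R
  rw [Sylow.coe_mapSurjective] at hR
  obtain ⟨c, hc, hi⟩ := h Q Q.2
  refine cycTwo_sub (c := f c) hR ?_
  rw [relIndex, subgroupOf_zpowers (mem_map_of_mem f hc),
    show (⟨f c, mem_map_of_mem f hc⟩ : (Q : Subgroup G).map f) = f.subgroupMap (Q : Subgroup G) ⟨c, hc⟩ from rfl,
    ← MonoidHom.map_zpowers]
  refine (index_map_dvd _ (f.subgroupMap_surjective (Q : Subgroup G))).trans ?_
  rwa [← subgroupOf_zpowers hc]

/-- In a `2`-group with a cyclic subgroup of index two, two squares lie in that subgroup. -/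
theorem sq_mem {T : Subgroup G} {c : G} (hc : c ∈ T) (hi : (zpowers c).relIndex T ∣ 2) {x : G}
    (hx : x ∈ T) : x * x ∈ zpowers c := by
  rw [relIndex] at hi
  rcases (Nat.dvd_prime Nat.prime_two).1 hi with h | h
  · exact subgroupOf_eq_top.1 (index_eq_one.1 h) (mul_mem hx hx)
  · exact mem_subgroupOf.1 (mul_self_mem_of_index_two h ⟨x, hx⟩)

/-- In a cyclic group two involutions are equal. -/
theorem invol_eq {c x y : G} (hx : x ∈ zpowers c) (hy : y ∈ zpowers c) (hxo : orderOf x = 2)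
    (hyo : orderOf y = 2) : x = y :=
  congrArg Subtype.val (CfsgLib.Involutions.involution_unique_of_cyclic
    (a := (⟨x, hx⟩ : zpowers c)) (b := ⟨y, hy⟩) (by rw [← Subgroup.orderOf_coe]; exact hxo)
    (by rw [← Subgroup.orderOf_coe]; exact hyo))

theorem CycTwo.card_le_four (h : CycTwo G) {E : Subgroup G} (h2 : ∀ x ∈ E, x ^ 2 = 1) :
    Nat.card E ≤ 4 := by
  obtain ⟨c, hc, hi⟩ := h E (fun x => ⟨1, Subtype.ext (by simpa using h2 x x.2)⟩)
  have h1 : Nat.card (zpowers c) ≤ 2 := by
    rw [Nat.card_zpowers]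
    exact orderOf_le_of_pow_eq_one two_pos (h2 c hc)
  rw [← card_mul_index ((zpowers c).subgroupOf E),
    Nat.card_congr (subgroupOfEquivOfLe (zpowers_le.2 hc)).toEquiv]
  exact (Nat.mul_le_mul h1 (Nat.le_of_dvd two_pos hi)).trans (by norm_num)

theorem CycTwo.pRankLE_two (h : CycTwo G) : Cfsg.PRankLE 2 2 G := fun E _ hE =>
  (h.card_le_four hE).trans (by norm_num)

/-- `A₇` has a non-cyclic 3-subgroup. -/
theorem not_oddCyclic_alt_seven : ¬ OddCyclic (alternatingGroup (Fin 7)) := by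
  intro h
  let a : alternatingGroup (Fin 7) := ⟨Equiv.swap 0 1 * Equiv.swap 1 2, Equiv.Perm.mem_alternatingGroup.2 (by decide)⟩
  let b : alternatingGroup (Fin 7) := ⟨Equiv.swap 3 4 * Equiv.swap 4 5, Equiv.Perm.mem_alternatingGroup.2 (by decide)⟩
  have ha : a ^ 3 = 1 := by decide
  have hb : b ^ 3 = 1 := by decide
  have hab : a * b = b * a := by decide
  have hne : b ≠ 1 ∧ b ≠ a ∧ b ≠ a * a := by decide
  have hgen : ∀ x ∈ ({a, b} : Set _), ∀ y ∈ ({a, b} : Set _), x * y = y * x := by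
    rintro x (rfl | rfl) y (rfl | rfl)
    exacts [rfl, hab, hab.symm, rfl]
  haveI := isMulCommutative_closure hgen
  have h3 : ∀ x ∈ closure ({a, b} : Set _), x ^ 3 = 1 := by
    intro x hx
    induction hx using closure_induction with
    | mem x hx => rcases hx with rfl | rfl <;> assumption
    | one => exact one_pow 3
    | mul x y hxm hym hx hy =>
      have hxy : Commute x y := congrArg Subtype.val
        (mul_comm' (⟨x, hxm⟩ : closure ({a, b} : Set _)) ⟨y, hym⟩)
      rw [hxy.mul_pow, hx, hy, one_mul]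
    | inv x _ hx => rw [inv_pow, hx, inv_one]
  obtain ⟨g, hg⟩ := (h 3 Nat.prime_three (by norm_num) (closure {a, b})
    (fun x => ⟨1, Subtype.ext (by simpa using h3 x x.2)⟩)).exists_generator
  have hla := hg ⟨a, subset_closure (Or.inl rfl)⟩
  have hlb := hg ⟨b, subset_closure (Or.inr rfl)⟩
  have hg3 : g ^ 3 = 1 := Subtype.ext (by simpa using h3 g g.2)
  have key : ∀ x : closure ({a, b} : Set _), x ∈ zpowers g → x = 1 ∨ x = g ∨ x = g * g := by
    rintro x ⟨i, rfl⟩
    have hi : g ^ i = g ^ (i % 3) := by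
      conv_lhs => rw [← Int.emod_add_mul_ediv i 3, zpow_add, zpow_mul, zpow_ofNat, hg3, one_zpow, mul_one]
    have h0 := Int.emod_nonneg i (show (3 : ℤ) ≠ 0 by norm_num)
    have h1 := Int.emod_lt_of_pos i (show (0 : ℤ) < 3 by norm_num)
    show g ^ i = 1 ∨ g ^ i = g ∨ g ^ i = g * g
    rw [hi]
    obtain e | e | e : i % 3 = 0 ∨ i % 3 = 1 ∨ i % 3 = 2 := by omega
    · left; rw [e, zpow_zero]
    · right; left; rw [e, zpow_one]
    · right; right; rw [e, zpow_two]
  have ha1 : a ≠ 1 := by decide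
  have hg4 : (g : alternatingGroup (Fin 7)) ^ 3 = 1 := h3 g g.2
  rcases key _ hla with e | e | e <;> rcases key _ hlb with f | f | f <;>
    replace e := congrArg Subtype.val e <;> replace f := congrArg Subtype.val f <;>
    simp only [OneMemClass.coe_one, Subgroup.coe_mul] at e f <;>
    generalize (g : alternatingGroup (Fin 7)) = g₀ at e f hg4
  · exact ha1 e
  · exact ha1 e
  · exact ha1 e
  · exact hne.1 f
  · exact hne.2.1 (f.trans e.symm)
  · exact hne.2.2 (f.trans (by rw [e]))
  · exact hne.1 f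
  · refine hne.2.2 (f.trans ?_)
    rw [e]
    calc g₀ = g₀ ^ 3 * g₀ := by rw [hg4, one_mul]
      _ = g₀ * g₀ * (g₀ * g₀) := by simp [pow_succ, mul_assoc]
  · exact hne.2.1 (f.trans e.symm)

section PSL

variable {F : Type} [Field F] [Fintype F]

/-- In `PSL₂(q)` with cyclic odd Sylow subgroups `q` is prime. -/
theorem prime_of_psl (hodd : Odd (Fintype.card F))
    (h : OddCyclic (Matrix.ProjectiveSpecialLinearGroup (Fin 2) F)) :
    ∃ p : ℕ, p.Prime ∧ Fintype.card F = p := by
  classical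
  obtain ⟨p, hcp⟩ := CharP.exists F
  obtain ⟨n, hp, hF⟩ := FiniteField.card F p
  haveI := Fact.mk hp
  have hp2 : p ≠ 2 := by
    rintro rfl
    rw [hF] at hodd
    exact Nat.not_even_iff_odd.2 hodd (Nat.even_pow.2 ⟨even_two, n.ne_zero⟩)
  refine ⟨p, hp, ?_⟩
  let u : Multiplicative F →* Matrix.ProjectiveSpecialLinearGroup (Fin 2) F :=
    (QuotientGroup.mk' _).comp
      { toFun := fun x => (CfsgLib.SL2Tori.bEl (1 : Fˣ) x.toAdd : Matrix.SpecialLinearGroup (Fin 2) F)
        map_one' := CfsgLib.SL2Char.bEl_one_zero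
        map_mul' := fun x y => (CfsgLib.SL2Char.bEl_one_mul x.toAdd y.toAdd).symm }
  have hu : Function.Injective u := by
    rw [injective_iff_map_eq_one]
    intro x hx
    have hx' := (QuotientGroup.eq_one_iff _).1 hx
    by_contra hne
    obtain ⟨r, -, e⟩ := Matrix.SpecialLinearGroup.mem_center_iff.1 hx'
    refine CfsgLib.SL2Char.bEl_one_nonscalar (b := x.toAdd) (fun e0 => hne (toAdd_eq_zero.1 e0)) r ?_
    exact e.symm.trans (by ext i j; fin_cases i <;> fin_cases j <;> simp [Matrix.scalar])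
  have hP : IsPGroup p (Multiplicative F) := fun x => ⟨1, toAdd_eq_zero.1 (by
    rw [pow_one, toAdd_pow, nsmul_eq_mul, CharP.cast_eq_zero, zero_mul])⟩
  haveI := h p hp hp2 u.range (hP.of_surjective u.rangeRestrict u.rangeRestrict_surjective)
  obtain ⟨g, hg⟩ := ((MonoidHom.ofInjective hu).isCyclic.2 inferInstance).exists_generator
  have ho := orderOf_eq_card_of_forall_mem_zpowers hg
  rw [Nat.card_congr Multiplicative.toAdd, Nat.card_eq_fintype_card] at ho
  have : Fintype.card F ∣ p := ho ▸ orderOf_dvd_of_pow_eq_one (toAdd_eq_zero.1 (by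
    rw [toAdd_pow, nsmul_eq_mul, CharP.cast_eq_zero, zero_mul]))
  exact ((Nat.dvd_prime hp).1 this).resolve_left Fintype.one_lt_card.ne'

theorem nonempty_psl_zmod {p : ℕ} [Fact p.Prime] (hF : Fintype.card F = p) :
    Nonempty (Matrix.ProjectiveSpecialLinearGroup (Fin 2) F ≃*
      Matrix.ProjectiveSpecialLinearGroup (Fin 2) (ZMod p)) :=
  CfsgLib.Suborbit3.nonempty_psl_congr (ZMod.ringEquivOfPrime F (Fact.out : p.Prime) hF).symm

end PSL

/-- The simple groups in question are `PSL₂(p)`. -/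
theorem simple_eq_psl (hGW : DihedralClassification.{u})
    (hgap : ∀ (G : Type u) [Group G] [Finite G] [IsSimpleGroup G] (S : Sylow 2 G),
      Cfsg.IsQuasiDihedral ↥(S : Subgroup G) →
      (∀ p : ℕ, p.Prime → p ≠ 2 → ∀ P : Sylow p G, IsCyclic P) → False)
    [IsSimpleGroup G] (hG : ¬ IsMulCommutative G) (hO : OddCyclic G) (hT : CycTwo G) :
    ∃ (p : ℕ) (_ : Fact p.Prime), 5 ≤ p ∧
      Nonempty (G ≃* Matrix.ProjectiveSpecialLinearGroup (Fin 2) (ZMod p)) := by
  haveI : Fact (Nat.Prime 2) := ⟨Nat.prime_two⟩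
  have heven := CfsgLib.CyclicZFact.even_of_simple hG
  haveI : Fintype (GaloisField 2 4) := Fintype.ofFinite _
  have hF : Fintype.card (GaloisField 2 4) = 16 := by
    rw [← Nat.card_eq_fintype_card, GaloisField.card 2 4 (by norm_num)]; rfl
  obtain ⟨Q⟩ : Nonempty (Sylow 2 (Cfsg.PSU 3 (GaloisField 2 4) 4)) := inferInstance
  obtain ⟨P⟩ : Nonempty (Sylow 2 G) := inferInstance
  obtain ⟨c, hc, hci⟩ := hT P P.2
  rcases CfsgLib.RankTwoTypes.sylow_types_of_even hG heven hT.pRankLE_two P hF Q with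
    ⟨n, hn, he⟩ | hqd | hwr | ⟨⟨e⟩⟩
  · rcases CfsgLib.CyclicZFact.dihedral_cases hGW hG P hn he with
      ⟨F, i1, i2, hodd, h3, ⟨e⟩⟩ | ⟨⟨e⟩⟩
    · letI := i1
      letI := i2
      obtain ⟨p, hp, hcard⟩ := prime_of_psl hodd (hO.of_surjective e.toMonoidHom e.surjective)
      haveI := Fact.mk hp
      obtain ⟨f⟩ := nonempty_psl_zmod hcard
      refine ⟨p, inferInstance, ?_, ⟨e.trans f⟩⟩
      obtain ⟨k, hk⟩ := hodd
      omega
    · exact (not_oddCyclic_alt_seven (hO.of_surjective e.toMonoidHom e.surjective)).elim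
  · exact (hgap G P hqd fun p hp hp2 R => hO p hp hp2 R R.2).elim
  · exfalso
    obtain ⟨n, hn, -, x, y, z, hx, -, hd, -, hzx⟩ := hwr
    have hy : orderOf y = 2 ^ n := by rw [← hzx, ← MulAut.conj_apply, MulEquiv.orderOf_eq, hx]
    set k := 2 ^ (n - 1) with hk
    have hkn : 2 ^ n = k * 2 := by rw [hk, ← pow_succ]; congr 1; omega
    have hord : ∀ w : (P : Subgroup G), orderOf w = 2 ^ n → orderOf ((w : G) ^ k) = 2 := by
      intro w hw
      rw [orderOf_pow_of_dvd (by positivity) ?_, Subgroup.orderOf_coe, hw, hkn]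
      · exact Nat.mul_div_cancel_left _ (by positivity)
      · rw [Subgroup.orderOf_coe, hw, hkn]; exact dvd_mul_right _ _
    have hmem : ∀ w : (P : Subgroup G), (w : G) ^ k ∈ zpowers c := by
      intro w
      rw [hk, show n - 1 = (n - 2) + 1 by omega, pow_succ', pow_mul, pow_two]
      exact pow_mem (sq_mem hc hci w.2) _
    have he := invol_eq (hmem x) (hmem y) (hord x hx) (hord y hy)
    have h1 : x ^ k ∈ zpowers x ⊓ zpowers y := mem_inf.2 ⟨pow_mem (mem_zpowers x) k, by
      rw [show x ^ k = y ^ k from Subtype.ext (by simpa using he)]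
      exact pow_mem (mem_zpowers y) k⟩
    rw [hd, mem_bot] at h1
    have h2 := hord x hx
    rw [show (x : G) ^ k = 1 by simpa using congrArg Subtype.val h1, orderOf_one] at h2
    omega
  · exfalso
    have hF' : Fintype.card (GaloisField 2 4) = 4 ^ 2 := by rw [hF]; norm_num
    let _ := CfsgLib.InvCharThree.hermGroup hF' (show Even 4 by decide)
    obtain ⟨g⟩ := CfsgLib.InvCharThree.herm_equiv_sylow_psu hF' (show Even 4 by decide) (n := 2) rfl Q
    have hH : CfsgLib.InvCharSixtyFour.HermLike (P : Subgroup G) 4 :=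
      CfsgLib.InvCharSixtyFour.hermLike_of_equiv (g.trans e.symm)
        (CfsgLib.InvCharSixtyFour.hermLike_herm hF' (show Even 4 by decide))
    have h4 : c ^ 4 = 1 := by
      have := hH.center_sq _ (hH.sq_mem ⟨c, hc⟩)
      have := congrArg Subtype.val this
      rw [show c ^ 4 = c * c * (c * c) by simp [pow_succ, mul_assoc]]
      exact this
    have h1 : Nat.card (zpowers c) ≤ 4 := by
      rw [Nat.card_zpowers]; exact orderOf_le_of_pow_eq_one (by norm_num) h4
    have h2 := card_mul_index ((zpowers c).subgroupOf (P : Subgroup G))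
    rw [hH.card, Nat.card_congr (subgroupOfEquivOfLe (zpowers_le.2 hc)).toEquiv] at h2
    have := Nat.mul_le_mul h1 (Nat.le_of_dvd two_pos hci)
    rw [relIndex] at this
    omega

end CfsgLib.SDCyclic
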