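import Cfsg.Agent.Lib.SDCyclic.Mult
import Cfsg.Agent.Lib.Blocks.BlockParts

/-!
The decomposition of the two exceptional functions into irreducible characters of the principal
block, with the parities of the degrees.
-/

set_option autoImplicit false
set_option linter.unusedSectionVars false
set_option linter.style.haveILetI false

namespace CfsgLib.SDCyclic

open Cfsg CfsgLib.QuatDefect CfsgLib.Characters CfsgLib.Blocks
open scoped ComplexConjugate Classical

universe u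

theorem sum_erase_sq_card {ι : Type*} [Fintype ι] {o : ι} {a : ι → ℤ} (ha0 : a o = 1) {N : ℕ}
    (hN : N ≤ 3) (ha : ∑ i, a i ^ 2 = (N : ℤ) + 1) :
    (∀ i, i ≠ o → a i = 0 ∨ a i = 1 ∨ a i = -1) ∧
      (Finset.univ.filter fun i => i ≠ o ∧ a i ≠ 0).card = N := by
  rw [← Finset.sum_erase_add _ _ (Finset.mem_univ o), ha0] at ha
  have hs : ∑ i ∈ Finset.univ.erase o, a i ^ 2 = (N : ℤ) := by linarith
  have hval : ∀ i, i ≠ o → a i = 0 ∨ a i = 1 ∨ a i = -1 := fun i hi => by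
    have h1 : a i ^ 2 ≤ 3 :=
      ((hs ▸ Finset.single_le_sum (fun j _ => sq_nonneg (a j))
        (Finset.mem_erase.2 ⟨hi, Finset.mem_univ i⟩) : a i ^ 2 ≤ (N : ℤ))).trans (by exact_mod_cast hN)
    have h2 : a i ≤ 1 := by nlinarith
    have h3 : -1 ≤ a i := by nlinarith
    omega
  refine ⟨hval, ?_⟩
  have he : (Finset.univ.filter fun i => i ≠ o ∧ a i ≠ 0) =
      (Finset.univ.erase o).filter fun i => a i ≠ 0 := by
    ext i; simp
  rw [he]
  have hsq : ∀ i ∈ Finset.univ.erase o, a i ^ 2 = if a i ≠ 0 then 1 else 0 := fun i hi => by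
    rcases hval i (Finset.mem_erase.1 hi).1 with e | e | e <;> simp [e]
  rw [Finset.sum_congr rfl hsq, Finset.sum_boole] at hs
  exact_mod_cast hs

/-- Two integral vectors of norms three and four with product two, both equal to one at a given
place. -/
theorem split_three_four {ι : Type*} [Fintype ι] {o : ι} {a b : ι → ℤ} (ha0 : a o = 1)
    (hb0 : b o = 1) (ha : ∑ i, a i ^ 2 = 3) (hb : ∑ i, b i ^ 2 = 4) (hab : ∑ i, a i * b i = 2) :
    ∃ (f : Fin 4 → ι) (e : Fin 4 → ℤ), Function.Injective f ∧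
      (∀ k, f k ≠ o ∧ (e k = 1 ∨ e k = -1)) ∧
      (b (f 0) = e 0 ∧ b (f 1) = 0 ∧ b (f 2) = e 2 ∧ b (f 3) = e 3) ∧
      (∀ F : ι → ℂ, ∑ i, (a i : ℂ) * F i = F o + (e 0 : ℂ) * F (f 0) + (e 1 : ℂ) * F (f 1)) ∧
      (∀ F : ι → ℂ, ∑ i, (b i : ℂ) * F i =
        F o + (e 0 : ℂ) * F (f 0) + (e 2 : ℂ) * F (f 2) + (e 3 : ℂ) * F (f 3)) := by
  obtain ⟨hva, hca⟩ := sum_erase_sq_card ha0 (N := 2) (by norm_num) (by simpa using ha)
  obtain ⟨hvb, hcb⟩ := sum_erase_sq_card hb0 (N := 3) (by norm_num) (by simpa using hb)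
  set A := Finset.univ.filter fun i => i ≠ o ∧ a i ≠ 0
  set B := Finset.univ.filter fun i => i ≠ o ∧ b i ≠ 0
  have mA : ∀ i, i ∈ A ↔ i ≠ o ∧ a i ≠ 0 := fun i => by simp [A]
  have mB : ∀ i, i ∈ B ↔ i ≠ o ∧ b i ≠ 0 := fun i => by simp [B]
  rw [← Finset.sum_erase_add _ _ (Finset.mem_univ o), ha0, hb0] at hab
  have hI : ∑ i ∈ A ∩ B, a i * b i = 1 := by
    rw [Finset.sum_subset (s₂ := Finset.univ.erase o) (fun i hi => Finset.mem_erase.2
      ⟨((mA i).1 (Finset.mem_inter.1 hi).1).1, Finset.mem_univ i⟩) fun i hi hn => ?_]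
    · linarith
    · have hio := (Finset.mem_erase.1 hi).1
      by_contra hne
      obtain ⟨h1, h2⟩ := mul_ne_zero_iff.1 hne
      exact hn (Finset.mem_inter.2 ⟨(mA i).2 ⟨hio, h1⟩, (mB i).2 ⟨hio, h2⟩⟩)
  have hpm : ∀ i ∈ A ∩ B, a i * b i = 1 ∨ a i * b i = -1 := fun i hi => by
    obtain ⟨h1, h2⟩ := Finset.mem_inter.1 hi
    obtain ⟨hio, ha'⟩ := (mA i).1 h1
    rcases (hva i hio).resolve_left ha' with e | e <;>
      rcases (hvb i hio).resolve_left ((mB i).1 h2).2 with e' | e' <;> simp [e, e']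
  have hle : (A ∩ B).card ≤ 2 := hca ▸ Finset.card_le_card Finset.inter_subset_left
  obtain ⟨x, hx⟩ : ∃ x, A ∩ B = {x} := by
    rw [← Finset.card_eq_one]
    by_contra hne
    rcases (show (A ∩ B).card = 0 ∨ (A ∩ B).card = 2 by omega) with h | h
    · rw [Finset.card_eq_zero.1 h, Finset.sum_empty] at hI
      exact zero_ne_one hI
    · obtain ⟨p, q, hpq, e⟩ := Finset.card_eq_two.1 h
      have h1 := hpm p (e ▸ Finset.mem_insert_self _ _)
      have h2 := hpm q (e ▸ Finset.mem_insert_of_mem (Finset.mem_singleton_self _))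
      rw [e, Finset.sum_pair hpq] at hI
      omega
  have hxI : x ∈ A ∩ B := hx ▸ Finset.mem_singleton_self x
  obtain ⟨hxA, hxB⟩ := Finset.mem_inter.1 hxI
  obtain ⟨hxo, hax⟩ := (mA x).1 hxA
  rw [hx, Finset.sum_singleton] at hI
  have hbx : b x = a x := by
    rcases (hva x hxo).resolve_left hax with e | e <;> rw [e] at hI ⊢ <;> linarith
  obtain ⟨y, hy⟩ := Finset.card_eq_one.1
    (show (A.erase x).card = 1 by rw [Finset.card_erase_of_mem hxA, hca])
  obtain ⟨z, w, hzw, hzw'⟩ := Finset.card_eq_two.1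
    (show (B.erase x).card = 2 by rw [Finset.card_erase_of_mem hxB, hcb])
  obtain ⟨hyx, hyA⟩ := Finset.mem_erase.1 (hy ▸ Finset.mem_singleton_self y : y ∈ A.erase x)
  obtain ⟨hzx, hzB⟩ := Finset.mem_erase.1 (hzw' ▸ Finset.mem_insert_self _ _ : z ∈ B.erase x)
  obtain ⟨hwx, hwB⟩ := Finset.mem_erase.1
    (hzw' ▸ Finset.mem_insert_of_mem (Finset.mem_singleton_self _) : w ∈ B.erase x)
  have hyB : y ∉ B := fun h => hyx (Finset.mem_singleton.1 (hx ▸ Finset.mem_inter.2 ⟨hyA, h⟩))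
  have hyo := ((mA y).1 hyA).1
  have hzo := ((mB z).1 hzB).1
  have hwo := ((mB w).1 hwB).1
  have hby : b y = 0 := by
    by_contra h
    exact hyB ((mB y).2 ⟨hyo, h⟩)
  have hyz : y ≠ z := fun h => hyB (h ▸ hzB)
  have hyw : y ≠ w := fun h => hyB (h ▸ hwB)
  refine ⟨![x, y, z, w], ![a x, a y, b z, b w], ?_, ?_, ⟨hbx, hby, rfl, rfl⟩, ?_, ?_⟩
  · intro i j
    fin_cases i <;> fin_cases j <;>
      simp [hyx, hyx.symm, hzx, hzx.symm, hwx, hwx.symm, hyz, hyz.symm, hyw, hyw.symm, hzw, hzw.symm]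
  · intro k
    fin_cases k
    exacts [⟨hxo, (hva x hxo).resolve_left hax⟩, ⟨hyo, (hva y hyo).resolve_left ((mA y).1 hyA).2⟩,
      ⟨hzo, (hvb z hzo).resolve_left ((mB z).1 hzB).2⟩, ⟨hwo, (hvb w hwo).resolve_left ((mB w).1 hwB).2⟩]
  · intro F
    rw [← Finset.sum_subset (Finset.subset_univ ({o, x, y} : Finset ι)) fun i _ hi => ?_]
    · rw [Finset.sum_insert (by simp [hxo.symm, hyo.symm]), Finset.sum_pair hyx.symm, ha0]
      simp
      ring
    · simp only [Finset.mem_insert, Finset.mem_singleton, not_or] at hi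
      have : a i = 0 := by
        by_contra h
        exact hi.2.2 (Finset.mem_singleton.1
          (hy ▸ Finset.mem_erase.2 ⟨hi.2.1, (mA i).2 ⟨hi.1, h⟩⟩))
      simp [this]
  · intro F
    rw [← Finset.sum_subset (Finset.subset_univ ({o, x, z, w} : Finset ι)) fun i _ hi => ?_]
    · rw [Finset.sum_insert (by simp [hxo.symm, hzo.symm, hwo.symm]),
        Finset.sum_insert (by simp [hzx.symm, hwx.symm]), Finset.sum_pair hzw, hb0]
      simp [hbx]
      ring
    · simp only [Finset.mem_insert, Finset.mem_singleton, not_or] at hi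
      have : b i = 0 := by
        by_contra h
        have h2 : i ∈ B.erase x := Finset.mem_erase.2 ⟨hi.2.1, (mB i).2 ⟨hi.1, h⟩⟩
        rw [hzw'] at h2
        simp [hi.2.2.1, hi.2.2.2] at h2
      simp [this]

variable {G : Type u} [Group G] [Fintype G] {S : Sylow 2 G} {m : ℕ} (K : Sd G S m)

/-- The induced functions have degree zero, also on the principal block. -/
theorem sums_zero {M : Ideal AlgInt} (hM : IsPModular 2 M) (R : Ret K) {f : G → ℂ}
    (hf : RotFun K f) (hg : IsGeneralizedCharacter (S : Subgroup G) (fun p => f p))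
    (c : IrrCharacter G → ℤ)
    (hc : ∀ χ : IrrCharacter G, classInner (indRot R f) (χ : G → ℂ) = c χ) :
    ∑ χ : IrrCharacter G, (c χ : ℂ) * (χ : G → ℂ) 1 = 0 ∧
      ∑ χ : IrrCharacter G, (c χ : ℂ) * (if χ ∈ principalBlock M G then (χ : G → ℂ) 1 else 0) = 0 := by
  haveI : Fact (Nat.Prime 2) := ⟨Nat.prime_two⟩
  have hone : ∀ u z : G, IsPPart 2 u z → IsConj (1 : G) z → indRot R f u = 0 := by
    intro u z hu h1
    refine indRot_small R hf fun w hw => ?_
    rw [IsPPart.unique Nat.prime_two hw hu, isConj_one_right.1 h1, orderOf_one]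
    exact one_dvd _
  have hu1 : IsPPart 2 (1 : G) 1 := ⟨1, one_mul 1, Commute.one_left 1, ⟨0, by simp⟩, by simp⟩
  refine ⟨?_, ?_⟩
  · have h := congrFun (classFunction_eq_sum
      (isClassFunction_of_isGeneralizedCharacter (isGen_indRot K R hg))) 1
    rw [Finset.sum_apply, hone 1 1 hu1 (IsConj.refl 1)] at h
    simp only [Pi.smul_apply, smul_eq_mul, hc] at h
    exact h.symm
  · have h := blockPart_eq_zero_of_section hM (isPBlock_principalBlock M) hone hu1 (IsConj.refl 1)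
    rw [blockPart_eq_sum, Finset.sum_filter] at h
    refine Eq.trans (Finset.sum_congr rfl fun χ _ => ?_) h
    rw [hc]; split_ifs <;> simp

theorem exists_shape [IsSimpleGroup G]
    (hnc : ∀ χ : IrrCharacter G, (χ : G → ℂ) 1 = 1 → χ = principalIrr G)
    (R : Ret K) {M : Ideal AlgInt} (hM : IsPModular 2 M) :
    ∃ (χ : Fin 4 → IrrCharacter G) (e : Fin 4 → ℤ) (d : Fin 4 → ℕ), Function.Injective χ ∧
      (∀ i, χ i ≠ principalIrr G ∧ χ i ∈ principalBlock M G ∧ (e i = 1 ∨ e i = -1) ∧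
        (χ i : G → ℂ) 1 = d i) ∧
      indRot R (thetaFun K) =
        (fun g => 1 + (e 0 : ℂ) * (χ 0 : G → ℂ) g + (e 1 : ℂ) * (χ 1 : G → ℂ) g) ∧
      indRot R (thetaZero K) = (fun g => 1 + (e 0 : ℂ) * (χ 0 : G → ℂ) g +
        (e 2 : ℂ) * (χ 2 : G → ℂ) g + (e 3 : ℂ) * (χ 3 : G → ℂ) g) ∧
      ¬ 2 ∣ d 0 ∧ 2 ∣ d 1 ∧ ¬ 2 ∣ d 2 ∧ ¬ 2 ∣ d 3 := by
  haveI : Fact (Nat.Prime 2) := ⟨Nat.prime_two⟩
  have hΘ := isGen_indRot K R (isGen_thetaFun K)
  have hZ := isGen_indRot K R (isGen_thetaZero K)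
  have hΘc := isClassFunction_of_isGeneralizedCharacter hΘ
  have hZc := isClassFunction_of_isGeneralizedCharacter hZ
  choose a ha using (isGeneralizedCharacter_iff.mp hΘ).2
  choose b hb using (isGeneralizedCharacter_iff.mp hZ).2
  have hp : ((principalIrr G : IrrCharacter G) : G → ℂ) = fun _ => 1 := funext principalIrr_apply
  have ha0 : a (principalIrr G) = 1 := by
    have h := ha (principalIrr G)
    rw [hp, theta_one K R] at h
    exact_mod_cast h.symm
  have hb0 : b (principalIrr G) = 1 := by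
    have h := hb (principalIrr G)
    rw [hp, zero_one K R] at h
    exact_mod_cast h.symm
  have h3 : ∑ χ, a χ ^ 2 = 3 := by
    have h := (classInner_self_eq_sum_sq hΘc ha).symm.trans (norm_theta K R)
    exact_mod_cast h
  have h4 : ∑ χ, b χ ^ 2 = 4 := by
    have h := (classInner_self_eq_sum_sq hZc hb).symm.trans (norm_zero K R)
    exact_mod_cast h
  have h2 : ∑ χ, a χ * b χ = 2 := by
    have h := inner_theta_zero K R
    rw [classInner_eq_sum_mul hZc] at h
    simp only [ha, hb, map_intCast] at h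
    exact_mod_cast h
  obtain ⟨χ, e, hinj, hne, ⟨hb_0, hb_1, hb_2, hb_3⟩, hA, hB⟩ := split_three_four ha0 hb0 h3 h4 h2
  choose d hd using fun i => exists_degree (irr_isCharacter (χ i))
  have hd0 : ∀ i, (d i : ℂ) ≠ 0 := fun i => hd i ▸ irr_one_ne_zero (χ i)
  have hd1 : ∀ i, (d i : ℂ) ≠ 1 := fun i h => (hne i).1 (hnc _ ((hd i).trans h))
  have he2 : ∀ i, (e i : ℂ) * (e i : ℂ) = 1 := fun i => by
    rcases (hne i).2 with h | h <;> simp [h]
  have he0 : ∀ i, (e i : ℂ) ≠ 0 := fun i h => by simpa [h] using he2 i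
  have hlone : ∀ i, 1 + (e i : ℂ) * d i ≠ 0 := by
    intro i h
    rcases (hne i).2 with h' | h' <;> rw [h'] at h <;> push_cast at h
    · have : ((d i + 1 : ℕ) : ℂ) = 0 := by push_cast; linear_combination h
      exact absurd (Nat.cast_eq_zero.1 this) (by omega)
    · exact hd1 i (by linear_combination -h)
  obtain ⟨hΘ1, hΘB⟩ := sums_zero K hM R (rotFun_theta K) (isGen_thetaFun K) a ha
  obtain ⟨hZ1, hZB⟩ := sums_zero K hM R (rotFun_zero K) (isGen_thetaZero K) b hb
  rw [hA] at hΘ1 hΘB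
  rw [hB] at hZ1 hZB
  simp only [principalIrr_apply, hd, if_pos (principalIrr_mem hM)] at hΘ1 hΘB hZ1 hZB
  have m0 : χ 0 ∈ principalBlock M G ∧ χ 1 ∈ principalBlock M G := by
    by_cases p0 : χ 0 ∈ principalBlock M G <;> by_cases p1 : χ 1 ∈ principalBlock M G <;>
      simp only [p0, p1, if_true, if_false, mul_zero, add_zero] at hΘB
    · exact ⟨p0, p1⟩
    · exact absurd hΘB (hlone 0)
    · exact absurd hΘB (hlone 1)
    · exact absurd hΘB one_ne_zero
  have m23 : χ 2 ∈ principalBlock M G ∧ χ 3 ∈ principalBlock M G := by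
    by_cases p2 : χ 2 ∈ principalBlock M G <;> by_cases p3 : χ 3 ∈ principalBlock M G <;>
      simp only [m0.1, p2, p3, if_true, if_false, mul_zero, add_zero] at hZB
    · exact ⟨p2, p3⟩
    · exact absurd (show (e 3 : ℂ) * d 3 = 0 by linear_combination hZ1 - hZB)
        (mul_ne_zero (he0 3) (hd0 3))
    · exact absurd (show (e 2 : ℂ) * d 2 = 0 by linear_combination hZ1 - hZB)
        (mul_ne_zero (he0 2) (hd0 2))
    · exact absurd hZB (hlone 0)
  have hpar : ∀ i, χ i ∈ principalBlock M G → 2 ∣ (d i : ℤ) - b (χ i) := by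
    intro i hi
    obtain ⟨d', a', b', hd', ha', -, hdvd⟩ := theta_parity K hM R hi
    have e1 : d i = d' := by exact_mod_cast (hd i).symm.trans hd'
    have e2 : b (χ i) = a' := by exact_mod_cast (hb _).symm.trans ha'
    rw [e1, e2]
    exact hdvd
  have expand : ∀ {φ : G → ℂ} (c : IrrCharacter G → ℤ), IsClassFunction G φ →
      (∀ ψ : IrrCharacter G, classInner φ (ψ : G → ℂ) = c ψ) →
      ∀ g, φ g = ∑ ψ, (c ψ : ℂ) * (ψ : G → ℂ) g := fun {φ} c hφ hc g => by
    conv_lhs => rw [classFunction_eq_sum hφ]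
    simp only [Finset.sum_apply, Pi.smul_apply, smul_eq_mul, hc]
  refine ⟨χ, e, d, hinj, fun i => ⟨(hne i).1, ?_, (hne i).2, hd i⟩, funext fun g => ?_,
    funext fun g => ?_, ?_, ?_, ?_, ?_⟩
  · fin_cases i
    exacts [m0.1, m0.2, m23.1, m23.2]
  · rw [expand a hΘc ha g, hA, principalIrr_apply]
  · rw [expand b hZc hb g, hB, principalIrr_apply]
  · have h := hpar 0 m0.1
    rw [hb_0] at h
    rcases (hne 0).2 with h' | h' <;> rw [h'] at h <;> omega
  · have h := hpar 1 m0.2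
    rw [hb_1] at h
    omega
  · have h := hpar 2 m23.1
    rw [hb_2] at h
    rcases (hne 2).2 with h' | h' <;> rw [h'] at h <;> omega
  · have h := hpar 3 m23.2
    rw [hb_3] at h
    rcases (hne 3).2 with h' | h' <;> rw [h'] at h <;> omega

end CfsgLib.SDCyclic
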