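import Cfsg.Agent.Lib.SDCyclic.Columns
import Cfsg.Agent.Lib.SDCyclic.Shape
import Cfsg.Agent.Lib.SDCyclic.Arith

/-!
The two possible sets of values of the four exceptional characters at the central involution.
-/

set_option autoImplicit false
set_option linter.unusedSectionVars false
set_option linter.style.haveILetI false

namespace CfsgLib.SDCyclic.Ctx

open Cfsg CfsgLib.QuatDefect CfsgLib.Characters CfsgLib.Blocks
open scoped ComplexConjugate Classical

universe u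

variable {G : Type u} [Group G] [Fintype G] {p m : ℕ} [Fact p.Prime] (X : Ctx G p m)
variable {M : Ideal AlgInt}

theorem isPPart_z : IsPPart 2 X.z X.z :=
  ⟨1, mul_one _, Commute.one_right _, X.hz_pow, by rw [orderOf_one]; norm_num⟩

theorem isPPart_zv {v : X.C} (hvo : Odd (orderOf v)) : IsPPart 2 (X.z * (v : G)) X.z :=
  isPPart_mul (commute_centralizer v) X.hz_pow (by
    rw [Subgroup.orderOf_coe]
    exact fun e => (Nat.not_even_iff_odd.2 hvo) (even_iff_two_dvd.2 e))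

theorem indRot_z_zero (R : Ret X.K) {f : G → ℂ} (hf : RotFun X.K f) {g : G}
    (hg : IsPPart 2 g X.z) : indRot R f g = 0 :=
  indRot_small R hf fun w hw => by rw [IsPPart.unique Nat.prime_two hw hg, X.z_two]

theorem odd_sq {x : ℤ} (hx : x % 2 = 1) : 1 ≤ x ^ 2 := by
  rcases lt_or_gt_of_ne (show x ≠ 0 by omega) with h | h <;> nlinarith

/-- The first column. -/
theorem first_col {a₀ a₁ a₂ a₃ r : ℤ} (o0 : a₀ % 2 = 1) (o2 : a₂ % 2 = 1) (o3 : a₃ % 2 = 1)
    (h1 : a₁ = -1 - a₀) (h23 : a₂ + a₃ = -1 - a₀) (hr : 0 ≤ r)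
    (h8 : 1 ^ 2 + (a₀ ^ 2 + a₁ ^ 2 + a₂ ^ 2 + a₃ ^ 2) + r ≤ 8) :
    (a₀ = 1 ∧ a₁ = -2 ∧ a₂ = -1 ∧ a₃ = -1 ∧ r = 0) ∨
      (a₀ = -1 ∧ a₁ = 0 ∧ ((a₂ = 1 ∧ a₃ = -1) ∨ (a₂ = -1 ∧ a₃ = 1))) := by
  have b2 := odd_sq o2
  have b3 := odd_sq o3
  have h0 : a₀ = 1 ∨ a₀ = -1 := by
    have : a₀ ^ 2 + a₁ ^ 2 ≤ 5 := by linarith
    rw [h1] at this
    have u : a₀ ≤ 1 := by nlinarith
    have l : -2 ≤ a₀ := by nlinarith
    omega
  rcases h0 with rfl | rfl
  · have e : a₁ = -2 := by omega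
    rw [e] at h8
    have u2 : a₂ ≤ 1 := by nlinarith
    have l2 : -1 ≤ a₂ := by nlinarith
    have u3 : a₃ ≤ 1 := by nlinarith
    have l3 : -1 ≤ a₃ := by nlinarith
    have e2 : a₂ = -1 := by omega
    have e3 : a₃ = -1 := by omega
    rw [e2, e3] at h8
    exact Or.inl ⟨rfl, e, e2, e3, by linarith⟩
  · have e : a₁ = 0 := by omega
    rw [e, show a₃ = -a₂ by omega] at h8
    have : a₂ ^ 2 ≤ 3 := by linarith
    have u2 : a₂ ≤ 1 := by nlinarith
    have l2 : -1 ≤ a₂ := by nlinarith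
    exact Or.inr ⟨rfl, e, by omega⟩

theorem second_col {a b r r' : ℤ}
    (h : (2 * 0 - 1) ^ 2 + ((2 * -a - -1) ^ 2 + (2 * a - 0) ^ 2 + (2 * (1 + b) - 1) ^ 2 +
      (2 * (a - 1 - b) - -1) ^ 2) + r ≤ 4 * (r' + 2)) (hr : 4 * r' ≤ r) :
    b * b + b - a * b + a * a - a ≤ 0 := by
  have h1 : 2 * (b * b + b - a * b + a * a - a) + a ^ 2 ≤ 1 := by linarith
  nlinarith [sq_nonneg a]

/-- The second column at a member of height one. -/
theorem height_one_sq {q c c' : ℤ} {n : ℕ} (hq : q % 4 = 3) (h2 : 2 ∣ n) (h4 : ¬ 4 ∣ n)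
    (h : (4 : ℤ) ∣ (n : ℤ) - (c + (q - 1) * c')) : 4 ≤ (2 * c' - c) ^ 2 := by
  obtain ⟨j, hj⟩ : ∃ j, q - 1 = 4 * j + 2 := ⟨(q - 1) / 4, by omega⟩
  rw [hj] at h
  obtain ⟨r, hr⟩ := h
  obtain ⟨k, hk⟩ : ∃ k, c = 2 * k := by
    refine ⟨c / 2, ?_⟩
    have : c = (n : ℤ) - 4 * r - 2 * (2 * (j * c') + c') := by linear_combination -hr
    omega
  subst hk
  have h' : (n : ℤ) = 4 * (r + j * c') + 2 * (k + c') := by linear_combination hr
  have hne : c' - k ≠ 0 := by intro e0; omega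
  rcases lt_or_gt_of_ne hne with h'' | h'' <;> nlinarith

set_option maxHeartbeats 1600000 in
theorem exists_cases [IsSimpleGroup G]
    (hnc : ∀ χ : IrrCharacter G, (χ : G → ℂ) 1 = 1 → χ = principalIrr G) (hM : IsPModular 2 M)
    (R : Ret X.K) {u : Matrix.SpecialLinearGroup (Fin 2) (ZMod p)} (hu : orderOf u = p) {v : X.C}
    (hv : X.π v = X.Q.emb u) (hvo : Odd (orderOf v)) :
    ∃ (χ : Fin 4 → IrrCharacter G) (e : Fin 4 → ℤ) (d : Fin 4 → ℕ), Function.Injective χ ∧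
      (∀ i, χ i ≠ principalIrr G ∧ χ i ∈ principalBlock M G ∧ (e i = 1 ∨ e i = -1) ∧
        (χ i : G → ℂ) 1 = d i) ∧
      indRot R (thetaFun X.K) =
        (fun g => 1 + (e 0 : ℂ) * (χ 0 : G → ℂ) g + (e 1 : ℂ) * (χ 1 : G → ℂ) g) ∧
      indRot R (thetaZero X.K) = (fun g => 1 + (e 0 : ℂ) * (χ 0 : G → ℂ) g +
        (e 2 : ℂ) * (χ 2 : G → ℂ) g + (e 3 : ℂ) * (χ 3 : G → ℂ) g) ∧
      ¬ 2 ∣ d 0 ∧ 2 ∣ d 1 ∧ ¬ 2 ∣ d 2 ∧ ¬ 2 ∣ d 3 ∧
      (1 + e 0 * d 0 + e 1 * d 1 = 0) ∧ (1 + e 0 * d 0 + e 2 * d 2 + e 3 * d 3 = 0) ∧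
      (((e 0 : ℂ) * (χ 0 : G → ℂ) X.z = -1 ∧ (χ 1 : G → ℂ) X.z = 0) ∨
        ((e 0 : ℂ) * (χ 0 : G → ℂ) X.z = -(X.q : ℂ) ∧
          (e 1 : ℂ) * (χ 1 : G → ℂ) X.z = (X.q : ℂ) - 1 ∧
          (e 2 : ℂ) * (χ 2 : G → ℂ) X.z = (X.q : ℂ) ∧
          (e 3 : ℂ) * (χ 3 : G → ℂ) X.z = -1 ∧
          (e 0 : ℂ) * (χ 0 : G → ℂ) (X.z * (v : G)) = 0 ∧
          (e 1 : ℂ) * (χ 1 : G → ℂ) (X.z * (v : G)) = -1)) := by
  haveI : Fact (Nat.Prime 2) := ⟨Nat.prime_two⟩
  obtain ⟨χ, e, d, hinj, hmem, hΘ, hZ, p0, p1, p2, p3⟩ := exists_shape X.K hnc R hM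
  have hB : ∀ i, χ i ∈ principalBlock M G := fun i => (hmem i).2.1
  have hd : ∀ i, (χ i : G → ℂ) 1 = d i := fun i => (hmem i).2.2.2
  have he : ∀ i, e i = 1 ∨ e i = -1 := fun i => (hmem i).2.2.1
  choose! deg c₁ c₂ hdeg hz hzv h4 using
    fun (ψ : IrrCharacter G) (hψ : ψ ∈ principalBlock M G) => X.exists_cols hM hψ hu hv hvo
  obtain ⟨hs1, hs2⟩ := X.sum_d1 hM hu hv hvo c₁ c₂ hz hzv
  set S0 := Finset.univ.filter (· ∈ principalBlock M G) with hS0
  have hone : principalIrr G ∈ principalBlock M G := principalIrr_mem hM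
  -- the principal character
  have hq := X.q_mod
  obtain ⟨c1one, c2one⟩ : c₁ (principalIrr G) = 1 ∧ c₂ (principalIrr G) = 0 := by
    have a := hz _ hone
    have b := hzv _ hone
    rw [principalIrr_apply] at a b
    have a' : c₁ (principalIrr G) + (X.q - 1) * c₂ (principalIrr G) = 1 := by exact_mod_cast a.symm
    have b' : c₁ (principalIrr G) - c₂ (principalIrr G) = 1 := by exact_mod_cast b.symm
    have h : X.q * c₂ (principalIrr G) = 0 := by linear_combination a' - b'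
    have h' := (mul_eq_zero.1 h).resolve_left X.q_ne
    omega
  -- the signed columns
  obtain ⟨A, hA⟩ : ∃ A : Fin 4 → ℤ, ∀ i, A i = e i * c₁ (χ i) := ⟨_, fun i => rfl⟩
  obtain ⟨L, hL⟩ : ∃ L : Fin 4 → ℤ, ∀ i, L i = e i * c₂ (χ i) := ⟨_, fun i => rfl⟩
  have hdd : ∀ i, deg (χ i) = d i := fun i => by
    exact_mod_cast (hdeg _ (hB i)).symm.trans (hd i)
  have heven : (2 : ℤ) ∣ X.q - 1 := by omega
  have hpar : ∀ i, (A i % 2 = 0 ↔ (d i : ℤ) % 2 = 0) := fun i => by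
    have h := h4 _ (hB i)
    rw [hdd] at h
    obtain ⟨k, hk⟩ := heven.mul_right (c₂ (χ i))
    rw [hA]
    rcases he i with ee | ee <;> rw [ee] <;> omega
  have rz : ∀ i, (e i : ℂ) * (χ i : G → ℂ) X.z = ((A i + (X.q - 1) * L i : ℤ) : ℂ) := fun i => by
    rw [hz _ (hB i), hA, hL]; push_cast; ring
  have rzv : ∀ i, (e i : ℂ) * (χ i : G → ℂ) (X.z * (v : G)) = ((A i - L i : ℤ) : ℂ) := fun i => by
    rw [hzv _ (hB i), hA, hL]; push_cast; ring
  -- the relations from the three zeros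
  have t1 := congrFun hΘ X.z
  have t2 := congrFun hΘ (X.z * (v : G))
  have t3 := congrFun hZ X.z
  have t4 := congrFun hZ (X.z * (v : G))
  simp only [X.indRot_z_zero R (rotFun_theta X.K) X.isPPart_z,
    X.indRot_z_zero R (rotFun_theta X.K) (X.isPPart_zv hvo),
    X.indRot_z_zero R (rotFun_zero X.K) X.isPPart_z,
    X.indRot_z_zero R (rotFun_zero X.K) (X.isPPart_zv hvo), rz, rzv] at t1 t2 t3 t4
  have t1' : 1 + (A 0 + (X.q - 1) * L 0) + (A 1 + (X.q - 1) * L 1) = 0 := by exact_mod_cast t1.symm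
  have t2' : 1 + (A 0 - L 0) + (A 1 - L 1) = 0 := by exact_mod_cast t2.symm
  have t3' : 1 + (A 0 + (X.q - 1) * L 0) + (A 2 + (X.q - 1) * L 2) + (A 3 + (X.q - 1) * L 3) = 0 := by
    exact_mod_cast t3.symm
  have t4' : 1 + (A 0 - L 0) + (A 2 - L 2) + (A 3 - L 3) = 0 := by exact_mod_cast t4.symm
  have hL01 : L 0 + L 1 = 0 :=
    (mul_eq_zero.1 (show X.q * (L 0 + L 1) = 0 by linear_combination t1' - t2')).resolve_left X.q_ne
  have hL023 : L 0 + L 2 + L 3 = 0 :=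
    (mul_eq_zero.1 (show X.q * (L 0 + L 2 + L 3) = 0 by linear_combination t3' - t4')).resolve_left
      X.q_ne
  have hg : ∀ w : G, IsPPart 2 (1 : G) w → orderOf w ∣ 2 := fun w hw => by
    rw [IsPPart.unique Nat.prime_two hw
      ⟨1, one_mul 1, Commute.one_left 1, ⟨0, by simp⟩, by simp⟩, orderOf_one]
    exact one_dvd _
  have u1 := congrFun hΘ 1
  have u2 := congrFun hZ 1
  simp only [indRot_small R (rotFun_theta X.K) hg, indRot_small R (rotFun_zero X.K) hg, hd] at u1 u2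
  have u1' : 1 + e 0 * d 0 + e 1 * d 1 = 0 := by exact_mod_cast u1.symm
  have u2' : 1 + e 0 * d 0 + e 2 * d 2 + e 3 * d 3 = 0 := by exact_mod_cast u2.symm
  -- five members of the block
  have hnot : principalIrr G ∉ Finset.univ.image χ := by
    simp only [Finset.mem_image, Finset.mem_univ, true_and, not_exists]
    exact fun i => (hmem i).1
  have hsub : insert (principalIrr G) (Finset.univ.image χ) ⊆ S0 := by
    intro ψ hψ
    refine Finset.mem_filter.2 ⟨Finset.mem_univ _, ?_⟩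
    rcases Finset.mem_insert.1 hψ with rfl | h
    · exact hone
    · obtain ⟨i, -, rfl⟩ := Finset.mem_image.1 h
      exact hB i
  have five : ∀ f : IrrCharacter G → ℤ, ∑ ψ ∈ S0, f ψ = f (principalIrr G) +
      (f (χ 0) + f (χ 1) + f (χ 2) + f (χ 3)) +
        ∑ ψ ∈ S0 \ insert (principalIrr G) (Finset.univ.image χ), f ψ := fun f => by
    rw [← Finset.sum_sdiff hsub, Finset.sum_insert hnot,
      Finset.sum_image fun a _ b _ h => hinj h, Fin.sum_univ_four]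
    ring
  have hsq : ∀ i, c₁ (χ i) ^ 2 = A i ^ 2 := fun i => by
    rw [hA]; rcases he i with ee | ee <;> rw [ee] <;> ring
  have h8 := five (fun ψ => c₁ ψ ^ 2)
  simp only [c1one, hsq] at h8
  have hrest : 0 ≤ ∑ ψ ∈ S0 \ insert (principalIrr G) (Finset.univ.image χ), c₁ ψ ^ 2 :=
    Finset.sum_nonneg fun _ _ => sq_nonneg _
  -- parities
  have o0 : A 0 % 2 = 1 := by have := hpar 0; omega
  have o2 : A 2 % 2 = 1 := by have := hpar 2; omega
  have o3 : A 3 % 2 = 1 := by have := hpar 3; omega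
  rcases first_col o0 o2 o3 (a₁ := A 1) (by linarith only [t2', hL01]) (by linarith only [t4', hL023])
    hrest (h8 ▸ hs1) with ⟨hA0, hA1, hA2, hA3, hr⟩ | ⟨hA0, hA1, e23⟩
  · -- the first value is impossible
    exfalso
    have hzero : ∀ ψ ∈ S0 \ insert (principalIrr G) (Finset.univ.image χ), c₁ ψ = 0 := fun ψ hψ =>
      pow_eq_zero_iff two_ne_zero |>.1
        ((Finset.sum_eq_zero_iff_of_nonneg fun _ _ => sq_nonneg _).1 hr ψ hψ)
    have w : ∀ g : G, IsPPart 2 g X.z →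
        ∑ ψ ∈ S0, (ψ : G → ℂ) 1 * conj ((ψ : G → ℂ) g) = 0 := fun g hgz =>
      weak_orth hM (isPBlock_principalBlock M) (x := (1 : G)) (by rw [orderOf_one]; norm_num) (by
        obtain ⟨y, hy, hc, -, hyo⟩ := hgz
        rw [← hy, hc.orderOf_mul_eq_mul_orderOf_of_coprime, X.z_two]
        · exact dvd_mul_right _ _
        · rw [X.z_two]
          exact (Nat.Prime.coprime_iff_not_dvd Nat.prime_two).2 hyo)
    have w1 := w _ X.isPPart_z
    have w2 := w _ (X.isPPart_zv hvo)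
    rw [Finset.sum_congr rfl (g := fun ψ => (((deg ψ : ℤ) * (c₁ ψ + (X.q - 1) * c₂ ψ) : ℤ) : ℂ))
      fun ψ hψ => by
        have hψ' := (Finset.mem_filter.1 hψ).2
        rw [hdeg _ hψ', hz _ hψ', map_intCast]; push_cast; ring] at w1
    rw [Finset.sum_congr rfl (g := fun ψ => (((deg ψ : ℤ) * (c₁ ψ - c₂ ψ) : ℤ) : ℂ))
      fun ψ hψ => by
        have hψ' := (Finset.mem_filter.1 hψ).2
        rw [hdeg _ hψ', hzv _ hψ', map_intCast]; push_cast; ring] at w2
    rw [← Int.cast_sum, Int.cast_eq_zero] at w1 w2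
    have hT : ∑ ψ ∈ S0, (deg ψ : ℤ) * c₁ ψ = 0 := by
      have e1 : X.q * ∑ ψ ∈ S0, (deg ψ : ℤ) * c₁ ψ =
          ∑ ψ ∈ S0, (deg ψ : ℤ) * (c₁ ψ + (X.q - 1) * c₂ ψ) +
            (X.q - 1) * ∑ ψ ∈ S0, (deg ψ : ℤ) * (c₁ ψ - c₂ ψ) := by
        rw [Finset.mul_sum, Finset.mul_sum, ← Finset.sum_add_distrib]
        exact Finset.sum_congr rfl fun ψ _ => by ring
      rw [w1, w2, mul_zero, add_zero] at e1
      exact (mul_eq_zero.1 e1).resolve_left X.q_ne
    rw [five, Finset.sum_eq_zero fun ψ hψ => by rw [hzero ψ hψ, mul_zero], add_zero] at hT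
    have hdeg1 : deg (principalIrr G) = 1 := by
      have := hdeg _ hone
      rw [principalIrr_apply] at this
      exact_mod_cast this.symm
    have prodA : ∀ i, (deg (χ i) : ℤ) * c₁ (χ i) = e i * d i * A i := fun i => by
      rw [hdd, hA]; rcases he i with ee | ee <;> rw [ee] <;> ring
    rw [prodA, prodA, prodA, prodA, hdeg1, c1one, hA0, hA1, hA2, hA3] at hT
    push_cast at hT
    have hX : e 0 * (d 0 : ℤ) = -1 := by linarith [u1', u2']
    have : d 0 = 1 := by rcases he 0 with ee | ee <;> rw [ee] at hX <;> omega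
    exact (hmem 0).1 (hnc _ (by rw [hd, this, Nat.cast_one]))
  · -- the remaining case
    -- the second column
    have key : ∀ a b, L 0 = -a → L 1 = a → A 0 = -1 → A 1 = 0 →
        ((A 2 = 1 ∧ A 3 = -1 ∧ L 2 = 1 + b ∧ L 3 = a - 1 - b) ∨
          (A 3 = 1 ∧ A 2 = -1 ∧ L 3 = 1 + b ∧ L 2 = a - 1 - b)) →
        b * b + b - a * b + a * a - a ≤ 0 := by
      intro a b hl0 hl1 ha0 ha1 hcase
      set H1 := S0.filter fun ψ : IrrCharacter G => 2 ∣ charDegree (ψ : G → ℂ) ∧ ¬ 4 ∣ charDegree (ψ : G → ℂ)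
      have hH : H1.card = 2 ^ m - 1 := by
        rw [← (X.heights hM).2, Nat.card_eq_fintype_card, Fintype.card_subtype]
        exact congrArg Finset.card (Finset.filter_filter _ _ _)
      have hcd : ∀ ψ ∈ principalBlock M G, charDegree (ψ : G → ℂ) = deg ψ := fun ψ hψ => by
        rw [charDegree, hdeg _ hψ]; simp
      have hge : ∀ ψ ∈ H1, 4 ≤ (2 * c₂ ψ - c₁ ψ) ^ 2 := by
        intro ψ hψ
        obtain ⟨h0, h2, h4'⟩ := Finset.mem_filter.1 hψ
        have hψ' := (Finset.mem_filter.1 h0).2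
        rw [hcd _ hψ'] at h2 h4'
        exact height_one_sq hq h2 h4' (h4 _ hψ')
      have hle : H1.erase (χ 1) ⊆ S0 \ insert (principalIrr G) (Finset.univ.image χ) := by
        intro ψ hψ
        obtain ⟨hne, hψ⟩ := Finset.mem_erase.1 hψ
        obtain ⟨h0, h2, -⟩ := Finset.mem_filter.1 hψ
        refine Finset.mem_sdiff.2 ⟨h0, fun hmem' => ?_⟩
        rcases Finset.mem_insert.1 hmem' with rfl | h'
        · rw [charDegree, principalIrr_apply] at h2
          norm_num at h2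
        · obtain ⟨i, -, rfl⟩ := Finset.mem_image.1 h'
          rw [hcd _ (hB i), hdd] at h2
          fin_cases i
          exacts [p0 h2, hne rfl, p2 h2, p3 h2]
      have hw : ∀ i, (2 * c₂ (χ i) - c₁ (χ i)) ^ 2 = (2 * L i - A i) ^ 2 := fun i => by
        rw [hA, hL]; rcases he i with ee | ee <;> rw [ee] <;> ring
      have hbound := five (fun ψ => (2 * c₂ ψ - c₁ ψ) ^ 2)
      simp only [hw, c1one, c2one] at hbound
      have hlow : 4 * ((2 : ℤ) ^ m - 2) ≤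
          ∑ ψ ∈ S0 \ insert (principalIrr G) (Finset.univ.image χ), (2 * c₂ ψ - c₁ ψ) ^ 2 := by
        refine le_trans ?_ (Finset.sum_le_sum_of_subset_of_nonneg hle fun _ _ _ => sq_nonneg _)
        have hc := Finset.pred_card_le_card_erase (s := H1) (a := χ 1)
        have h1 := Finset.card_nsmul_le_sum (H1.erase (χ 1)) (fun ψ => (2 * c₂ ψ - c₁ ψ) ^ 2) 4
          fun ψ hψ => hge ψ (Finset.mem_of_mem_erase hψ)
        rw [nsmul_eq_mul] at h1
        refine le_trans ?_ h1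
        have h2m : 4 ≤ 2 ^ m :=
          le_trans (by norm_num) (Nat.pow_le_pow_right two_pos X.K.two_le)
        have : ((2 ^ m - 2 : ℕ) : ℤ) ≤ ((H1.erase (χ 1)).card : ℤ) := by exact_mod_cast (by omega)
        rw [Nat.cast_sub (by omega)] at this
        push_cast at this
        linarith
      rcases hcase with ⟨ha2, ha3, hl2, hl3⟩ | ⟨ha2, ha3, hl2, hl3⟩ <;>
        rw [hl0, hl1, hl2, hl3, ha0, ha1, ha2, ha3] at hbound <;>
        exact second_col (r' := 2 ^ m - 2) (by linarith only [hbound, hs2]) hlow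
    have fin0 : L 0 = 0 → (((e 0 : ℂ) * (χ 0 : G → ℂ) X.z = -1 ∧ (χ 1 : G → ℂ) X.z = 0)) := by
      intro h0
      refine ⟨?_, ?_⟩
      · rw [rz, hA0, h0]; simp
      · have h1 := rz 1
        rw [hA1, show L 1 = 0 by linarith] at h1
        simp only [mul_zero, add_zero, Int.cast_zero, mul_eq_zero] at h1
        refine h1.resolve_left fun h => ?_
        rcases he 1 with ee | ee <;> rw [ee] at h <;> simp at h
    rcases e23 with ⟨h2, h3⟩ | ⟨h2, h3⟩
    · have hab := Arith.pair_cases (key (L 1) (L 2 - 1) (by linarith) rfl hA0 hA1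
        (Or.inl ⟨h2, h3, by ring, by linarith⟩))
      refine ⟨χ, e, d, hinj, hmem, hΘ, hZ, p0, p1, p2, p3, u1', u2', ?_⟩
      rcases hab with hab | ⟨ha, hb⟩
      · exact Or.inl (fin0 (by linarith))
      · refine Or.inr ⟨?_, ?_, ?_, ?_, ?_, ?_⟩
        · rw [rz, hA0, show L 0 = -1 by linarith]; push_cast; ring
        · rw [rz, hA1, ha]; push_cast; ring
        · rw [rz, h2, show L 2 = 1 by linarith]; push_cast; ring
        · rw [rz, h3, show L 3 = 0 by linarith]; simp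
        · rw [rzv, hA0, show L 0 = -1 by linarith]; simp
        · rw [rzv, hA1, ha]; simp
    · have hab := Arith.pair_cases (key (L 1) (L 3 - 1) (by linarith) rfl hA0 hA1
        (Or.inr ⟨h3, h2, by ring, by linarith⟩))
      rcases hab with hab | ⟨ha, hb⟩
      · exact ⟨χ, e, d, hinj, hmem, hΘ, hZ, p0, p1, p2, p3, u1', u2', Or.inl (fin0 (by linarith))⟩
      · set σ : Fin 4 → Fin 4 := ![0, 1, 3, 2]
        have hσ : Function.Injective σ := by decide
        refine ⟨χ ∘ σ, e ∘ σ, d ∘ σ, hinj.comp hσ, fun i => hmem (σ i), ?_, ?_, p0, p1, p3, p2,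
          ?_, ?_, Or.inr ⟨?_, ?_, ?_, ?_, ?_, ?_⟩⟩
        · exact hΘ
        · rw [hZ]
          funext g
          show _ = 1 + (e 0 : ℂ) * (χ 0 : G → ℂ) g + (e 3 : ℂ) * (χ 3 : G → ℂ) g +
            (e 2 : ℂ) * (χ 2 : G → ℂ) g
          ring
        · exact u1'
        · show 1 + e 0 * d 0 + e 3 * d 3 + e 2 * d 2 = 0
          linarith
        · show (e 0 : ℂ) * (χ 0 : G → ℂ) X.z = _
          rw [rz, hA0, show L 0 = -1 by linarith]; push_cast; ring
        · show (e 1 : ℂ) * (χ 1 : G → ℂ) X.z = _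
          rw [rz, hA1, ha]; push_cast; ring
        · show (e 3 : ℂ) * (χ 3 : G → ℂ) X.z = _
          rw [rz, h3, show L 3 = 1 by linarith]; push_cast; ring
        · show (e 2 : ℂ) * (χ 2 : G → ℂ) X.z = _
          rw [rz, h2, show L 2 = 0 by linarith]; simp
        · show (e 0 : ℂ) * (χ 0 : G → ℂ) (X.z * (v : G)) = _
          rw [rzv, hA0, show L 0 = -1 by linarith]; simp
        · show (e 1 : ℂ) * (χ 1 : G → ℂ) (X.z * (v : G)) = _
          rw [rzv, hA1, ha]; simp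

end CfsgLib.SDCyclic.Ctx
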