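import Cfsg.Agent.Lib.SL2Char.Halves
import Cfsg.Agent.Lib.SL2Char.OrderP
import Cfsg.Agent.Lib.SL2Char.Blocks

/-!
A family of characters of `SL_2(p)` that are non-trivial on the odd part of a torus.
-/

set_option autoImplicit false

namespace CfsgLib.SDCyclic

open Matrix Cfsg
open CfsgLib.SL2Char CfsgLib.SL2Tori CfsgLib.Schur CfsgLib.Characters

/-- In a cyclic group, the number of elements outside the `2`-part. -/
theorem card_outside_twoPart {M : Type*} [CommGroup M] [IsCyclic M] [Fintype M] [DecidableEq M]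
    {N : ℕ} (hN : Nat.card M = N) :
    (Finset.univ.filter fun x : M => x ^ (2 ^ N.factorization 2) ≠ 1).card + 2 ^ N.factorization 2 = N := by
  classical
  set d := 2 ^ N.factorization 2 with hd
  have hk := IsCyclic.card_powMonoidHom_ker (G := M) d
  rw [hN, Nat.gcd_eq_right (Nat.ordProj_dvd N 2)] at hk
  have h := Finset.card_filter_add_card_filter_not (s := (Finset.univ : Finset M)) (fun x : M => x ^ d = 1)
  rw [Finset.card_univ, ← Nat.card_eq_fintype_card, hN] at h
  have hc : (Finset.univ.filter fun x : M => x ^ d = 1).card = d := by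
    rw [← Fintype.card_subtype, ← Nat.card_eq_fintype_card]
    exact hk ▸ Nat.card_congr (Equiv.subtypeEquivRight fun x => by simp)
  simp only [ne_eq] at *
  omega

/-- A family of functions indexed by a cyclic group up to inversion. -/
theorem exists_family_image {M B : Type*} [CommGroup M] [IsCyclic M] [Fintype M] {N : ℕ}
    (hN : Nat.card M = N) (h2 : 2 ∣ N) (f : M → B) (P : B → Prop)
    (hf : ∀ a b : M, a ^ 2 ≠ 1 → b ^ 2 ≠ 1 → (f a = f b ↔ b = a ∨ b = a⁻¹))
    (hP : ∀ a : M, a ^ (2 ^ N.factorization 2) ≠ 1 → a ^ 2 ≠ 1 → P (f a)) :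
    ∃ X : Finset B, 2 * X.card + 2 ^ N.factorization 2 = N ∧ ∀ b ∈ X, P b := by
  classical
  set d := 2 ^ N.factorization 2 with hd
  set A := Finset.univ.filter fun x : M => x ^ d ≠ 1 with hA
  have hN0 : N ≠ 0 := hN ▸ Nat.card_pos.ne'
  have h2d : 2 ∣ d := dvd_pow_self 2 (Nat.Prime.factorization_pos_of_dvd Nat.prime_two hN0 h2).ne'
  have hsq : ∀ a ∈ A, a ^ 2 ≠ 1 := fun a ha e => by
    obtain ⟨k, hk⟩ := h2d
    exact (Finset.mem_filter.1 ha).2 (by rw [hk, pow_mul, e, one_pow])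
  refine ⟨A.image f, ?_, fun b hb => ?_⟩
  · rw [two_mul_card_image A f (fun a => a⁻¹) (fun a ha => ⟨?_, ?_⟩)
      (fun a ha b hb => hf a b (hsq a ha) (hsq b hb))]
    · exact card_outside_twoPart hN
    · refine Finset.mem_filter.2 ⟨Finset.mem_univ _, ?_⟩
      rw [inv_pow]
      exact inv_ne_one.2 (Finset.mem_filter.1 ha).2
    · intro e
      exact hsq a ha (by rw [pow_two]; exact mul_eq_one_iff_eq_inv.2 e.symm)
  · obtain ⟨a, ha, rfl⟩ := Finset.mem_image.1 hb
    exact hP a (Finset.mem_filter.1 ha).2 (hsq a ha)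

/-- A generator raised to the `2`-part of the group order has odd order. -/
theorem odd_orderOf_pow {M : Type*} [Group M] [Finite M] (g : M) :
    Odd (orderOf (g ^ (2 ^ (Nat.card M).factorization 2))) := by
  have hN : Nat.card M ≠ 0 := Nat.card_pos.ne'
  have hd : orderOf (g ^ (2 ^ (Nat.card M).factorization 2)) ∣
      Nat.card M / 2 ^ (Nat.card M).factorization 2 := orderOf_dvd_of_pow_eq_one (by
    rw [← pow_mul, Nat.mul_div_cancel' (Nat.ordProj_dvd _ 2), pow_card_eq_one'])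
  exact Odd.of_dvd_nat (Nat.odd_iff.2 (by
    have := Nat.not_dvd_ordCompl Nat.prime_two hN
    omega)) hd

variable {F : Type*} [Field F]

local notation "SL2" => Matrix.SpecialLinearGroup (Fin 2) F
local notation "M2" => Matrix (Fin 2) (Fin 2) F

/-- The centralizer of a non-central torus element. -/
theorem centralizer_torus [Fintype F] {c x : SL2} {h : ℕ} (T : TorusGen c h)
    (hx : x ∈ Subgroup.zpowers c) (hsq : x ^ 2 ≠ 1) :
    Subgroup.centralizer ({x} : Set SL2) = Subgroup.zpowers c := by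
  have h1 : x ≠ 1 := fun e => hsq (by rw [e, one_pow])
  have hn : x ≠ -1 := fun e => hsq (by rw [e, neg_one_sq])
  refine le_antisymm (fun y hy => ?_) fun y hy => ?_
  · have hc := Subgroup.mem_centralizer_singleton_iff.1 hy
    have e : y * x * y⁻¹ = x := by rw [mul_inv_eq_iff_eq_mul]; exact hc
    by_contra hyT
    have hN := T.mem_normalizer_of_conj_mem hx (nonscalar_mem h1 hn).1 (nonscalar_mem h1 hn).2
      (n := y) (by rwa [e])
    have := T.conj_eq_inv hN hyT hx
    rw [e] at this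
    exact hsq (by rw [pow_two]; exact mul_eq_one_iff_eq_inv.2 this)
  · obtain ⟨i, rfl⟩ := Subgroup.mem_zpowers_iff.1 hx
    obtain ⟨j, rfl⟩ := Subgroup.mem_zpowers_iff.1 hy
    exact Subgroup.mem_centralizer_singleton_iff.2 (Commute.zpow_zpow_self c j i).eq

theorem not_sq_of_odd {G : Type*} [Group G] {t : G} (ho : Odd (orderOf t)) (ht : t ≠ 1) : t ^ 2 ≠ 1 :=
  fun e => ht (by
    have h2 := orderOf_dvd_of_pow_eq_one e
    rcases (Nat.dvd_prime Nat.prime_two).1 h2 with h | h
    · exact orderOf_eq_one_iff.1 h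
    · rw [h] at ho; exact absurd ho (by decide))

variable [Fintype F] [DecidableEq F] (p : ℕ) [Fact p.Prime] [CharP F p]

set_option maxHeartbeats 800000 in
theorem exists_family_split (hp : p ≠ 2) :
    ∃ X : Finset (IrrCharacter SL2),
      2 * X.card + 2 ^ (Fintype.card F - 1).factorization 2 = Fintype.card F - 1 ∧
      ∀ ξ ∈ X, (ξ : SL2 → ℂ) 1 = (Fintype.card F : ℂ) + 1 ∧
        (∀ u : SL2, orderOf u = p → (ξ : SL2 → ℂ) u = 1) ∧
        ∃ t : SL2, Odd (orderOf t) ∧ (t : M2).trace ^ 2 ≠ 4 ∧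
          (Subgroup.centralizer ({t} : Set SL2)).index = Fintype.card F * (Fintype.card F + 1) ∧
          ∃ l : ℂ, l ≠ 1 ∧ (∃ k : ℕ, Odd k ∧ l ^ k = 1) ∧ (ξ : SL2 → ℂ) t = l + l⁻¹ := by
  classical
  have hodd : Odd (Fintype.card F) := odd_card_of_char hp
  have := isCyclic_mulChar (F := F)
  have : Finite (MulChar F ℂ) := Nat.finite_of_card_ne_zero (by
    rw [card_mulChar]; have := Fintype.one_lt_card (α := F); omega)
  have : Fintype (MulChar F ℂ) := Fintype.ofFinite _
  have hcard := card_mulChar (F := F)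
  obtain ⟨g, hg⟩ := IsCyclic.exists_generator (α := Fˣ)
  obtain ⟨c₀, h₀, D₀⟩ := exists_dsData hodd
  let f : MulChar F ℂ → IrrCharacter SL2 := fun α =>
    if ha : α ^ 2 ≠ 1 then ⟨ps α, (isIrrCharacter_ps_iff α).2 ha⟩
    else ⟨steinberg, isIrrCharacter_steinberg⟩
  have hfv : ∀ α : MulChar F ℂ, α ^ 2 ≠ 1 → (f α : SL2 → ℂ) = ps α := fun α ha => by
    simp only [f, dif_pos ha]
  refine exists_family_image hcard ?_ f _ ?_ ?_
  · obtain ⟨k, hk⟩ := hodd
    exact ⟨k, by omega⟩
  · intro a b ha hb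
    rw [← ps_eq_iff D₀ ha, Subtype.ext_iff, hfv a ha, hfv b hb]
  · intro α hα hα2
    rw [hfv α hα2]
    refine ⟨ps_one α, fun u hu => ?_, ?_⟩
    · obtain ⟨b, hb, hc⟩ := (orderOf_eq_char_iff p hp u).1 hu
      rw [classFunction_eq_of_isConj (isClassFunction_ps α) hc, ps_bEl_uni α (Or.inl rfl) hb,
        Units.val_one, map_one]
    · set d := 2 ^ (Fintype.card F - 1).factorization 2 with hd
      have hdN : d = 2 ^ (Nat.card Fˣ).factorization 2 := by
        rw [hd, Nat.card_units, Nat.card_eq_fintype_card]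
      set a : Fˣ := g ^ d with ha
      have hao : Odd (orderOf a) := by rw [ha, hdN]; exact odd_orderOf_pow g
      have hl : α (a : F) ≠ 1 := fun e => hα (MulChar.ext fun x => by
        obtain ⟨i, rfl⟩ := Subgroup.mem_zpowers_iff.1 (hg x)
        have e1 : MulChar.toUnitHom α g ^ d = 1 := by
          rw [← map_pow]; exact Units.ext (by rw [MulChar.coe_toUnitHom, ← ha, e, Units.val_one])
        rw [MulChar.pow_apply' α (pow_ne_zero _ two_ne_zero), MulChar.one_apply_coe,
          ← MulChar.coe_toUnitHom, ← Units.val_pow_eq_pow_val, map_zpow, ← zpow_natCast, ← _root_.zpow_mul,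
          mul_comm, _root_.zpow_mul, zpow_natCast, e1, _root_.one_zpow, Units.val_one])
      have ha1 : a ≠ 1 := fun e => hl (by rw [e]; simp)
      have hasq : (a : F) ^ 2 ≠ 1 := fun e => not_sq_of_odd hao ha1
        (Units.ext (by rw [Units.val_pow_eq_pow_val, e, Units.val_one]))
      have ho : orderOf (slDiag a : SL2) = orderOf a := orderOf_injective _ slDiag_injective a
      have hsq : (slDiag a : SL2) ^ 2 ≠ 1 := not_sq_of_odd (by rw [ho]; exact hao)
        (fun e => ha1 (slDiag_injective (e.trans (map_one _).symm)))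
      refine ⟨slDiag a, by rw [ho]; exact hao, ?_, ?_, α (a : F), hl,
        ⟨orderOf a, hao, by rw [← map_pow, ← Units.val_pow_eq_pow_val, pow_orderOf_eq_one]; simp⟩, ?_⟩
      · have := (bEl_hyp (0 : F) hasq).1
        rwa [← slDiag_eq_bEl] at this
      · obtain ⟨c, h, -, T, hc⟩ := exists_split hodd (five_le_of_sq_ne_one hodd hasq)
        have hD : Subgroup.zpowers c = diagSub F := by
          ext y
          rw [hc, mem_diagSub]
          refine ⟨fun e => ?_, ?_⟩
          · obtain ⟨b, rfl⟩ := diag_eq_slDiag e.1 e.2; exact ⟨b, rfl⟩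
          · rintro ⟨b, rfl⟩; rw [slDiag_coe]; simp
        rw [centralizer_torus T (hD ▸ mem_diagSub.2 ⟨a, rfl⟩) hsq, hD, index_diagSub]
      · rw [slDiag_eq_bEl, ps_bEl_hyp α 0 hasq]
        congr 1
        rw [← Units.val_inv_eq_inv_val, ← MulChar.coe_toUnitHom, ← MulChar.coe_toUnitHom, map_inv,
          Units.val_inv_eq_inv_val]

theorem exists_family_nonsplit (hp : p ≠ 2) :
    ∃ X : Finset (IrrCharacter SL2),
      2 * X.card + 2 ^ (Fintype.card F + 1).factorization 2 = Fintype.card F + 1 ∧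
      ∀ ξ ∈ X, (ξ : SL2 → ℂ) 1 = (Fintype.card F : ℂ) - 1 ∧
        (∀ u : SL2, orderOf u = p → (ξ : SL2 → ℂ) u = -1) ∧
        ∃ t : SL2, Odd (orderOf t) ∧ (t : M2).trace ^ 2 ≠ 4 ∧
          (Subgroup.centralizer ({t} : Set SL2)).index = Fintype.card F * (Fintype.card F - 1) ∧
          ∃ l : ℂ, l ≠ 1 ∧ (∃ k : ℕ, Odd k ∧ l ^ k = 1) ∧ (ξ : SL2 → ℂ) t = -(l + l⁻¹) := by
  classical
  have hodd : Odd (Fintype.card F) := odd_card_of_char hp
  obtain ⟨c, h, D⟩ := exists_dsData hodd
  let : CommGroup (Subgroup.zpowers c →* ℂˣ) := by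
    let : CommGroup (Subgroup.zpowers c) := IsCyclic.commGroup
    infer_instance
  have := isCyclic_thetaHom D
  have := finite_thetaHom D
  have : Fintype (Subgroup.zpowers c →* ℂˣ) := Fintype.ofFinite _
  have hcard := card_thetaHom D
  let f : (Subgroup.zpowers c →* ℂˣ) → IrrCharacter SL2 := fun θ =>
    if ha : θ ^ 2 ≠ 1 then ⟨dsFun D θ, isIrrCharacter_dsFun D ha⟩
    else ⟨steinberg, isIrrCharacter_steinberg⟩
  have hfv : ∀ θ : Subgroup.zpowers c →* ℂˣ, θ ^ 2 ≠ 1 → (f θ : SL2 → ℂ) = dsFun D θ := fun θ ha => by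
    simp only [f, dif_pos ha]
  refine exists_family_image hcard ?_ f _ ?_ ?_
  · exact ⟨h, D.card_eq⟩
  · intro a b ha hb
    rw [← dsFun_eq_iff D ha hb, Subtype.ext_iff, hfv a ha, hfv b hb]
  · intro θ hθ hθ2
    rw [hfv θ hθ2]
    refine ⟨dsFun_one D θ, fun u hu => ?_, ?_⟩
    · obtain ⟨b, hb, hc⟩ := (orderOf_eq_char_iff p hp u).1 hu
      rw [classFunction_eq_of_isConj (isClassFunction_dsFun θ) hc, dsFun_uni D θ (Or.inl rfl) hb]
      simp
    · set d := 2 ^ (Fintype.card F + 1).factorization 2 with hd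
      set g : Subgroup.zpowers c := ⟨c, Subgroup.mem_zpowers c⟩ with hgdef
      set x : Subgroup.zpowers c := g ^ d with hx
      have hdN : d = 2 ^ (Nat.card (Subgroup.zpowers c)).factorization 2 := by
        rw [hd, D.torus.card_torus, D.card_eq]
      have hxo : Odd (orderOf x) := by rw [hx, hdN]; exact odd_orderOf_pow g
      have hl : (θ x : ℂ) ≠ 1 := fun e => hθ (MonoidHom.ext fun y => by
        obtain ⟨i, hi⟩ := Subgroup.mem_zpowers_iff.1 y.2
        have hy : y = g ^ i := Subtype.ext (by rw [Subgroup.coe_zpow, hgdef, hi])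
        have e1 : θ g ^ d = 1 := by rw [← map_pow, ← hx]; exact Units.ext e
        rw [MonoidHom.pow_apply, hy, map_zpow, ← zpow_natCast, ← _root_.zpow_mul, mul_comm, _root_.zpow_mul,
          zpow_natCast, e1, _root_.one_zpow, MonoidHom.one_apply])
      have hx1 : x ≠ 1 := fun e => hl (by rw [e]; simp)
      have hsq : (x : SL2) ^ 2 ≠ 1 := not_sq_of_odd (by rw [orderOf_submonoid x]; exact hxo)
        (fun e => hx1 (Subtype.ext e))
      have h1 : (x : SL2) ≠ 1 := fun e => hsq (by rw [e, one_pow])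
      have hn : (x : SL2) ≠ -1 := fun e => hsq (by rw [e, neg_one_sq])
      refine ⟨(x : SL2), by rw [Subgroup.orderOf_coe]; exact hxo,
        (noRoot_of_mem_torus D.torus D.noRoot x.2 h1 hn).trace_ne, ?_,
        (θ x : ℂ), hl, ⟨orderOf x, hxo, by rw [← Units.val_pow_eq_pow_val, ← map_pow,
          pow_orderOf_eq_one, map_one, Units.val_one]⟩, dsFun_torus θ x h1 hn⟩
      rw [centralizer_torus D.torus x.2 hsq, index_torus D.torus D.card_eq]

/-- The family of characters of degree `p + δ` non-trivial on the odd part of the torus of order `p - δ`. -/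
theorem exists_family {p : ℕ} [Fact p.Prime] (hp : p ≠ 2) (δ : ℤ) (hδ : δ = 1 ∨ δ = -1) :
    ∃ X : Finset (IrrCharacter (Matrix.SpecialLinearGroup (Fin 2) (ZMod p))),
      (2 * X.card : ℤ) + 2 ^ ((p : ℤ) - δ).natAbs.factorization 2 = (p : ℤ) - δ ∧
      ∀ ξ ∈ X, (ξ : Matrix.SpecialLinearGroup (Fin 2) (ZMod p) → ℂ) 1 = ((p : ℤ) + δ : ℂ) ∧
        (∀ u, orderOf u = p → (ξ : Matrix.SpecialLinearGroup (Fin 2) (ZMod p) → ℂ) u = (δ : ℂ)) ∧
        ∃ t : Matrix.SpecialLinearGroup (Fin 2) (ZMod p), Odd (orderOf t) ∧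
          (↑t : Matrix (Fin 2) (Fin 2) (ZMod p)).trace ^ 2 ≠ 4 ∧
          ((Subgroup.centralizer ({t} : Set _)).index : ℤ) = p * (p + δ) ∧
          ∃ l : ℂ, l ≠ 1 ∧ (∃ k : ℕ, Odd k ∧ l ^ k = 1) ∧
            (ξ : Matrix.SpecialLinearGroup (Fin 2) (ZMod p) → ℂ) t = δ * (l + l⁻¹) := by
  classical
  have hp1 : 1 ≤ p := (Fact.out : p.Prime).one_lt.le
  rcases hδ with rfl | rfl
  · obtain ⟨X, hc, hX⟩ := exists_family_split (F := ZMod p) p hp
    rw [ZMod.card] at hc
    refine ⟨X, ?_, fun ξ hξ => ?_⟩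
    · rw [show ((p : ℤ) - 1).natAbs = p - 1 by omega]
      have := congrArg (Nat.cast : ℕ → ℤ) hc
      push_cast [Nat.cast_sub hp1] at this
      exact this
    · obtain ⟨h1, h2, t, ht, htr, hi, l, hl, hk, hv⟩ := hX ξ hξ
      rw [ZMod.card] at h1 hi
      exact ⟨by rw [h1]; simp, fun u hu => by rw [h2 u hu]; simp, t, ht, htr,
        by rw [hi]; simp, l, hl, hk, by rw [hv]; simp⟩
  · obtain ⟨X, hc, hX⟩ := exists_family_nonsplit (F := ZMod p) p hp
    rw [ZMod.card] at hc
    refine ⟨X, ?_, fun ξ hξ => ?_⟩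
    · rw [show ((p : ℤ) - -1).natAbs = p + 1 by omega]
      have := congrArg (Nat.cast : ℕ → ℤ) hc
      push_cast at this
      linarith
    · obtain ⟨h1, h2, t, ht, htr, hi, l, hl, hk, hv⟩ := hX ξ hξ
      rw [ZMod.card] at h1 hi
      exact ⟨by rw [h1]; push_cast; ring, fun u hu => by rw [h2 u hu]; simp, t, ht, htr,
        by rw [hi]; push_cast [Nat.cast_sub hp1]; ring, l, hl, hk, by rw [hv]; simp⟩

end CfsgLib.SDCyclic
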