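import Cfsg.Agent.Lib.SDCyclic.Values
import Cfsg.Agent.Lib.Blocks.BlockParts

/-!
Multiplicities on the cyclic subgroup of index two, and the coefficients of the principal block
characters in the exceptional functions.
-/

set_option autoImplicit false
set_option linter.unusedSectionVars false
set_option linter.style.haveILetI false

namespace CfsgLib.SDCyclic

open Cfsg CfsgLib.QuatDefect CfsgLib.Characters CfsgLib.Blocks
open scoped ComplexConjugate Classical

universe u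

variable {G : Type u} [Group G] [Fintype G] {S : Sylow 2 G} {m : ℕ} (K : Sd G S m)

/-- The rotations as a homomorphism. -/
def rotHom : Multiplicative (ZMod (2 * 2 ^ m)) →* G where
  toFun s := K.qd.rot (Multiplicative.toAdd s)
  map_one' := K.qd.rot_zero
  map_mul' a b := K.qd.rot_add _ _

/-- The multiplicities of the linear characters of the rotations in a character. -/
noncomputable def mu (χ : IrrCharacter G) (j : ZMod (2 * 2 ^ m)) : ℂ :=
  ((2 * 2 ^ m : ℕ) : ℂ)⁻¹ *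
    ∑ s : ZMod (2 * 2 ^ m), (χ : G → ℂ) (K.qd.rot s) * conj (ZMod.stdAddChar (j * s))

theorem mu_nat (χ : IrrCharacter G) (j : ZMod (2 * 2 ^ m)) : ∃ n : ℕ, mu K χ j = n := by
  let l : Multiplicative (ZMod (2 * 2 ^ m)) →* ℂ :=
    { toFun := fun s => ZMod.stdAddChar (j * Multiplicative.toAdd s)
      map_one' := by rw [toAdd_one, mul_zero, AddChar.map_zero_eq_one]
      map_mul' := fun a b => by rw [toAdd_mul, mul_add, AddChar.map_add_eq_mul] }
  have hu : IsCharacter (ULift.{u} (Multiplicative (ZMod (2 * 2 ^ m))))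
      (fun s => (χ : G → ℂ) (rotHom K s.down)) :=
    CharGalois.isCharacter_comp (irr_isCharacter χ) ((rotHom K).comp MulEquiv.ulift.toMonoidHom)
  obtain ⟨n, hn⟩ := classInner_char_nat hu
    (Induction.isCharacter_monoidHom (l.comp MulEquiv.ulift.toMonoidHom))
  refine ⟨n, hn ▸ ?_⟩
  rw [classInner, Nat.card_congr (Equiv.ulift.trans Multiplicative.toAdd), Nat.card_zmod, mu]
  congr 1
  exact (Fintype.sum_equiv (Equiv.ulift.trans Multiplicative.toAdd) _ _ fun s => rfl).symm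

theorem mu_a (χ : IrrCharacter G) (j : ZMod (2 * 2 ^ m)) :
    mu K χ ((K.qd.a : ZMod (2 * 2 ^ m)) * j) = mu K χ j := by
  rw [mu, mu]
  congr 1
  refine (Fintype.sum_equiv
    { toFun := fun s => (K.qd.a : ZMod (2 * 2 ^ m)) * s
      invFun := fun s => (K.qd.a : ZMod (2 * 2 ^ m)) * s
      left_inv := fun s => by show _ * (_ * s) = s; rw [← mul_assoc, K.qd.a_sq, one_mul]
      right_inv := fun s => by show _ * (_ * s) = s; rw [← mul_assoc, K.qd.a_sq, one_mul] } _ _ fun s => ?_).symm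
  show _ = (χ : G → ℂ) (K.qd.rot ((K.qd.a : ZMod (2 * 2 ^ m)) * s)) *
    conj (ZMod.stdAddChar ((K.qd.a : ZMod (2 * 2 ^ m)) * j * ((K.qd.a : ZMod (2 * 2 ^ m)) * s)))
  rw [mul_mul_mul_comm, K.qd.a_sq, one_mul, ← K.qd.τ_conj, irr_isClassFunction χ]

theorem eval_rot (χ : IrrCharacter G) (s : ZMod (2 * 2 ^ m)) :
    (χ : G → ℂ) (K.qd.rot s) =
      ∑ j : ZMod (2 * 2 ^ m), mu K χ j * ZMod.stdAddChar (j * s) := by
  simp only [mu, Finset.mul_sum, Finset.sum_mul]
  rw [Finset.sum_comm]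
  have hd : ∀ t : ZMod (2 * 2 ^ m), ∑ j : ZMod (2 * 2 ^ m),
      (ZMod.stdAddChar (j * s) : ℂ) * conj (ZMod.stdAddChar (j * t)) =
        if t = s then ((2 * 2 ^ m : ℕ) : ℂ) else 0 := by
    intro t
    have h := AddChar.sum_mulShift (s - t) (ZMod.isPrimitive_stdAddChar (2 * 2 ^ m))
    simp only [sub_eq_zero, eq_comm (a := s), ZMod.card] at h
    rw [Finset.sum_congr rfl fun j _ => show (ZMod.stdAddChar (j * s) : ℂ) * conj (ZMod.stdAddChar (j * t))
      = ZMod.stdAddChar (j * (s - t)) by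
        rw [← AddChar.map_neg_eq_conj, ← AddChar.map_add_eq_mul]; congr 1; ring, h]
    split_ifs <;> simp
  have hN : ((2 * 2 ^ m : ℕ) : ℂ) ≠ 0 := Nat.cast_ne_zero.2 (by positivity)
  symm
  calc ∑ t : ZMod (2 * 2 ^ m), ∑ j : ZMod (2 * 2 ^ m),
        ((2 * 2 ^ m : ℕ) : ℂ)⁻¹ * ((χ : G → ℂ) (K.qd.rot t) * conj (ZMod.stdAddChar (j * t))) *
          ZMod.stdAddChar (j * s)
      = ∑ t : ZMod (2 * 2 ^ m), ((2 * 2 ^ m : ℕ) : ℂ)⁻¹ * (χ : G → ℂ) (K.qd.rot t) *
          ∑ j : ZMod (2 * 2 ^ m), (ZMod.stdAddChar (j * s) : ℂ) * conj (ZMod.stdAddChar (j * t)) := by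
        refine Finset.sum_congr rfl fun t _ => ?_
        rw [Finset.mul_sum]
        exact Finset.sum_congr rfl fun j _ => by ring
    _ = _ := by
        simp only [hd, mul_ite, mul_zero, Finset.sum_ite_eq', Finset.mem_univ, if_true]
        field_simp

theorem exists_mult (χ : IrrCharacter G) : ∃ n : ZMod (2 * 2 ^ m) → ℕ,
    (∀ j, mu K χ j = n j) ∧ (∀ j, n ((K.qd.a : ZMod (2 * 2 ^ m)) * j) = n j) ∧
      ∀ s, (χ : G → ℂ) (K.qd.rot s) = ∑ j, (n j : ℂ) * ZMod.stdAddChar (j * s) := by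
  choose n hn using mu_nat K χ
  refine ⟨n, hn, fun j => ?_, fun s => ?_⟩
  · exact_mod_cast ((hn _).symm.trans (mu_a K χ j)).trans (hn j)
  · rw [eval_rot]; simp only [hn]

theorem two_mul_half_ne (j : ZMod (2 * 2 ^ m)) (hm : 2 ≤ m) (hj : j ≠ 0)
    (hj' : j ≠ ((2 ^ m : ℕ) : ZMod (2 * 2 ^ m))) : (K.qd.a : ZMod (2 * 2 ^ m)) * j ≠ j := by
  intro h
  obtain ⟨k, hk⟩ : ∃ k, (2 : ℕ) ^ m = 2 * 2 ^ k ∧ 1 ≤ k := ⟨m - 1, by rw [← pow_succ']; congr 1; omega, by omega⟩
  rw [K.a_eq] at h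
  haveI : NeZero (2 * 2 ^ m) := ⟨by positivity⟩
  have h1 : ((2 ^ m - 2 : ℕ) : ZMod (2 * 2 ^ m)) * j = 0 := by
    rw [Nat.cast_sub (by rw [hk.1]; have := Nat.two_pow_pos k; omega)]
    push_cast at h ⊢
    linear_combination h
  have hco : Nat.Coprime (2 ^ k - 1) (2 * 2 ^ m) := by
    rw [← pow_succ', Nat.coprime_pow_right_iff (by omega), Nat.coprime_two_right, Nat.odd_iff]
    have : 2 ∣ 2 ^ k := dvd_pow_self 2 (by omega)
    have := Nat.two_pow_pos k
    omega
  have hu : IsUnit ((2 ^ k - 1 : ℕ) : ZMod (2 * 2 ^ m)) := (ZMod.isUnit_iff_coprime _ _).2 hco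
  rw [show 2 ^ m - 2 = (2 ^ k - 1) * 2 by rw [hk.1, Nat.sub_mul]; omega, Nat.cast_mul, mul_assoc,
    hu.mul_right_eq_zero, Nat.cast_two] at h1
  rcases QD.two_torsion (show j + j = 0 by linear_combination h1) with e | e
  · exact hj e
  · exact hj' e

theorem even_sum_of_invariant (T : Finset (ZMod (2 * 2 ^ m))) (n : ZMod (2 * 2 ^ m) → ℕ)
    (hn : ∀ j, n ((K.qd.a : ZMod (2 * 2 ^ m)) * j) = n j)
    (hT : ∀ j ∈ T, (K.qd.a : ZMod (2 * 2 ^ m)) * j ∈ T)
    (hfix : ∀ j ∈ T, (K.qd.a : ZMod (2 * 2 ^ m)) * j ≠ j) : 2 ∣ ∑ j ∈ T, n j := by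
  rw [← ZMod.natCast_eq_zero_iff, Nat.cast_sum]
  refine Finset.sum_involution (fun j _ => (K.qd.a : ZMod (2 * 2 ^ m)) * j) (fun j _ => ?_)
    (fun j hj _ => hfix j hj) hT (fun j _ => by rw [← mul_assoc, K.qd.a_sq, one_mul])
  rw [hn]
  exact CharTwo.add_self_eq_zero _

theorem apply_one_parity (χ : IrrCharacter G) (n : ZMod (2 * 2 ^ m) → ℕ)
    (hn : ∀ j, n ((K.qd.a : ZMod (2 * 2 ^ m)) * j) = n j)
    (hv : ∀ s, (χ : G → ℂ) (K.qd.rot s) = ∑ j, (n j : ℂ) * ZMod.stdAddChar (j * s)) :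
    ∃ d : ℕ, (χ : G → ℂ) 1 = d ∧ 2 ∣ (d : ℤ) - n 0 - n ((2 ^ m : ℕ) : ZMod (2 * 2 ^ m)) := by
  set h : ZMod (2 * 2 ^ m) := ((2 ^ m : ℕ) : ZMod (2 * 2 ^ m))
  refine ⟨∑ j, n j, ?_, ?_⟩
  · rw [← K.qd.rot_zero, hv]; simp
  · have hh0 : h ≠ 0 := by
      intro e
      have := K.qd.orderOf_z
      rw [show K.qd.z = K.qd.rot h from rfl, e, K.qd.rot_zero, orderOf_one] at this
      omega
    have hsplit := Finset.sum_sdiff (f := n) (Finset.subset_univ ({0, h} : Finset (ZMod (2 * 2 ^ m))))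
    rw [Finset.sum_pair (Ne.symm hh0)] at hsplit
    obtain ⟨r, hr⟩ := even_sum_of_invariant K (Finset.univ \ {0, h}) n hn (fun j hj => by
        simp only [Finset.mem_sdiff, Finset.mem_univ, true_and, Finset.mem_insert,
          Finset.mem_singleton] at hj ⊢
        push Not at hj ⊢
        refine ⟨fun e => hj.1 ?_, fun e => hj.2 ?_⟩
        · have := congrArg ((K.qd.a : ZMod (2 * 2 ^ m)) * ·) e
          simpa [← mul_assoc, K.qd.a_sq] using this
        · have := congrArg ((K.qd.a : ZMod (2 * 2 ^ m)) * ·) e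
          simp only [← mul_assoc, K.qd.a_sq, one_mul, h, K.qd.a_half] at this
          exact this) (fun j hj => by
        simp only [Finset.mem_sdiff, Finset.mem_univ, true_and, Finset.mem_insert,
          Finset.mem_singleton] at hj
        push Not at hj
        exact two_mul_half_ne K j K.two_le hj.1 hj.2)
    exact ⟨r, by omega⟩

/-- The value at the central involution agrees with the degree modulo four. -/
theorem z_congr_four (χ : IrrCharacter G) :
    ∃ (d : ℕ) (z : ℤ), (χ : G → ℂ) 1 = d ∧ (χ : G → ℂ) K.qd.z = z ∧ (4 : ℤ) ∣ (d : ℤ) - z := by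
  obtain ⟨n, -, hn, hv⟩ := exists_mult K χ
  set h : ZMod (2 * 2 ^ m) := ((2 ^ m : ℕ) : ZMod (2 * 2 ^ m))
  haveI : NeZero (2 * 2 ^ m) := ⟨by positivity⟩
  refine ⟨∑ j, n j, ∑ j, if j.val % 2 = 1 then -(n j : ℤ) else (n j : ℤ), ?_, ?_, ?_⟩
  · rw [← K.qd.rot_zero, hv]; simp
  · rw [show K.qd.z = K.qd.rot h from rfl, hv]
    push_cast
    refine Finset.sum_congr rfl fun j _ => ?_
    rw [mul_comm j h, val_parity]
    split_ifs
    · rw [addChar_half]; push_cast; ring
    · rw [AddChar.map_zero_eq_one]; push_cast; ring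
  · obtain ⟨r, hr⟩ := even_sum_of_invariant K (Finset.univ.filter fun j => j.val % 2 = 1) n hn
      (fun j hj => by
        simp only [Finset.mem_filter, Finset.mem_univ, true_and] at hj ⊢
        have h1 := val_parity (m := m) ((K.qd.a : ZMod (2 * 2 ^ m)) * j)
        rw [← mul_assoc, mul_comm ((2 ^ m : ℕ) : ZMod (2 * 2 ^ m)), K.qd.a_half, val_parity,
          if_pos hj] at h1
        by_contra hne
        rw [if_neg hne] at h1
        have := K.qd.orderOf_z
        rw [QD.z, h1, K.qd.rot_zero, orderOf_one] at this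
        omega) (fun j hj => by
        simp only [Finset.mem_filter, Finset.mem_univ, true_and] at hj
        refine two_mul_half_ne K j K.two_le (fun e => ?_) fun e => ?_
        · rw [e, ZMod.val_zero] at hj; omega
        · rw [e, ZMod.val_natCast,
            Nat.mod_eq_of_lt (show 2 ^ m < 2 * 2 ^ m by have := Nat.two_pow_pos m; omega)] at hj
          have : 2 ∣ 2 ^ m := dvd_pow_self 2 (by have := K.two_le; omega)
          omega)
    refine ⟨r, ?_⟩
    push_cast
    rw [← Finset.sum_sub_distrib, ← Finset.sum_filter_add_sum_filter_not Finset.univ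
      (fun j : ZMod (2 * 2 ^ m) => j.val % 2 = 1),
      Finset.sum_eq_zero (s := Finset.univ.filter fun j : ZMod (2 * 2 ^ m) => ¬ j.val % 2 = 1)
        (fun j hj => by rw [if_neg (Finset.mem_filter.1 hj).2, sub_self]),
      Finset.sum_congr rfl (g := fun j => 2 * (n j : ℤ))
        (fun j hj => by rw [if_pos (Finset.mem_filter.1 hj).2]; ring), add_zero, ← Finset.mul_sum,
      ← Nat.cast_sum, hr]
    push_cast; ring

theorem exists_odd_part {x u : G} (hu : IsPPart 2 x u) :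
    ∃ v : Subgroup.centralizer ({u} : Set G), x = u * (v : G) ∧ Odd (orderOf (v : G)) := by
  obtain ⟨y, hy, hc, -, hy2⟩ := hu
  refine ⟨⟨y, Subgroup.mem_centralizer_singleton_iff.2 hc.symm.eq⟩, hy.symm, ?_⟩
  rw [← Nat.not_even_iff_odd, even_iff_two_dvd]
  exact hy2

/-- On the support a character of the principal block only sees the 2-part. -/
theorem principal_supp {M : Ideal AlgInt} (hM : IsPModular 2 M) (R : Ret K) {f : G → ℂ}
    (hf : RotFun K f) {h : K.qd.H} (hh : f (R.π h) ≠ 0) {χ : IrrCharacter G}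
    (hχ : χ ∈ principalBlock M G) : (χ : G → ℂ) h = (χ : G → ℂ) (R.π h) := by
  haveI : Fact (Nat.Prime 2) := ⟨Nat.prime_two⟩
  obtain ⟨u, t, s, hu, hs, ht⟩ := exists_supp R hf hh
  set Cu := Subgroup.centralizer ({(u : G)} : Set G)
  obtain ⟨v, hv, hvodd⟩ := exists_odd_part (isPPart_coe hu)
  have hle : Cu ≤ K.qd.H := by
    intro g hg
    have h1 : (t : G) * g * (t : G)⁻¹ ∈ Subgroup.centralizer ({K.qd.rot s} : Set G) := by
      rw [Subgroup.mem_centralizer_singleton_iff] at hg ⊢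
      rw [← ht]
      simp only [Subgroup.coe_mul, Subgroup.coe_inv]
      calc (t : G) * g * (t : G)⁻¹ * ((t : G) * u * (t : G)⁻¹) = (t : G) * (g * u) * (t : G)⁻¹ := by group
        _ = (t : G) * (u * g) * (t : G)⁻¹ := by rw [hg]
        _ = _ := by group
    have h5 := K.qd.H.mul_mem (K.qd.H.mul_mem (K.qd.H.inv_mem t.2) (K.qd.centralizer_rot_le hs h1)) t.2
    simpa [mul_assoc] using h5
  set φ : Cu →* G := R.π.comp (Subgroup.inclusion hle)
  have hN : ¬ 2 ∣ Nat.card φ.ker := by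
    intro h2
    have hd : Nat.card φ.ker ∣ Nat.card R.π.ker := by
      rw [← Subgroup.card_map_of_injective (Subgroup.inclusion_injective hle) (K := φ.ker)]
      exact Subgroup.card_dvd_of_le (by rintro _ ⟨a, ha, rfl⟩; exact ha)
    exact (Nat.not_even_iff_odd.2 R.ker_odd) (even_iff_two_dvd.2 (h2.trans hd))
  have hvN : v ∈ φ.ker := by
    rw [MonoidHom.mem_ker]
    obtain ⟨k, hk⟩ := IsPGroup.iff_orderOf.1 S.2 (⟨φ v, R.mem _⟩ : (S : Subgroup G))
    rw [Subgroup.orderOf_mk] at hk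
    have hd : orderOf (φ v) ∣ orderOf v := orderOf_map_dvd φ v
    rw [hk, ← Subgroup.orderOf_coe] at hd
    rcases k with _ | k
    · rwa [pow_zero, orderOf_eq_one_iff] at hk
    · exact absurd ((dvd_pow_self 2 k.succ_ne_zero).trans hd)
        (fun e => (Nat.not_even_iff_odd.2 hvodd) (even_iff_two_dvd.2 e))
  obtain ⟨y, -, -, hk2, -⟩ := isPPart_coe hu
  rw [hv, principal_apply_mul hM hk2 hN hvN hχ, two_part_image R hu]
  have hS : ((t * u * t⁻¹ : K.qd.H) : G) ∈ (S : Subgroup G) := ht ▸ K.qd.rot_mem s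
  have e := R.fix _ hS
  rw [π_conj] at e
  rw [← irr_isClassFunction χ (R.π u) (R.π t), e, Subgroup.coe_mul, Subgroup.coe_mul,
    Subgroup.coe_inv, irr_isClassFunction χ (u : G) (t : G)]

/-- The coefficient of a character of the principal block. -/
theorem inner_indRot_principal {M : Ideal AlgInt} (hM : IsPModular 2 M) (R : Ret K) {f : G → ℂ}
    (hf : RotFun K f) {χ : IrrCharacter G} (hχ : χ ∈ principalBlock M G) :
    classInner (indRot R f) (χ : G → ℂ) =
      (Nat.card (S : Subgroup G) : ℂ)⁻¹ * ∑ p : (S : Subgroup G), f p * conj ((χ : G → ℂ) p) := by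
  rw [indRot, Induction.classInner_indFun _ _ (irr_isClassFunction χ), classInner,
    ← sum_pull R (fun x => f x * conj ((χ : G → ℂ) x))]
  refine congrArg _ (Finset.sum_congr rfl fun x _ => ?_)
  by_cases hx : f (R.π x) = 0
  · rw [hx, zero_mul, zero_mul]
  rw [principal_supp K hM R hf hx hχ]

theorem inner_pair (χ : IrrCharacter G) (j : ZMod (2 * 2 ^ m)) :
    (Nat.card (S : Subgroup G) : ℂ)⁻¹ *
      ∑ s : ZMod (2 * 2 ^ m), K.qd.pair j (K.qd.rot s) * conj ((χ : G → ℂ) (K.qd.rot s)) =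
      mu K χ j := by
  obtain ⟨n, hn⟩ := mu_nat K χ j
  have hc : ∀ i, (∑ s : ZMod (2 * 2 ^ m), ZMod.stdAddChar (i * s) * conj ((χ : G → ℂ) (K.qd.rot s))) =
      ((2 * 2 ^ m : ℕ) : ℂ) * conj (mu K χ i) := by
    intro i
    rw [mu, map_mul, map_inv₀, Complex.conj_natCast, ← mul_assoc,
      mul_inv_cancel₀ (Nat.cast_ne_zero.2 (by positivity)), one_mul, map_sum]
    exact Finset.sum_congr rfl fun s _ => by rw [map_mul (starRingEnd ℂ), Complex.conj_conj, mul_comm]
  simp only [QD.pair_rot, add_mul, Finset.sum_add_distrib, hc, mu_a K χ j, hn, Complex.conj_natCast,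
    K.qd.card]
  have : (2 : ℂ) ^ m ≠ 0 := pow_ne_zero _ two_ne_zero
  push_cast
  field_simp
  ring

theorem theta_parity {M : Ideal AlgInt} (hM : IsPModular 2 M) (R : Ret K)
    {χ : IrrCharacter G} (hχ : χ ∈ principalBlock M G) :
    ∃ (d : ℕ) (a b : ℤ), (χ : G → ℂ) 1 = d ∧ classInner (indRot R (thetaZero K)) (χ : G → ℂ) = a ∧
      classInner (indRot R (thetaFun K)) (χ : G → ℂ) = b ∧ 2 ∣ (d : ℤ) - a := by
  obtain ⟨n, hnm, hn, hv⟩ := exists_mult K χ
  obtain ⟨d, hd, hpar⟩ := apply_one_parity K χ n hn hv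
  set h : ZMod (2 * 2 ^ m) := ((2 ^ m : ℕ) : ZMod (2 * 2 ^ m))
  set y : ZMod (2 * 2 ^ m) := ((2 ^ (m - 1) : ℕ) : ZMod (2 * 2 ^ m))
  refine ⟨d, (n 0 : ℤ) - n h, (n 0 : ℤ) - n y, hd, ?_, ?_, ?_⟩
  · rw [inner_indRot_principal K hM R (rotFun_zero K) hχ,
      sum_rot (F := fun g => thetaZero K g * conj ((χ : G → ℂ) g))
        (fun s => by rw [thetaZero_outside, zero_mul])]
    simp only [thetaZero, sub_mul, Finset.sum_sub_distrib, mul_sub, inner_pair, hnm]
    simp only [h, y, Int.cast_sub, Int.cast_natCast]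
  · rw [inner_indRot_principal K hM R (rotFun_theta K) hχ,
      sum_rot (F := fun g => thetaFun K g * conj ((χ : G → ℂ) g))
        (fun s => by rw [thetaFun_outside, zero_mul])]
    simp only [thetaFun, sub_mul, Finset.sum_sub_distrib, mul_sub, inner_pair, hnm]
    simp only [h, y, Int.cast_sub, Int.cast_natCast]
  · have : (d : ℤ) - ((n 0 : ℤ) - n h) = ((d : ℤ) - n 0 - n h) + 2 * n h := by ring
    rw [this]
    exact dvd_add hpar (dvd_mul_right _ _)

end CfsgLib.SDCyclic
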