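import Cfsg.Agent.Lib.SDCyclic.Model
import Cfsg.Agent.Lib.SDCyclic.Inner
import Cfsg.Agent.Lib.Characters.NormalRes
import Cfsg.Agent.Lib.AbelTwo.Homocyclic
import Cfsg.Agent.Lib.PF.Sec9CharsLin

/-!
An upper bound for the norm of a column of the principal 2-block of a group over the model.
-/

set_option autoImplicit false
set_option linter.style.haveILetI false
set_option linter.unusedSectionVars false

namespace CfsgLib.SDCyclic

open Cfsg CfsgLib.Characters CfsgLib.Blocks CfsgLib.NormalRes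
open scoped ComplexConjugate Classical

universe u

variable {p : ℕ} [Fact p.Prime]

local notation "M2" => Matrix (Fin 2) (Fin 2) (ZMod p)
local notation "SL" => Matrix.SpecialLinearGroup (Fin 2) (ZMod p)

/-- A family of characters of `SL₂(p)` outside the principal 2-block. -/
def IsFam (p : ℕ) [Fact p.Prime] (δ : ℤ)
    (X : Finset (IrrCharacter (Matrix.SpecialLinearGroup (Fin 2) (ZMod p)))) : Prop :=
  ∀ ξ ∈ X, (ξ : Matrix.SpecialLinearGroup (Fin 2) (ZMod p) → ℂ) 1 = (((p : ℤ) + δ : ℤ) : ℂ) ∧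
    (∀ u, orderOf u = p → (ξ : Matrix.SpecialLinearGroup (Fin 2) (ZMod p) → ℂ) u = (δ : ℂ)) ∧
    ∃ t : Matrix.SpecialLinearGroup (Fin 2) (ZMod p), (t : Matrix (Fin 2) (Fin 2) (ZMod p)).trace ^ 2 ≠ 4 ∧
      ((Subgroup.centralizer {t}).index : ℤ) = (p : ℤ) * ((p : ℤ) + δ) ∧
      ∃ l : ℂ, l ≠ 1 ∧ (∃ k : ℕ, Odd k ∧ l ^ k = 1) ∧
        (ξ : Matrix.SpecialLinearGroup (Fin 2) (ZMod p) → ℂ) t = δ * (l + l⁻¹)

theorem not_memLocalIdeal_add_inv {M : Ideal AlgInt} (hM : IsPModular 2 M) {l : ℂ} (hl : l ≠ 1)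
    {k : ℕ} (hk : Odd k) (hlk : l ^ k = 1) : ¬ MemLocalIdeal M (l + l⁻¹) := by
  intro h
  have hint : IsIntegral ℤ l := IsIntegral.of_pow hk.pos (by rw [hlk]; exact isIntegral_one)
  have hlr : MemLocalRing M l := memLocalRing_of_isIntegral hM hint
  have hl0 : l ≠ 0 := fun h0 => by rw [h0, zero_pow hk.pos.ne'] at hlk; exact zero_ne_one hlk
  have h2 : MemLocalIdeal M (2 : ℂ) := by simpa using memLocalIdeal_p hM
  have h1 : MemLocalIdeal M ((l - 1) * (l + 1)) := by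
    have e : (l - 1) * (l + 1) = l * (l + l⁻¹) - 2 := by field_simp; ring
    rw [e]
    exact MemLocalIdeal.sub hM (MemLocalIdeal.mul_left hM hlr h) h2
  have hone : MemLocalRing M (1 : ℂ) := memLocalRing_of_isIntegral hM isIntegral_one
  have hd : MemLocalIdeal M (l - 1) := by
    rcases MemLocalIdeal.mul_cases hM (memLocalRing_of_isIntegral hM (hint.sub isIntegral_one))
      (memLocalRing_of_isIntegral hM (hint.add isIntegral_one)) h1 with e | e
    · exact e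
    · rw [show l - 1 = (l + 1) - 2 by ring]
      exact MemLocalIdeal.sub hM e h2
  have hkM : MemLocalIdeal M (k : ℂ) := by
    have hsum : (k : ℂ) = ∑ i ∈ Finset.range k, (1 - l ^ i) := by
      rw [Finset.sum_sub_distrib, geom_sum_eq hl, hlk]
      simp
    rw [hsum]
    refine MemLocalIdeal.sum hM _ fun i _ => ?_
    rw [show (1 : ℂ) - l ^ i = (-(∑ j ∈ Finset.range i, l ^ j)) * (l - 1) by
      rw [geom_sum_eq hl]; field_simp [sub_ne_zero.2 hl]; ring]
    refine MemLocalIdeal.mul_left hM (memLocalRing_of_isIntegral hM ?_) hd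
    exact (IsIntegral.sum _ fun j _ => hint.pow j).neg
  have := (memLocalIdeal_natCast_iff hM k).1 hkM
  exact (Nat.not_even_iff_odd.2 hk) (even_iff_two_dvd.2 this)

namespace Model

variable {D : Type u} [Group D] [Fintype D] {m : ℕ} (Q : Model D p m)

/-- The multiplicity in the restriction to `SL₂(p)`. -/
noncomputable def multSL (ψ : IrrCharacter D) (ξ : IrrCharacter SL) : ℂ :=
  classInner (fun x : SL => (ψ : D → ℂ) (Q.emb x)) (ξ : SL → ℂ)

/-- A character of `SL₂(p)` on the normal subgroup. -/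
noncomputable def toL (ξ : IrrCharacter SL) : IrrCharacter Q.L :=
  ⟨fun n => (ξ : SL → ℂ) ((MonoidHom.ofInjective Q.inj).symm n),
    BrauerPerm.isIrrCharacter_comp_equiv ξ.2 _⟩

theorem toL_emb (ξ : IrrCharacter SL) (x : SL) :
    (Q.toL ξ : Q.L → ℂ) ⟨Q.emb x, x, rfl⟩ = (ξ : SL → ℂ) x := by
  show (ξ : SL → ℂ) ((MonoidHom.ofInjective Q.inj).symm ⟨Q.emb x, x, rfl⟩) = _
  exact congrArg _ ((MonoidHom.ofInjective Q.inj).symm_apply_apply x)

theorem mult_toL (ψ : IrrCharacter D) (ξ : IrrCharacter SL) :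
    mult Q.L (ψ : D → ℂ) (Q.toL ξ) = Q.multSL ψ ξ := by
  unfold mult multSL classInner
  rw [← Nat.card_congr (MonoidHom.ofInjective Q.inj).toEquiv]
  congr 1
  refine (Fintype.sum_equiv (MonoidHom.ofInjective Q.inj).toEquiv _ _ fun x => ?_).symm
  show _ = (ψ : D → ℂ) _ * conj ((ξ : SL → ℂ) _)
  rw [show (MonoidHom.ofInjective Q.inj).toEquiv x = ⟨Q.emb x, x, rfl⟩ from rfl]
  exact congrArg (fun w => _ * conj ((ξ : SL → ℂ) w)) ((MonoidHom.ofInjective Q.inj).symm_apply_apply x).symm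

/-- The characters over a family. -/
noncomputable def liesOver (X : Finset (IrrCharacter SL)) : Finset (IrrCharacter D) :=
  Finset.univ.filter fun ψ => ∃ ξ ∈ X, Q.multSL ψ ξ ≠ 0

/-- The restriction to `SL₂(p)` of a character over `ξ`. -/
theorem exists_res {ψ : IrrCharacter D} {ξ : IrrCharacter SL} (h : Q.multSL ψ ξ ≠ 0) :
    ∃ K : ℕ, 0 < K ∧ ∀ x : SL, (∀ x', IsConj (Q.emb x) (Q.emb x') → (ξ : SL → ℂ) x' = (ξ : SL → ℂ) x) →
      (ψ : D → ℂ) (Q.emb x) = K * (ξ : SL → ℂ) x := by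
  haveI := Q.normal
  choose n hn using fun η : IrrCharacter Q.L => mult_nat Q.L (irr_isCharacter ψ) η
  have hne : mult Q.L (ψ : D → ℂ) (Q.toL ξ) ≠ 0 := by rwa [Q.mult_toL]
  refine ⟨∑ η, n η, ?_, fun x hx => ?_⟩
  · refine lt_of_lt_of_le (Nat.pos_of_ne_zero fun e => hne (by rw [hn, e, Nat.cast_zero]))
      (Finset.single_le_sum (fun η _ => Nat.zero_le (n η)) (Finset.mem_univ (Q.toL ξ)))
  · have e := res_eq_sum Q.L (irr_isClassFunction ψ) ⟨Q.emb x, x, rfl⟩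
    rw [e, Nat.cast_sum, Finset.sum_mul]
    refine Finset.sum_congr rfl fun η _ => ?_
    rw [← hn]
    by_cases hη : mult Q.L (ψ : D → ℂ) η = 0
    · rw [hη, zero_mul, zero_mul]
    obtain ⟨g, hg⟩ := exists_conj_of_constituents Q.L ψ hne hη
    congr 1
    rw [← hg, twist_apply_eq]
    obtain ⟨x', hx'⟩ := Q.exists_conj_eq g⁻¹ x
    have e' : g⁻¹ * Q.emb x * g = Q.emb x' := by rw [← hx', inv_inv]
    rw [show (Q.toL ξ : Q.L → ℂ) ⟨g⁻¹ * Q.emb x * g, _⟩ = (Q.toL ξ : Q.L → ℂ) ⟨Q.emb x', x', rfl⟩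
      from congrArg _ (Subtype.ext e'), toL_emb]
    exact hx x' (isConj_iff.2 ⟨g⁻¹, by rw [inv_inv, e']⟩)

theorem exists_over_values {δ : ℤ} {X : Finset (IrrCharacter SL)} (hX : IsFam p δ X)
    {ψ : IrrCharacter D} (hψ : ψ ∈ Q.liesOver X) : ∃ K : ℕ, 0 < K ∧
      (ψ : D → ℂ) 1 = (K : ℂ) * (((p : ℤ) + δ : ℤ) : ℂ) ∧
      (∀ u : SL, orderOf u = p → (ψ : D → ℂ) (Q.emb u) = (K : ℂ) * (δ : ℂ)) ∧
      ∃ t : SL, (t : M2).trace ^ 2 ≠ 4 ∧
        ((Subgroup.centralizer {t}).index : ℤ) = (p : ℤ) * ((p : ℤ) + δ) ∧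
        ∃ l : ℂ, l ≠ 1 ∧ (∃ k : ℕ, Odd k ∧ l ^ k = 1) ∧
          (ψ : D → ℂ) (Q.emb t) = (K : ℂ) * (δ * (l + l⁻¹)) := by
  obtain ⟨-, ξ, hξ, hne⟩ := Finset.mem_filter.1 hψ
  obtain ⟨K, hK, hres⟩ := Q.exists_res hne
  obtain ⟨h1, hu, t, ht, hcl, l, hl, hk, hval⟩ := hX ξ hξ
  refine ⟨K, hK, ?_, ?_, t, ht, hcl, l, hl, hk, ?_⟩
  · rw [← h1, ← hres 1, map_one]
    intro x' hx'
    rw [map_one, isConj_one_right, ← map_one Q.emb] at hx'
    rw [Q.inj hx']
  · intro u hu'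
    rw [← hu u hu', hres u]
    intro x' hx'
    have ho : orderOf x' = p := by
      obtain ⟨c, hc⟩ := isConj_iff.1 hx'
      rw [← orderOf_injective Q.emb Q.inj, ← hc,
        show c * Q.emb u * c⁻¹ = MulAut.conj c (Q.emb u) from rfl, MulEquiv.orderOf_eq,
        orderOf_injective Q.emb Q.inj, hu']
    rw [hu x' ho, hu u hu']
  · rw [← hval, hres t]
    intro x' hx'
    exact (classFunction_eq_of_isConj (irr_isClassFunction ξ) (Q.isConj_of_semisimple ht hx')).symm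

theorem card_over_le {δ : ℤ} (hp : 0 < (p : ℤ) + δ) {X : Finset (IrrCharacter SL)}
    (hX : IsFam p δ X) :
    2 * (X.card : ℝ) * (((p : ℤ) + δ : ℤ) : ℝ) ^ 2 ≤
      ∑ ψ ∈ Q.liesOver X, ‖(ψ : D → ℂ) 1‖ ^ 2 := by
  haveI := Q.normal
  choose n hn using fun (ψ : IrrCharacter D) (η : IrrCharacter Q.L) => mult_nat Q.L (irr_isCharacter ψ) η
  choose d hd0 hd using fun ψ : IrrCharacter D => irr_exists_degree ψ.2
  set e : ℤ := (p : ℤ) + δ with he
  obtain ⟨E, hE⟩ : ∃ E : ℕ, (E : ℤ) = e := ⟨e.toNat, Int.toNat_of_nonneg hp.le⟩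
  -- the degree bounds the multiplicities of the family
  have h1 : ∀ ψ : IrrCharacter D, (E : ℕ) * ∑ ξ ∈ X, n ψ (Q.toL ξ) ≤ d ψ := by
    intro ψ
    choose f hf0 hf using fun η : IrrCharacter Q.L => irr_exists_degree η.2
    have e1 := res_eq_sum Q.L (irr_isClassFunction ψ) 1
    rw [OneMemClass.coe_one, hd] at e1
    simp only [hn, hf] at e1
    have e2 : d ψ = ∑ η, n ψ η * f η := by exact_mod_cast e1
    rw [e2, Finset.mul_sum]
    have hinj : Set.InjOn Q.toL (X : Set (IrrCharacter SL)) := fun a _ b _ hab =>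
      Subtype.ext (funext fun x => by rw [← Q.toL_emb a x, ← Q.toL_emb b x, hab])
    have hfX : ∀ ξ ∈ X, f (Q.toL ξ) = E := fun ξ hξ => by
      have h := hf (Q.toL ξ)
      have h' := Q.toL_emb ξ 1
      rw [(hX ξ hξ).1, ← he, ← hE] at h'
      rw [show (⟨Q.emb 1, 1, rfl⟩ : Q.L) = 1 from Subtype.ext (map_one _)] at h'
      rw [h'] at h
      exact_mod_cast h.symm
    calc ∑ ξ ∈ X, E * n ψ (Q.toL ξ) = ∑ η ∈ X.image Q.toL, n ψ η * f η := by
          rw [Finset.sum_image hinj]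
          exact Finset.sum_congr rfl fun ξ hξ => by rw [hfX ξ hξ, mul_comm]
      _ ≤ _ := Finset.sum_le_sum_of_subset (Finset.subset_univ _)
  -- Frobenius reciprocity
  have h2 : ∀ ξ ∈ X, ∑ ψ : IrrCharacter D, d ψ * n ψ (Q.toL ξ) = 2 * E := by
    intro ξ hξ
    have h := congrFun (indFun_eq_sum Q.L (Q.toL ξ)) 1
    have h' := Q.toL_emb ξ 1
    rw [(hX ξ hξ).1, ← he, ← hE,
      show (⟨Q.emb 1, 1, rfl⟩ : Q.L) = 1 from Subtype.ext (map_one _)] at h'
    rw [Induction.indFun_one_apply, Q.index_L, h', Finset.sum_apply] at h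
    simp only [Pi.smul_apply, smul_eq_mul, hn, hd] at h
    have h'' : 2 * E = ∑ ψ, n ψ (Q.toL ξ) * d ψ := by exact_mod_cast h
    rw [h'']
    exact Finset.sum_congr rfl fun ψ _ => mul_comm _ _
  have h3 : 2 * X.card * E ^ 2 ≤ ∑ ψ ∈ Q.liesOver X, d ψ ^ 2 := by
    calc 2 * X.card * E ^ 2 = E * ∑ ξ ∈ X, ∑ ψ : IrrCharacter D, d ψ * n ψ (Q.toL ξ) := by
          rw [Finset.sum_congr rfl h2, Finset.sum_const, smul_eq_mul]; ring
      _ = ∑ ψ : IrrCharacter D, d ψ * (E * ∑ ξ ∈ X, n ψ (Q.toL ξ)) := by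
          rw [Finset.sum_comm, Finset.mul_sum]
          refine Finset.sum_congr rfl fun ψ _ => ?_
          rw [Finset.mul_sum, Finset.mul_sum, Finset.mul_sum]
          exact Finset.sum_congr rfl fun ξ _ => by ring
      _ = ∑ ψ ∈ Q.liesOver X, d ψ * (E * ∑ ξ ∈ X, n ψ (Q.toL ξ)) := by
          refine (Finset.sum_subset (Finset.subset_univ _) fun ψ _ hψ => ?_).symm
          rw [Finset.sum_eq_zero fun ξ hξ => ?_, mul_zero, mul_zero]
          by_contra hne
          refine hψ (Finset.mem_filter.2 ⟨Finset.mem_univ _, ξ, hξ, ?_⟩)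
          rw [← Q.mult_toL, hn]
          exact_mod_cast hne
      _ ≤ _ := Finset.sum_le_sum fun ψ _ => by rw [pow_two]; exact Nat.mul_le_mul_left _ (h1 ψ)
  have hER : ((e : ℤ) : ℝ) = (E : ℝ) := by rw [← hE]; norm_cast
  simp only [hd, Complex.norm_natCast, hER]
  exact_mod_cast h3

/-! ### The principal block above -/

variable {C : Type u} [Group C] [Fintype C] (π : C →* D) {M : Ideal AlgInt}

/-- Members of the principal block lying over a character over a family: there are none. -/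
theorem over_notMem (hπ : Function.Surjective π) (hker : Odd (Nat.card π.ker))
    (hM : IsPModular 2 M) {δ : ℤ} (hδ : δ = 1 ∨ δ = -1) {X : Finset (IrrCharacter SL)}
    (hX : IsFam p δ X) {ψ : IrrCharacter D} (hψ : ψ ∈ Q.liesOver X) {χ : IrrCharacter C}
    (hχ : χ ∈ principalBlock M C) : ¬ ∀ c, (χ : C → ℂ) c = (ψ : D → ℂ) (π c) := by
  intro hval
  haveI : Fact (Nat.Prime 2) := ⟨Nat.prime_two⟩
  obtain ⟨K, hK, h1, -, t, ht, hcl, l, hl, ⟨k, hk, hlk⟩, hvt⟩ := Q.exists_over_values hX hψ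
  -- a lift with a large centraliser
  set T := Subgroup.centralizer ({Q.emb t} : Set D) with hT
  set P := T.comap π with hP
  obtain ⟨R⟩ : Nonempty (Sylow 2 P) := inferInstance
  set F := {c : C // π c = Q.emb t}
  let act : MulAction (R : Subgroup P) F :=
    { smul := fun r c => ⟨((r : P) : C) * c.1 * ((r : P) : C)⁻¹, by
        have hr : π ((r : P) : C) ∈ T := (r : P).2
        rw [map_mul, map_mul, map_inv, c.2, Subgroup.mem_centralizer_singleton_iff.1 hr,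
          mul_inv_cancel_right]⟩
      one_smul := fun c => Subtype.ext (show ((1 : C)) * c.1 * (1 : C)⁻¹ = c.1 by group)
      mul_smul := fun r s c => Subtype.ext (show (((r : P) : C) * ((s : P) : C)) * c.1 *
        (((r : P) : C) * ((s : P) : C))⁻¹ = ((r : P) : C) * (((s : P) : C) * c.1 * ((s : P) : C)⁻¹) *
          ((r : P) : C)⁻¹ by group) }
  obtain ⟨c0, hc0⟩ := hπ (Q.emb t)
  have hF : Nat.card F = Nat.card π.ker := Nat.card_congr
    { toFun := fun c => ⟨c0⁻¹ * c.1, by rw [MonoidHom.mem_ker, map_mul, map_inv, hc0, c.2, inv_mul_cancel]⟩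
      invFun := fun o => ⟨c0 * o.1, by rw [map_mul, hc0, MonoidHom.mem_ker.1 o.2, mul_one]⟩
      left_inv := fun c => Subtype.ext (mul_inv_cancel_left _ _)
      right_inv := fun o => Subtype.ext (inv_mul_cancel_left _ _) }
  obtain ⟨⟨c, hc⟩, hfix⟩ := R.2.nonempty_fixed_point_of_prime_not_dvd_card F
    (by rw [hF]; exact fun h => (Nat.not_even_iff_odd.2 hker) (even_iff_two_dvd.2 h))
  have hRc : ((R : Subgroup P).map P.subtype) ≤ Subgroup.centralizer ({c} : Set C) := by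
    rintro _ ⟨r, hr, rfl⟩
    rw [Subgroup.mem_centralizer_singleton_iff]
    exact mul_inv_eq_iff_eq_mul.1 (congrArg Subtype.val (hfix ⟨r, hr⟩))
  obtain ⟨r, hr⟩ := AbelTwo.index_centralizer_dvd π hπ c
  rw [hc] at hr
  have hTi : T.index = (Subgroup.centralizer {t}).index := by
    have e1 := T.card_mul_index
    have e2 := (Subgroup.centralizer {t}).card_mul_index
    rw [hT, Q.card_centralizer_semisimple ht, Q.card] at e1
    rw [SpecLin.SLTwo.card_sl_two, ZMod.card] at e2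
    rw [mul_assoc] at e1
    have e3 := (Nat.eq_of_mul_eq_mul_left two_pos e1).trans e2.symm
    exact Nat.eq_of_mul_eq_mul_left Nat.card_pos e3
  have hrodd : Odd r := by
    rw [← Nat.not_even_iff_odd, even_iff_two_dvd]
    intro h2r
    have hi := (Subgroup.centralizer ({c} : Set C)).card_mul_index
    have hPi : P.index = T.index := Subgroup.index_comap_of_surjective _ hπ
    have hP' := P.card_mul_index
    rw [hPi] at hP'
    have hRdvd : 2 ^ (Nat.card P).factorization 2 ∣ Nat.card (Subgroup.centralizer ({c} : Set C)) := by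
      rw [← R.card_eq_multiplicity, ← Subgroup.card_map_of_injective P.subtype_injective]
      exact Subgroup.card_dvd_of_le hRc
    rw [hr, ← hP'] at hi
    have e : Nat.card (Subgroup.centralizer ({c} : Set C)) * r = Nat.card P :=
      Nat.eq_of_mul_eq_mul_right (Nat.pos_of_ne_zero T.index_ne_zero_of_finite) (by rw [← hi]; ring)
    have h4 : 2 ^ ((Nat.card P).factorization 2 + 1) ∣ Nat.card P := by
      rw [pow_succ]; exact (mul_dvd_mul hRdvd h2r).trans (dvd_of_eq e)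
    exact absurd ((Nat.prime_two.pow_dvd_iff_le_factorization Nat.card_pos.ne').1 h4) (by omega)
  have hr' : (Subgroup.centralizer ({c} : Set C)).index = (Subgroup.centralizer {t}).index * r := by
    rw [hr]; exact congrArg (· * r) hTi
  have hω := hχ c
  simp only [centralChar, hr', hval, hc, map_one, h1, hvt, mul_one, div_one] at hω
  have hidx : (((Subgroup.centralizer {t}).index : ℕ) : ℂ) = (p : ℂ) * (((p : ℤ) + δ : ℤ) : ℂ) := by
    have h := congrArg (Int.cast : ℤ → ℂ) hcl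
    push_cast at h ⊢
    exact h
  have hne : (((p : ℤ) + δ : ℤ) : ℂ) ≠ 0 := by
    have := (Fact.out : p.Prime).two_le
    have : ((p : ℤ) + δ) ≠ 0 := by omega
    exact_mod_cast this
  have hK0 : (K : ℂ) ≠ 0 := Nat.cast_ne_zero.2 hK.ne'
  have hcast : (((Subgroup.centralizer {t}).index * r : ℕ) : ℂ) =
      (p : ℂ) * (((p : ℤ) + δ : ℤ) : ℂ) * r := by rw [Nat.cast_mul, hidx]
  rw [hcast] at hω
  -- the trivial part is even
  have heven : MemLocalIdeal M ((p : ℂ) * (((p : ℤ) + δ : ℤ) : ℂ) * r) := by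
    rw [← hcast, memLocalIdeal_natCast_iff hM]
    refine dvd_mul_of_dvd_left (Int.natCast_dvd_natCast.1 ?_) r
    rw [hcl]
    refine dvd_mul_of_dvd_right ?_ _
    have := Q.p_odd
    rcases hδ with rfl | rfl <;> omega
  have h := MemLocalIdeal.sub hM heven hω
  rw [sub_sub_cancel, show (p : ℂ) * (((p : ℤ) + δ : ℤ) : ℂ) * r * ((K : ℂ) * ((δ : ℂ) * (l + l⁻¹))) /
      ((K : ℂ) * (((p : ℤ) + δ : ℤ) : ℂ)) = ((p * r : ℕ) : ℂ) * (δ : ℂ) * (l + l⁻¹) by
    push_cast at hne ⊢; field_simp] at h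
  have hnat : IsIntegral ℤ ((p * r : ℕ) : ℂ) := by
    have h0 : IsIntegral ℤ (((p * r : ℕ) : ℤ) : ℂ) := isIntegral_algebraMap (x := ((p * r : ℕ) : ℤ))
    rwa [Int.cast_natCast] at h0
  have hδi : IsIntegral ℤ (δ : ℂ) := isIntegral_algebraMap (x := δ)
  have hint : IsIntegral ℤ l := IsIntegral.of_pow hk.pos (by rw [hlk]; exact isIntegral_one)
  have hli : IsIntegral ℤ l⁻¹ := by
    rw [show l⁻¹ = l ^ (k - 1) from inv_eq_of_mul_eq_one_right (by
      rw [← pow_succ', Nat.sub_add_cancel hk.pos, hlk])]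
    exact hint.pow _
  rcases MemLocalIdeal.mul_cases hM (memLocalRing_of_isIntegral hM (hnat.mul hδi))
    (memLocalRing_of_isIntegral hM (hint.add hli)) h with e | e
  · have hoddp : ¬ 2 ∣ p * r := by
      rw [← even_iff_two_dvd, Nat.not_even_iff_odd, Nat.odd_mul]
      exact ⟨Nat.odd_iff.2 Q.p_odd, hrodd⟩
    refine hoddp ((memLocalIdeal_natCast_iff hM _).1 ?_)
    have h' := MemLocalIdeal.mul_right hM e (memLocalRing_of_isIntegral hM hδi)
    rw [mul_assoc, ← Int.cast_mul, show δ * δ = 1 by rcases hδ with rfl | rfl <;> norm_num,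
      Int.cast_one, mul_one] at h'
    exact h'
  · exact not_memLocalIdeal_add_inv hM hl hk hlk e

/-- The norm bound. -/
theorem norm_le (hπ : Function.Surjective π) (hker : Odd (Nat.card π.ker))
    (hM : IsPModular 2 M) {X Y : Finset (IrrCharacter SL)} (hX : IsFam p 1 X) (hY : IsFam p (-1) Y)
    {u : SL} (hu : orderOf u = p) {y : C} (hy : π y = Q.emb u) (a b : ℝ) :
    ∑ χ ∈ Finset.univ.filter (· ∈ principalBlock M C),
        ‖(a : ℂ) * (χ : C → ℂ) 1 + (b : ℂ) * (χ : C → ℂ) y‖ ^ 2 ≤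
      (Nat.card D : ℝ) * a ^ 2 + 2 * (p : ℝ) * b ^ 2 -
        2 * (X.card : ℝ) * (a * ((p : ℝ) + 1) + b) ^ 2 -
        2 * (Y.card : ℝ) * (a * ((p : ℝ) - 1) - b) ^ 2 := by
  haveI : Fact (Nat.Prime 2) := ⟨Nat.prime_two⟩
  have hnd : ¬ 2 ∣ Nat.card π.ker := fun h => (Nat.not_even_iff_odd.2 hker) (even_iff_two_dvd.2 h)
  have hex : ∀ χ : IrrCharacter C, χ ∈ principalBlock M C →
      ∃ ψ : IrrCharacter D, ∀ c, (χ : C → ℂ) c = (ψ : D → ℂ) (π c) := by
    intro χ hχ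
    obtain ⟨ψ, hψ, e⟩ := PF.Nine.exists_descend π hπ χ.2 fun x hx =>
      principalBlock_kernel hM hχ hnd (MonoidHom.mem_ker.2 hx)
    exact ⟨⟨ψ, hψ⟩, e⟩
  haveI : Nonempty (IrrCharacter D) := ⟨principalIrr D⟩
  choose! Φ hΦ using hex
  let f : IrrCharacter D → ℝ := fun ψ =>
    ‖(a : ℂ) * (ψ : D → ℂ) 1 + (b : ℂ) * (ψ : D → ℂ) (Q.emb u)‖ ^ 2
  have hf0 : ∀ ψ, 0 ≤ f ψ := fun ψ => by positivity
  set B := Finset.univ.filter (· ∈ principalBlock M C)
  have hinj : Set.InjOn Φ (B : Set (IrrCharacter C)) := by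
    intro χ hχ χ' hχ' e
    refine Subtype.ext (funext fun c => ?_)
    rw [hΦ χ (Finset.mem_filter.1 hχ).2, hΦ χ' (Finset.mem_filter.1 hχ').2, e]
  have hdisj : Disjoint (Q.liesOver X) (Q.liesOver Y) := by
    rw [Finset.disjoint_left]
    intro ψ hψX hψY
    obtain ⟨K, hK, -, hu1, -⟩ := Q.exists_over_values hX hψX
    obtain ⟨K', hK', -, hu2, -⟩ := Q.exists_over_values hY hψY
    have h := (hu1 u hu).symm.trans (hu2 u hu)
    push_cast at h
    have h' : (K : ℤ) * 1 = (K' : ℤ) * -1 := by exact_mod_cast h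
    omega
  have hbad : Disjoint (B.image Φ) (Q.liesOver X ∪ Q.liesOver Y) := by
    rw [Finset.disjoint_left]
    intro ψ hψ hψ'
    obtain ⟨χ, hχ, rfl⟩ := Finset.mem_image.1 hψ
    have hχ' := (Finset.mem_filter.1 hχ).2
    rcases Finset.mem_union.1 hψ' with h | h
    · exact Q.over_notMem π hπ hker hM (Or.inl rfl) hX h hχ' (hΦ χ hχ')
    · exact Q.over_notMem π hπ hker hM (Or.inr rfl) hY h hχ' (hΦ χ hχ')
  have hsum : ∑ χ ∈ B, ‖(a : ℂ) * (χ : C → ℂ) 1 + (b : ℂ) * (χ : C → ℂ) y‖ ^ 2 +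
      (∑ ψ ∈ Q.liesOver X, f ψ + ∑ ψ ∈ Q.liesOver Y, f ψ) ≤ ∑ ψ, f ψ := by
    rw [← Finset.sum_union hdisj,
      show ∑ χ ∈ B, ‖(a : ℂ) * (χ : C → ℂ) 1 + (b : ℂ) * (χ : C → ℂ) y‖ ^ 2 = ∑ ψ ∈ B.image Φ, f ψ by
        rw [Finset.sum_image hinj]
        refine Finset.sum_congr rfl fun χ hχ => ?_
        rw [hΦ χ (Finset.mem_filter.1 hχ).2 1, hΦ χ (Finset.mem_filter.1 hχ).2 y, hy, map_one],
      ← Finset.sum_union hbad]
    exact Finset.sum_le_sum_of_subset_of_nonneg (Finset.subset_univ _) fun ψ _ _ => hf0 ψ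
  have hall : ∑ ψ, f ψ = (Nat.card D : ℝ) * a ^ 2 + 2 * (p : ℝ) * b ^ 2 := by
    have hne : ¬ IsConj (1 : D) (Q.emb u) := by
      rw [isConj_one_right]
      intro h
      rw [← map_one Q.emb] at h
      rw [Q.inj h, orderOf_one] at hu
      exact (Fact.out : p.Prime).ne_one hu.symm
    have c1 := column_orth (1 : D) (1 : D)
    have c2 := column_orth (Q.emb u) (Q.emb u)
    have c3 := column_orth (1 : D) (Q.emb u)
    have c4 := column_orth (Q.emb u) (1 : D)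
    rw [if_pos (IsConj.refl _)] at c1 c2
    rw [if_neg hne] at c3
    rw [if_neg fun h => hne h.symm] at c4
    rw [show Subgroup.centralizer ({(1 : D)} : Set D) = ⊤ from eq_top_iff.2 fun x _ =>
      Subgroup.mem_centralizer_singleton_iff.2 (by rw [mul_one, one_mul]), Subgroup.card_top] at c1
    rw [Q.card_centralizer_p hu] at c2
    have key : ((∑ ψ, f ψ : ℝ) : ℂ) = (((Nat.card D : ℝ) * a ^ 2 + 2 * (p : ℝ) * b ^ 2 : ℝ) : ℂ) := by
      push_cast
      simp only [f, Complex.ofReal_pow, ← Complex.conj_mul', map_add, map_mul, Complex.conj_ofReal]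
      rw [Finset.sum_congr rfl fun (ψ : IrrCharacter D) _ => show
        ((a : ℂ) * conj ((ψ : D → ℂ) 1) + (b : ℂ) * conj ((ψ : D → ℂ) (Q.emb u))) *
          ((a : ℂ) * (ψ : D → ℂ) 1 + (b : ℂ) * (ψ : D → ℂ) (Q.emb u)) =
        (a : ℂ) ^ 2 * ((ψ : D → ℂ) 1 * conj ((ψ : D → ℂ) 1)) +
          (b : ℂ) ^ 2 * ((ψ : D → ℂ) (Q.emb u) * conj ((ψ : D → ℂ) (Q.emb u))) +
          (a : ℂ) * b * ((ψ : D → ℂ) 1 * conj ((ψ : D → ℂ) (Q.emb u)) +
            (ψ : D → ℂ) (Q.emb u) * conj ((ψ : D → ℂ) 1)) by ring]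
      simp only [Finset.sum_add_distrib, ← Finset.mul_sum, c1, c2, c3, c4]
      push_cast; ring
    exact_mod_cast key
  have hlow : ∀ {δ : ℤ} {Z : Finset (IrrCharacter SL)}, IsFam p δ Z → (δ = 1 ∨ δ = -1) →
      2 * (Z.card : ℝ) * (a * ((p : ℝ) + δ) + b * δ) ^ 2 ≤ ∑ ψ ∈ Q.liesOver Z, f ψ := by
    intro δ Z hZ hδ
    have hpos : (0 : ℤ) < (p : ℤ) + δ := by
      have := (Fact.out : p.Prime).two_le
      omega
    have h1 := Q.card_over_le hpos hZ
    have hne : (0 : ℝ) < (((p : ℤ) + δ : ℤ) : ℝ) := by exact_mod_cast hpos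
    set w := (a * ((p : ℝ) + δ) + b * δ) ^ 2
    have hval : ∀ ψ ∈ Q.liesOver Z, f ψ * (((p : ℤ) + δ : ℤ) : ℝ) ^ 2 = w * ‖(ψ : D → ℂ) 1‖ ^ 2 := by
      intro ψ hψ
      obtain ⟨K, -, e1, e2, -⟩ := Q.exists_over_values hZ hψ
      simp only [f, e1, e2 u hu, w]
      rw [show (a : ℂ) * ((K : ℂ) * (((p : ℤ) + δ : ℤ) : ℂ)) + (b : ℂ) * ((K : ℂ) * (δ : ℂ)) =
        (((K : ℝ) * (a * ((p : ℝ) + δ) + b * δ) : ℝ) : ℂ) by push_cast; ring,
        show (K : ℂ) * (((p : ℤ) + δ : ℤ) : ℂ) = (((K : ℝ) * (((p : ℤ) + δ : ℤ) : ℝ) : ℝ) : ℂ) by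
          push_cast; ring, Complex.norm_real, Complex.norm_real, Real.norm_eq_abs, Real.norm_eq_abs,
        sq_abs, sq_abs]
      ring
    refine le_of_mul_le_mul_right ?_ (pow_pos hne 2)
    rw [Finset.sum_mul, Finset.sum_congr rfl hval, ← Finset.mul_sum]
    calc 2 * (Z.card : ℝ) * w * (((p : ℤ) + δ : ℤ) : ℝ) ^ 2 =
          w * (2 * (Z.card : ℝ) * (((p : ℤ) + δ : ℤ) : ℝ) ^ 2) := by ring
      _ ≤ _ := mul_le_mul_of_nonneg_left h1 (sq_nonneg _)
  have l1 := hlow hX (Or.inl rfl)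
  have l2 := hlow hY (Or.inr rfl)
  push_cast at l1 l2
  rw [mul_one] at l1
  rw [show a * ((p : ℝ) + -1) + b * -1 = a * ((p : ℝ) - 1) - b by ring] at l2
  rw [hall] at hsum
  linarith

end Model

end CfsgLib.SDCyclic
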