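import Cfsg.Agent.Lib.SDCyclic.Ctx
import Cfsg.Agent.Lib.SDCyclic.Norm
import Cfsg.Agent.Lib.SDCyclic.Mult
import Cfsg.Agent.Lib.SDCyclic.Family
import Cfsg.Agent.Lib.OneSection.Main
import Cfsg.Agent.Lib.BrauerPairs.Local
import Cfsg.Agent.Lib.MetaTwoFusion.Witness
import Cfsg.Agent.S4529

/-!
The columns of the principal block at the central involution and at its products with odd elements.
-/

set_option autoImplicit false
set_option linter.unusedSectionVars false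
set_option linter.style.haveILetI false

namespace CfsgLib.SDCyclic

open Cfsg CfsgLib.QuatDefect CfsgLib.Characters CfsgLib.Blocks
open scoped ComplexConjugate Classical

universe u

/-- A lift of odd order. -/
theorem exists_odd_lift {A B : Type u} [Group A] [Finite A] [Group B] (f : A →* B)
    (hf : Function.Surjective f) {b : B} (hb : Odd (orderOf b)) :
    ∃ a, f a = b ∧ Odd (orderOf a) := by
  haveI : Fact (Nat.Prime 2) := ⟨Nat.prime_two⟩
  haveI : Finite B := Finite.of_surjective f hf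
  obtain ⟨c, rfl⟩ := hf b
  obtain ⟨x, hx⟩ := exists_isPPart Nat.prime_two c
  obtain ⟨y, hxy, hc, ⟨k, hk⟩, hy⟩ := id hx
  refine ⟨y, ?_, Nat.not_even_iff_odd.1 (fun h => hy (even_iff_two_dvd.1 h))⟩
  have h1 : IsPPart 2 (f c) (f x) := by
    obtain ⟨j, -, hj⟩ := (Nat.dvd_prime_pow Nat.prime_two).1 (hk ▸ orderOf_map_dvd f x)
    exact ⟨f y, by rw [← map_mul, hxy], hc.map f, ⟨j, hj⟩, fun h => hy (h.trans (orderOf_map_dvd f y))⟩
  have h2 : IsPPart 2 (f c) 1 :=
    ⟨f c, one_mul _, Commute.one_left _, ⟨0, orderOf_one⟩,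
      fun h => (Nat.not_even_iff_odd.2 hb) (even_iff_two_dvd.2 h)⟩
  have h3 := IsPPart.unique Nat.prime_two h1 h2
  rw [← hxy, map_mul, h3, one_mul]

theorem exists_int_of_mul {v : ℂ} (hv : IsIntegral ℤ v) {a b : ℤ} (hb : b ≠ 0)
    (h : (b : ℂ) * v = a) : ∃ k : ℤ, v = k ∧ b * k = a := by
  have hv' : v = algebraMap ℚ ℂ ((a : ℚ) / b) := by
    rw [map_div₀, map_intCast, map_intCast, eq_div_iff (Int.cast_ne_zero.2 hb), mul_comm, h]
  rw [hv', isIntegral_algebraMap_iff (algebraMap ℚ ℂ).injective] at hv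
  obtain ⟨k, hk⟩ := IsIntegrallyClosed.isIntegral_iff.1 hv
  have hk' : v = k := by rw [hv', ← hk]; simp
  refine ⟨k, hk', ?_⟩
  rw [hk'] at h
  exact_mod_cast h

/-- The sum of a character over a subgroup is the order times an integer. -/
theorem exists_int_sum {A : Type u} [Group A] [Fintype A] {P : Type u} [Group P] [Fintype P]
    (φ : P →* A) (χ : IrrCharacter A) :
    ∃ n : ℕ, ∑ x : P, (χ : A → ℂ) (φ x) = (Nat.card P : ℂ) * n := by
  obtain ⟨n, hn⟩ := classInner_char_nat (CharGalois.isCharacter_comp (irr_isCharacter χ) φ)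
    (isCharacter_one (G := P))
  refine ⟨n, ?_⟩
  rw [← hn, classInner, ← mul_assoc, mul_inv_cancel₀ (Nat.cast_ne_zero.2 Nat.card_pos.ne'), one_mul]
  simp

theorem isIntegral_irr {A : Type u} [Group A] [Finite A] (χ : IrrCharacter A) (g : A) :
    IsIntegral ℤ ((χ : A → ℂ) g) := by
  haveI := Fintype.ofFinite A
  exact CfsgLib.ClassCount.irr_isIntegral χ g

namespace Ctx

variable {G : Type u} [Group G] [Fintype G] {p m : ℕ} [Fact p.Prime] (X : Ctx G p m)
variable {M : Ideal AlgInt}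

/-- The sign with which `p` enters. -/
def q (_X : Ctx G p m) : ℤ := if p % 4 = 3 then (p : ℤ) else -(p : ℤ)

include X in
theorem p_odd : p % 2 = 1 := X.Q.p_odd

theorem q_cases : (p % 4 = 3 ∧ X.q = p) ∨ (p % 4 = 1 ∧ X.q = -(p : ℤ)) := by
  have := X.p_odd
  unfold q
  by_cases h : p % 4 = 3
  · exact Or.inl ⟨h, if_pos h⟩
  · exact Or.inr ⟨by omega, if_neg h⟩

theorem q_mod : X.q % 4 = 3 := by
  rcases X.q_cases with ⟨h, e⟩ | ⟨h, e⟩ <;> rw [e] <;> omega

theorem q_ne : (X.q : ℤ) ≠ 0 := by have := X.q_mod; omega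

theorem natAbs_q : X.q.natAbs = p := by
  rcases X.q_cases with ⟨-, e⟩ | ⟨-, e⟩ <;> rw [e] <;> simp

theorem ker_odd : Odd (Nat.card X.π.ker) := by
  haveI : Fact (Nat.Prime 2) := ⟨Nat.prime_two⟩
  rw [X.ker_π, ← Nat.not_even_iff_odd, even_iff_two_dvd]
  exact CfsgLib.PCore.not_dvd_card_pPrimeCore

theorem z_two : orderOf X.z = 2 := X.K.qd.orderOf_z

theorem hz_pow : ∃ k : ℕ, orderOf X.z = 2 ^ k := ⟨1, by rw [X.z_two, pow_one]⟩

/-- The value on the section only depends on the image. -/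
theorem val_congr (hM : IsPModular 2 M) {χ : IrrCharacter G} (hχ : χ ∈ principalBlock M G)
    {v w : X.C} (hv : Odd (orderOf v)) (hw : Odd (orderOf w)) (h : IsConj (X.π v) (X.π w)) :
    (χ : G → ℂ) (X.z * (v : G)) = (χ : G → ℂ) (X.z * (w : G)) := by
  haveI : Fact (Nat.Prime 2) := ⟨Nat.prime_two⟩
  have hnd : ∀ {x : X.C}, Odd (orderOf x) → ¬ 2 ∣ orderOf x := fun hx e =>
    (Nat.not_even_iff_odd.2 hx) (even_iff_two_dvd.2 e)
  refine section_value hM X.hz_pow (hnd hv) (hnd hw) hχ fun ψ hψ => ?_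
  obtain ⟨ψ', hψ', e⟩ := PF.Nine.exists_descend X.π X.π_surjective ψ.2 fun x hx =>
    principalBlock_kernel hM hψ
      (fun e => (Nat.not_even_iff_odd.2 X.ker_odd) (even_iff_two_dvd.2 e)) (MonoidHom.mem_ker.2 hx)
  rw [e, e]
  exact classFunction_eq_of_isConj (irr_isClassFunction ⟨ψ', hψ'⟩) h

/-- A lift of an element of order `p`. -/
theorem exists_lift_p : ∃ (u : Matrix.SpecialLinearGroup (Fin 2) (ZMod p)) (v : X.C),
    orderOf u = p ∧ X.π v = X.Q.emb u ∧ Odd (orderOf v) := by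
  refine ⟨PLocal.SLTwo.upper 1, ?_⟩
  have hu := orderOf_upper (p := p) (t := 1) one_ne_zero
  obtain ⟨v, hv, hvo⟩ := exists_odd_lift X.π X.π_surjective (b := X.Q.emb (PLocal.SLTwo.upper 1))
    (by rw [orderOf_injective X.Q.emb X.Q.inj, hu]; exact Nat.odd_iff.2 X.p_odd)
  exact ⟨v, hu, hv, hvo⟩

/-- The two integers at the central involution. -/
theorem exists_cols (hM : IsPModular 2 M) {χ : IrrCharacter G} (hχ : χ ∈ principalBlock M G)
    {u : Matrix.SpecialLinearGroup (Fin 2) (ZMod p)} (hu : orderOf u = p) {v : X.C}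
    (hv : X.π v = X.Q.emb u) (hvo : Odd (orderOf v)) :
    ∃ (d : ℕ) (d₁ d₂ : ℤ), (χ : G → ℂ) 1 = d ∧
      (χ : G → ℂ) X.z = ((d₁ + (X.q - 1) * d₂ : ℤ) : ℂ) ∧
      (χ : G → ℂ) (X.z * (v : G)) = ((d₁ - d₂ : ℤ) : ℂ) ∧
      (4 : ℤ) ∣ (d : ℤ) - (d₁ + (X.q - 1) * d₂) := by
  haveI : Fact (Nat.Prime 2) := ⟨Nat.prime_two⟩
  obtain ⟨d, xz, hd, hxz, h4⟩ := z_congr_four X.K χ
  set c := (χ : G → ℂ) (X.z * (v : G)) with hc
  -- the average over the powers of `v`
  set V := Subgroup.zpowers v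
  set φ : V →* X.C := V.subtype
  obtain ⟨n₁, hn₁⟩ := exists_int_sum ((X.C.subtype).comp φ) χ
  let zz : Subgroup.zpowers X.z →* G := (Subgroup.zpowers X.z).subtype
  let ψ : Subgroup.zpowers X.z × V →* G :=
    zz.noncommCoprod ((X.C.subtype).comp φ) fun a b => by
      obtain ⟨k, hk⟩ := Subgroup.mem_zpowers_iff.1 a.2
      show Commute (a : G) ((b : X.C) : G)
      rw [← hk]
      exact (Commute.zpow_left (Subgroup.mem_centralizer_singleton_iff.1 (b : X.C).2).symm k)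
  obtain ⟨n₂, hn₂⟩ := exists_int_sum ψ χ
  have hz2 : Finset.univ = ({1, ⟨X.z, Subgroup.mem_zpowers _⟩} : Finset (Subgroup.zpowers X.z)) := by
    refine (Finset.eq_univ_of_card _ ?_).symm
    rw [Finset.card_pair, ← Nat.card_eq_fintype_card, Nat.card_zpowers, X.z_two]
    intro e
    have := X.z_two
    rw [← show (1 : G) = X.z from congrArg Subtype.val e, orderOf_one] at this
    omega
  have hne : (1 : Subgroup.zpowers X.z) ≠ ⟨X.z, Subgroup.mem_zpowers _⟩ := fun e => by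
    have := X.z_two
    rw [← show (1 : G) = X.z from congrArg Subtype.val e, orderOf_one] at this
    omega
  have hsum : ∑ b : V, (χ : G → ℂ) (X.z * ((b : X.C) : G)) =
      (Nat.card V : ℂ) * (2 * n₂ - n₁ : ℤ) := by
    rw [Fintype.sum_prod_type, hz2, Finset.sum_pair hne, Nat.card_prod, Nat.card_zpowers, X.z_two] at hn₂
    simp only [ψ, zz, φ, MonoidHom.noncommCoprod_apply, MonoidHom.comp_apply, Subgroup.coe_subtype,
      OneMemClass.coe_one, one_mul] at hn₂ hn₁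
    rw [hn₁] at hn₂
    push_cast at hn₂ ⊢
    linear_combination hn₂
  -- split off the kernel
  set f : V →* _ := X.π.comp φ
  have hfib : ∀ b : V, (χ : G → ℂ) (X.z * ((b : X.C) : G)) = if f b = 1 then (xz : ℂ) else c := by
    intro b
    have hbo : Odd (orderOf (b : X.C)) :=
      Odd.of_dvd_nat hvo (orderOf_dvd_of_mem_zpowers b.2)
    split_ifs with hb
    · rw [X.val_congr hM hχ (w := 1) hbo (by simp) (by
        rw [map_one, show X.π (b : X.C) = 1 from hb]), OneMemClass.coe_one, mul_one, hxz]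
    · refine X.val_congr hM hχ hbo hvo ?_
      obtain ⟨k, hk⟩ := Subgroup.mem_zpowers_iff.1 b.2
      have hb' : f b = X.Q.emb (u ^ k) := by
        show X.π (b : X.C) = _
        rw [← hk, map_zpow, hv, map_zpow]
      show IsConj (f b) (X.π v)
      rw [hv, hb']
      refine X.Q.isConj_p ?_ hu
      refine orderOf_eq_prime ?_ fun e => hb (by rw [hb', e, map_one])
      rw [← zpow_natCast, ← zpow_mul, mul_comm, zpow_mul, zpow_natCast,
        orderOf_dvd_iff_pow_eq_one.1 (dvd_of_eq hu), one_zpow]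
  have hfr : f.range = Subgroup.zpowers (X.Q.emb u) := by
    rw [show f = X.π.comp V.subtype from rfl, MonoidHom.range_comp, Subgroup.range_subtype,
      MonoidHom.map_zpowers, hv]
  obtain ⟨K₀, hK₀⟩ : ∃ k, (Finset.univ.filter fun b : V => f b = 1).card = k := ⟨_, rfl⟩
  have hVcard : Nat.card V = K₀ * p := by
    rw [← hK₀, ← f.ker.card_mul_index, Subgroup.index_ker, hfr, Nat.card_zpowers,
      orderOf_injective X.Q.emb X.Q.inj, hu, ← Fintype.card_subtype, ← Nat.card_eq_fintype_card]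
    rfl
  have hK₀pos : K₀ ≠ 0 := fun e => by
    rw [e, zero_mul] at hVcard
    exact Nat.card_pos.ne' hVcard
  have hrest : (Finset.univ.filter fun b : V => ¬ f b = 1).card = K₀ * (p - 1) := by
    have h := Finset.card_filter_add_card_filter_not (s := (Finset.univ : Finset V)) (fun b => f b = 1)
    rw [hK₀, Finset.card_univ, ← Nat.card_eq_fintype_card, hVcard] at h
    rw [Nat.mul_sub, mul_one]
    omega
  have hp2 := (Fact.out : p.Prime).two_le
  have heq : (((p : ℤ) - 1 : ℤ) : ℂ) * c = (((p : ℤ) * (2 * n₂ - n₁) - xz : ℤ) : ℂ) := by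
    rw [Finset.sum_congr rfl fun b _ => hfib b, Finset.sum_ite, Finset.sum_const, Finset.sum_const,
      hK₀, hrest, hVcard, nsmul_eq_mul, nsmul_eq_mul] at hsum
    refine mul_left_cancel₀ (Nat.cast_ne_zero.2 hK₀pos : (K₀ : ℂ) ≠ 0) ?_
    push_cast [Nat.cast_sub (by omega : 1 ≤ p)] at hsum ⊢
    linear_combination hsum
  obtain ⟨c', hc', hceq⟩ := exists_int_of_mul (isIntegral_irr χ _) (by omega) heq
  obtain ⟨d₂, hd₂⟩ : X.q ∣ xz - c' := by
    rw [← Int.dvd_natAbs, ← Int.natAbs_dvd, X.natAbs_q, Int.dvd_natAbs]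
    exact ⟨(2 * (n₂ : ℤ) - n₁) - c', by linear_combination hceq⟩
  refine ⟨d, c' + d₂, d₂, hd, ?_, ?_, ?_⟩
  · rw [hxz]; congr 1; linarith
  · show (χ : G → ℂ) (X.z * (v : G)) = _
    rw [hc']; congr 1; ring
  · rw [show c' + d₂ + (X.q - 1) * d₂ = xz by linarith]; exact h4

/-- The norm of a combination of the two columns. -/
theorem cols_norm (hM : IsPModular 2 M) {u : Matrix.SpecialLinearGroup (Fin 2) (ZMod p)}
    (hu : orderOf u = p) {v : X.C} (hv : X.π v = X.Q.emb u) (hvo : Odd (orderOf v)) (a b : ℝ)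
    {P Nn : Finset (IrrCharacter (Matrix.SpecialLinearGroup (Fin 2) (ZMod p)))}
    (hP : IsFam p 1 P) (hN : IsFam p (-1) Nn) :
    ∑ χ ∈ Finset.univ.filter (· ∈ principalBlock M G),
        ‖(a : ℂ) * (χ : G → ℂ) X.z + (b : ℂ) * (χ : G → ℂ) (X.z * (v : G))‖ ^ 2 ≤
      2 * (p : ℝ) * ((p : ℝ) ^ 2 - 1) * a ^ 2 + 2 * (p : ℝ) * b ^ 2 -
        2 * (P.card : ℝ) * (a * ((p : ℝ) + 1) + b) ^ 2 -
        2 * (Nn.card : ℝ) * (a * ((p : ℝ) - 1) - b) ^ 2 := by
  haveI : Fact (Nat.Prime 2) := ⟨Nat.prime_two⟩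
  have hD : (Nat.card (↥X.C ⧸ Cfsg.oddCore ↥X.C) : ℝ) = 2 * (p : ℝ) * ((p : ℝ) ^ 2 - 1) := by
    rw [X.Q.card]
    have : 1 ≤ p ^ 2 := Nat.one_le_pow _ _ (Fact.out : p.Prime).pos
    push_cast [Nat.cast_sub this]
    ring
  rw [← hD]
  refine le_of_eq_of_le ?_ (X.Q.norm_le X.π X.π_surjective X.ker_odd hM hP hN hu hv a b)
  have hv2 : ¬ 2 ∣ orderOf v := fun e => (Nat.not_even_iff_odd.2 hvo) (even_iff_two_dvd.2 e)
  have h1 : ¬ 2 ∣ orderOf (1 : X.C) := by rw [orderOf_one]; norm_num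
  have e11 := principal_section_inner hM X.hz_pow h1 h1
  have e1v := principal_section_inner hM X.hz_pow h1 hv2
  have ev1 := principal_section_inner hM X.hz_pow hv2 h1
  have evv := principal_section_inner hM X.hz_pow hv2 hv2
  simp only [OneMemClass.coe_one, mul_one] at e11 e1v ev1
  apply Complex.ofReal_injective
  push_cast
  simp only [← Complex.conj_mul', map_add, map_mul, Complex.conj_ofReal]
  rw [Finset.sum_congr rfl fun (χ : IrrCharacter G) _ => show
      ((a : ℂ) * conj ((χ : G → ℂ) X.z) + (b : ℂ) * conj ((χ : G → ℂ) (X.z * (v : G)))) *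
        ((a : ℂ) * (χ : G → ℂ) X.z + (b : ℂ) * (χ : G → ℂ) (X.z * (v : G))) =
      (a : ℂ) * a * (conj ((χ : G → ℂ) X.z) * (χ : G → ℂ) X.z) +
      ((a : ℂ) * b * (conj ((χ : G → ℂ) X.z) * (χ : G → ℂ) (X.z * (v : G))) +
      ((b : ℂ) * a * (conj ((χ : G → ℂ) (X.z * (v : G))) * (χ : G → ℂ) X.z) +
      (b : ℂ) * b * (conj ((χ : G → ℂ) (X.z * (v : G))) * (χ : G → ℂ) (X.z * (v : G))))) by ring]
  simp only [Finset.sum_add_distrib, ← Finset.mul_sum, e11, e1v, ev1, evv]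
  simp only [Finset.mul_sum, ← Finset.sum_add_distrib]
  exact Finset.sum_congr rfl fun ψ _ => by ring

include X in
theorem exists_families : ∃ P Nn : Finset (IrrCharacter (Matrix.SpecialLinearGroup (Fin 2) (ZMod p))),
    IsFam p 1 P ∧ IsFam p (-1) Nn ∧
      2 * (P.card : ℝ) = (p : ℝ) - 1 - 2 ^ (p - 1).factorization 2 ∧
      2 * (Nn.card : ℝ) = (p : ℝ) + 1 - 2 ^ (p + 1).factorization 2 := by
  obtain ⟨P, hP, hP'⟩ := exists_family X.Q.p_ne 1 (Or.inl rfl)
  obtain ⟨N, hN, hN'⟩ := exists_family X.Q.p_ne (-1) (Or.inr rfl)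
  have hp := (Fact.out : p.Prime).two_le
  refine ⟨P, N, ?_, ?_, ?_, ?_⟩
  · intro ξ hξ
    obtain ⟨h1, h2, t, -, ht, hi, l, hl, hk, hv⟩ := hP' ξ hξ
    exact ⟨by rw [h1]; push_cast; ring, h2, t, ht, hi, l, hl, hk, hv⟩
  · intro ξ hξ
    obtain ⟨h1, h2, t, -, ht, hi, l, hl, hk, hv⟩ := hN' ξ hξ
    exact ⟨by rw [h1]; push_cast; ring, h2, t, ht, hi, l, hl, hk, hv⟩
  · rw [show (((p : ℤ) - 1).natAbs) = p - 1 by omega] at hP
    have h := congrArg (Int.cast : ℤ → ℝ) hP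
    push_cast at h
    linarith
  · rw [show (((p : ℤ) - (-1)).natAbs) = p + 1 by omega] at hN
    have h := congrArg (Int.cast : ℤ → ℝ) hN
    push_cast at h
    linarith

include X in
theorem factorization_near : (p % 4 = 3 → (p - 1).factorization 2 = 1 ∧ (p + 1).factorization 2 = m) ∧
    (p % 4 = 1 → (p + 1).factorization 2 = 1 ∧ (p - 1).factorization 2 = m) := by
  have hp := (Fact.out : p.Prime).two_le
  have hs := X.Q.sylow
  have hsq : p ^ 2 - 1 = (p + 1) * (p - 1) := by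
    rw [show p ^ 2 - 1 = p ^ 2 - 1 ^ 2 by rw [one_pow], Nat.sq_sub_sq]
  have hpodd : p.factorization 2 = 0 :=
    Nat.factorization_eq_zero_of_not_dvd (by have := X.p_odd; omega)
  rw [X.Q.card, Nat.factorization_mul two_ne_zero X.Q.card_pos'.ne', Finsupp.add_apply,
    Nat.prime_two.factorization_self, hsq, Nat.factorization_mul (by omega)
      (Nat.mul_ne_zero (by omega) (by omega)), Finsupp.add_apply, hpodd,
    Nat.factorization_mul (by omega) (by omega), Finsupp.add_apply] at hs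
  have key : ∀ n, n % 4 = 2 → n.factorization 2 = 1 := by
    intro n hn
    obtain ⟨k, rfl⟩ : ∃ k, n = 2 * (2 * k + 1) := ⟨n / 4, by omega⟩
    rw [Nat.factorization_mul two_ne_zero (by omega), Finsupp.add_apply,
      Nat.prime_two.factorization_self, Nat.factorization_eq_zero_of_not_dvd (by omega : ¬ 2 ∣ 2 * k + 1)]
  refine ⟨fun h => ?_, fun h => ?_⟩
  · have := key (p - 1) (by omega)
    omega
  · have := key (p + 1) (by omega)
    omega

/-- The bound for the first integers. -/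
theorem sum_d1 (hM : IsPModular 2 M) {u : Matrix.SpecialLinearGroup (Fin 2) (ZMod p)}
    (hu : orderOf u = p) {v : X.C} (hv : X.π v = X.Q.emb u) (hvo : Odd (orderOf v))
    (D1 D2 : IrrCharacter G → ℤ)
    (hz : ∀ χ ∈ principalBlock M G, (χ : G → ℂ) X.z = ((D1 χ + (X.q - 1) * D2 χ : ℤ) : ℂ))
    (hzv : ∀ χ ∈ principalBlock M G, (χ : G → ℂ) (X.z * (v : G)) = ((D1 χ - D2 χ : ℤ) : ℂ)) :
    (∑ χ ∈ Finset.univ.filter (· ∈ principalBlock M G), D1 χ ^ 2 ≤ 8) ∧
      ∑ χ ∈ Finset.univ.filter (· ∈ principalBlock M G), (2 * D2 χ - D1 χ) ^ 2 ≤ 4 * 2 ^ m := by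
  obtain ⟨P, N, hP, hN, cP, cN⟩ := X.exists_families
  have hp : (2 : ℝ) ≤ p := by exact_mod_cast (Fact.out : p.Prime).two_le
  have hp0 : (p : ℝ) ≠ 0 := by positivity
  obtain ⟨f3, f1⟩ := X.factorization_near
  have hq0 : (X.q : ℝ) ≠ 0 := Int.cast_ne_zero.2 X.q_ne
  constructor
  · have h := X.cols_norm hM hu hv hvo (1 / (X.q : ℝ)) (1 - 1 / (X.q : ℝ)) hP hN
    rw [Finset.sum_congr rfl (g := fun χ => ((D1 χ : ℝ) ^ 2)) fun χ hχ => by
      rw [hz χ (Finset.mem_filter.1 hχ).2, hzv χ (Finset.mem_filter.1 hχ).2,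
        show ((1 / (X.q : ℝ) : ℝ) : ℂ) * ((D1 χ + (X.q - 1) * D2 χ : ℤ) : ℂ) +
          ((1 - 1 / (X.q : ℝ) : ℝ) : ℂ) * ((D1 χ - D2 χ : ℤ) : ℂ) = ((D1 χ : ℝ) : ℂ) by
          have : (X.q : ℂ) ≠ 0 := Int.cast_ne_zero.2 X.q_ne
          push_cast; field_simp; ring, Complex.norm_real, Real.norm_eq_abs, sq_abs]] at h
    have h' : ((∑ χ ∈ Finset.univ.filter (· ∈ principalBlock M G), D1 χ ^ 2 : ℤ) : ℝ) ≤ 8 := by
      push_cast
      refine h.trans ?_
      rw [cP, cN]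
      rcases X.q_cases with ⟨h4, e⟩ | ⟨h4, e⟩
      · rw [(f3 h4).1, (f3 h4).2, e]
        push_cast
        field_simp
        nlinarith
      · rw [(f1 h4).1, (f1 h4).2, e]
        push_cast
        field_simp
        nlinarith
    exact_mod_cast h'
  · have h := X.cols_norm hM hu hv hvo (1 / (X.q : ℝ)) (-(1 / (X.q : ℝ)) - 1) hP hN
    rw [Finset.sum_congr rfl (g := fun χ => ((2 * D2 χ - D1 χ : ℤ) : ℝ) ^ 2) fun χ hχ => by
      rw [hz χ (Finset.mem_filter.1 hχ).2, hzv χ (Finset.mem_filter.1 hχ).2,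
        show ((1 / (X.q : ℝ) : ℝ) : ℂ) * ((D1 χ + (X.q - 1) * D2 χ : ℤ) : ℂ) +
          ((-(1 / (X.q : ℝ)) - 1 : ℝ) : ℂ) * ((D1 χ - D2 χ : ℤ) : ℂ) =
            (((2 * D2 χ - D1 χ : ℤ) : ℝ) : ℂ) by
          have : (X.q : ℂ) ≠ 0 := Int.cast_ne_zero.2 X.q_ne
          push_cast; field_simp; ring, Complex.norm_real, Real.norm_eq_abs, sq_abs]] at h
    have h' : ((∑ χ ∈ Finset.univ.filter (· ∈ principalBlock M G), (2 * D2 χ - D1 χ) ^ 2 : ℤ) : ℝ) ≤
        4 * 2 ^ m := by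
      push_cast at h ⊢
      refine h.trans ?_
      rw [cP, cN]
      rcases X.q_cases with ⟨h4, e⟩ | ⟨h4, e⟩
      · rw [(f3 h4).1, (f3 h4).2, e]
        push_cast
        field_simp
        nlinarith
      · rw [(f1 h4).1, (f1 h4).2, e]
        push_cast
        field_simp
        nlinarith
    exact_mod_cast h'

include X in
/-- The numbers of members of odd degree and of height one. -/
theorem heights (hM : IsPModular 2 M) :
    Nat.card {χ : IrrCharacter G // χ ∈ principalBlock M G ∧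
        ¬ 2 ∣ charDegree (χ : G → ℂ)} = 4 ∧
      Nat.card {χ : IrrCharacter G // χ ∈ principalBlock M G ∧
        2 ∣ charDegree (χ : G → ℂ) ∧ ¬ 4 ∣ charDegree (χ : G → ℂ)} = 2 ^ m - 1 := by
  haveI : Fact (Nat.Prime 2) := ⟨Nat.prime_two⟩
  have hB : IsPBlock M (principalBlock M G) := isPBlock_principalBlock M
  haveI := hM.2.1
  obtain ⟨D, hD⟩ := BrauerPairs.exists_defectGroup hM hB
  have hcS : Nat.card (X.S : Subgroup G) = 4 * 2 ^ m := X.K.qd.card
  have hv : (Nat.card G).factorization 2 = m + 2 := by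
    have h := X.S.card_eq_multiplicity
    rw [hcS, show 4 * 2 ^ m = 2 ^ (m + 2) by rw [pow_add]; ring] at h
    exact (Nat.pow_right_injective le_rfl h).symm
  have hDc : Nat.card D = 2 ^ (m + 2) := by
    rw [BlockCover.natCard_defect hM hB hD, OneSection.blockDefect_principal hM, hv]
  have hqd : IsQuasiDihedral D := by
    let D' : Sylow 2 G := Sylow.ofCard D (by rw [hDc, hv])
    let e : (X.S : Subgroup G) ≃* D := Sylow.equiv X.S D'
    obtain ⟨σ', hσ'⟩ : ∃ s : (X.S : Subgroup G), (s : G) = X.K.qd.σ := ⟨⟨_, X.K.qd.σ_mem⟩, rfl⟩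
    obtain ⟨τ', hτ'⟩ : ∃ s : (X.S : Subgroup G), (s : G) = X.K.qd.τ := ⟨⟨_, X.K.qd.τ_mem⟩, rfl⟩
    refine ⟨m + 1, by have := X.K.two_le; omega, hDc, e σ', e τ', ?_, ?_, ?_⟩
    · rw [MulEquiv.orderOf_eq, ← Subgroup.orderOf_coe, hσ', X.K.qd.ord, pow_succ']
    · rw [MulEquiv.orderOf_eq, ← Subgroup.orderOf_coe, hτ']
      exact orderOf_eq_prime (by rw [pow_two, X.K.τ_sq]) fun h =>
        X.K.qd.notMem (h ▸ Subgroup.one_mem _)
    · rw [← map_inv, ← map_mul, ← map_mul, ← map_pow]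
      congr 1
      refine Subtype.ext ?_
      simp only [Subgroup.coe_mul, InvMemClass.coe_inv, SubmonoidClass.coe_pow, hσ', hτ', X.K.qd.rel,
        X.K.a_eq, Nat.add_sub_cancel]
      rw [← zpow_natCast, Nat.cast_sub Nat.one_le_two_pow]
      push_cast; rfl
  obtain ⟨-, -, -, -, -, h0, h1, -⟩ := Cfsg.Agent.S4529.result M hM (principalBlock M G) hB D hD
    (m + 2) (by have := X.K.two_le; omega) hDc hqd
  simp only [Nat.add_sub_cancel] at h1
  have hmin : sInf ((fun ψ : IrrCharacter G => (charDegree (ψ : G → ℂ)).factorization 2) ''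
      principalBlock M G) = 0 :=
    Nat.sInf_eq_zero.2 (Or.inl ⟨principalIrr G, mem_blockOf_self hM (principalIrr G),
      by simp [charDegree, principalIrr]⟩)
  have hd0 : ∀ χ : IrrCharacter G, charDegree (χ : G → ℂ) ≠ 0 := fun χ h0' => by
    obtain ⟨d, hd0', hd⟩ := irr_exists_degree χ.2
    rw [charDegree, hd] at h0'
    simp at h0'
    omega
  refine ⟨?_, ?_⟩
  · rw [← h0]
    refine Nat.card_congr (Equiv.subtypeEquivRight fun χ => and_congr_right fun _ => ?_)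
    rw [blockHeight, hmin, Nat.sub_zero, Nat.factorization_eq_zero_iff]
    simp [Nat.prime_two, hd0 χ]
  · rw [← h1]
    refine Nat.card_congr (Equiv.subtypeEquivRight fun χ => and_congr_right fun _ => ?_)
    rw [blockHeight, hmin, Nat.sub_zero, show (4 : ℕ) = 2 ^ 2 from rfl,
      Nat.prime_two.pow_dvd_iff_le_factorization (hd0 χ), Nat.prime_two.dvd_iff_one_le_factorization (hd0 χ)]
    omega

end Ctx

end CfsgLib.SDCyclic
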