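import Cfsg.Agent.Lib.SDCyclic.Values

/-!
Counting the pairs of involutions with a given product, weighted by an exceptional function.
-/

set_option autoImplicit false
set_option linter.unusedSectionVars false
set_option linter.style.haveILetI false

namespace CfsgLib.SDCyclic

open Cfsg CfsgLib.QuatDefect CfsgLib.Characters CfsgLib.Blocks
open scoped Classical

universe u

variable {G : Type u} [Group G] {S : Sylow 2 G} {m : ℕ} {K : Sd G S m}

/-- The normaliser of `⟨y⟩` retracts onto the Sylow 2-subgroup. -/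
theorem exists_ret [Finite G] (K : Sd G S m) : Nonempty (Ret K) := by
  haveI : Fact (Nat.Prime 2) := ⟨Nat.prime_two⟩
  set H := K.qd.H with hH
  set C := Subgroup.centralizer ({K.qd.y} : Set G) with hC
  have hCH : C ≤ H := K.qd.centralizer_y_le
  have hSH : (S : Subgroup G) ≤ H := K.qd.D_le
  -- a Sylow 2-subgroup of `C(y)` is cyclic
  have hσC : Subgroup.zpowers K.qd.σ ≤ C := Subgroup.zpowers_le.2
    (Subgroup.mem_centralizer_singleton_iff.2 ((Commute.refl K.qd.σ).pow_right _).eq)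
  have hτC : K.qd.τ ∉ C := fun h => by
    have h1 := K.qd.τ_y
    rw [Subgroup.mem_centralizer_singleton_iff.1 h, mul_inv_cancel_right] at h1
    refine K.qd.two_y_ne (K.qd.rot_eq_one_iff.1 ?_)
    rw [← K.qd.rot_pow_two, pow_two]
    exact mul_eq_one_iff_eq_inv.2 h1
  have hinter : ∀ g ∈ (S : Subgroup G), g ∈ C → g ∈ Subgroup.zpowers K.qd.σ := by
    intro g hg hgC
    obtain ⟨s, rfl | rfl⟩ := K.qd.exists_elem hg
    · exact K.qd.rot_mem_zpowers s
    · exfalso
      exact hτC (by simpa using C.mul_mem (C.inv_mem (hσC (K.qd.rot_mem_zpowers s))) hgC)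
  haveI hCn : (C.subgroupOf H).Normal := ⟨fun c hc k => by
    rw [Subgroup.mem_subgroupOf] at hc ⊢
    obtain ⟨i, hi⟩ := Subgroup.mem_zpowers_iff.1
      ((Subgroup.mem_normalizer_iff.1 (H.inv_mem k.2) K.qd.y).1 (Subgroup.mem_zpowers _))
    have hcm : Commute (c : G) ((k : G)⁻¹ * K.qd.y * k) := by
      rw [inv_inv] at hi
      rw [← hi]
      exact (show Commute (c : G) K.qd.y from
        Subgroup.mem_centralizer_singleton_iff.1 hc).zpow_right i
    refine Subgroup.mem_centralizer_singleton_iff.2 ?_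
    show (k : G) * c * (k : G)⁻¹ * K.qd.y = K.qd.y * ((k : G) * c * (k : G)⁻¹)
    calc (k : G) * c * (k : G)⁻¹ * K.qd.y
        = k * ((c : G) * ((k : G)⁻¹ * K.qd.y * k)) * (k : G)⁻¹ := by group
      _ = k * ((k : G)⁻¹ * K.qd.y * k * c) * (k : G)⁻¹ := by rw [hcm.eq]
      _ = _ := by group⟩
  obtain ⟨P₀, hP₀⟩ : ∃ P₀ : Sylow 2 C, (Subgroup.zpowers K.qd.σ).subgroupOf C ≤ P₀ := by
    refine IsPGroup.exists_le_sylow ((S.2.to_le (Subgroup.zpowers_le.2 K.qd.σ_mem)).of_equiv
      (Subgroup.subgroupOfEquivOfLe hσC).symm)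
  -- Sylow 2-subgroups of `C(y)` are no larger
  have hcardP : Nat.card (P₀ : Subgroup C) ≤ 2 * 2 ^ m := by
    let P' : Subgroup H := ((P₀ : Subgroup C).map C.subtype).subgroupOf H
    have hP' : IsPGroup 2 P' := (P₀.2.map C.subtype).of_equiv
      (Subgroup.subgroupOfEquivOfLe ((Subgroup.map_subtype_le _).trans hCH)).symm
    obtain ⟨Q, hQ⟩ := hP'.exists_le_sylow
    obtain ⟨t, ht⟩ := MulAction.exists_smul_eq H Q (S.subtype hSH)
    let f : P₀ → (Subgroup.zpowers K.qd.σ : Subgroup G) := fun p =>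
      ⟨(t : G) * ((p : C) : G) * (t : G)⁻¹, by
        have hpH : ((p : C) : G) ∈ H := hCH (p : C).2
        have h1 : (⟨_, hpH⟩ : H) ∈ Q := hQ (Subgroup.mem_subgroupOf.2 ⟨p, p.2, rfl⟩)
        have h2 : t * ⟨_, hpH⟩ * t⁻¹ ∈ ((S.subtype hSH : Sylow 2 H) : Subgroup H) := by
          rw [← ht, Sylow.coe_subgroup_smul]
          exact Subgroup.smul_mem_pointwise_smul _ (MulAut.conj t) _ h1
        have h3 := hCn.conj_mem ⟨_, hpH⟩ (Subgroup.mem_subgroupOf.2 (p : C).2) t
        exact hinter _ (Subgroup.mem_subgroupOf.1 h2) (Subgroup.mem_subgroupOf.1 h3)⟩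
    have hf : Function.Injective f := fun p q h => by
      have h' : (t : G) * ((p : C) : G) * (t : G)⁻¹ = (t : G) * ((q : C) : G) * (t : G)⁻¹ :=
        congrArg Subtype.val h
      exact Subtype.ext (Subtype.ext (conj_injective (x := (t : G)) h'))
    have := Nat.card_le_card_of_injective f hf
    rwa [Nat.card_zpowers, K.qd.ord] at this
  have hPeq : (Subgroup.zpowers K.qd.σ).subgroupOf C = (P₀ : Subgroup C) := by
    refine Subgroup.eq_of_le_of_card_ge hP₀ ?_
    rwa [Nat.card_congr (Subgroup.subgroupOfEquivOfLe hσC).toEquiv, Nat.card_zpowers, K.qd.ord]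
  haveI hcyc : IsCyclic (P₀ : Subgroup C) := by
    rw [← hPeq]
    exact isCyclic_of_surjective (Subgroup.subgroupOfEquivOfLe hσC).symm (MulEquiv.surjective _)
  have hcard₀ : Nat.card (P₀ : Subgroup C) = 2 * 2 ^ m := by
    rw [← hPeq, Nat.card_congr (Subgroup.subgroupOfEquivOfLe hσC).toEquiv, Nat.card_zpowers, K.qd.ord]
  -- the normal complement
  have heven : 2 ∣ Nat.card C := by
    refine dvd_trans ?_ (Subgroup.card_subgroup_dvd_card (P₀ : Subgroup C))
    rw [hcard₀]; exact dvd_mul_right 2 _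
  have hn := IsCyclic.normalizer_le_centralizer ((Nat.minFac_eq_two_iff _).mpr heven) hcyc
  set M := (MonoidHom.transferSylow P₀ hn).ker
  have hc := MonoidHom.ker_transferSylow_isComplement' P₀ hn
  have hModd : Odd (Nat.card M) := by
    have h := P₀.not_dvd_index
    rw [hc.index_eq_card] at h
    rwa [← Nat.not_even_iff_odd, even_iff_two_dvd]
  have hMmem : ∀ x : C, x ∈ M ↔ Odd (orderOf x) := by
    intro x
    constructor
    · intro hx
      rw [← Subgroup.orderOf_mk x hx]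
      exact hModd.of_dvd_nat (orderOf_dvd_natCard _)
    · intro hodd
      rw [MonoidHom.mem_ker, ← orderOf_eq_one_iff]
      obtain ⟨k, hk⟩ := P₀.2 (MonoidHom.transferSylow P₀ hn x)
      exact Nat.eq_one_of_dvd_coprimes ((Nat.coprime_two_right.2 hodd).pow_right k)
        (orderOf_map_dvd _ x) (orderOf_dvd_of_pow_eq_one hk)
  let O : Subgroup H := M.map (Subgroup.inclusion hCH)
  have hOmem : ∀ x : H, x ∈ O ↔ (x : G) ∈ C ∧ Odd (orderOf x) := by
    intro x
    constructor
    · rintro ⟨y, hy, rfl⟩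
      exact ⟨y.2, by rw [orderOf_injective _ (Subgroup.inclusion_injective hCH) y]
                     exact (hMmem y).1 hy⟩
    · rintro ⟨hxC, hodd⟩
      refine ⟨⟨x, hxC⟩, (hMmem _).2 ?_, rfl⟩
      rwa [Subgroup.orderOf_mk, Subgroup.orderOf_coe]
  haveI hOn : O.Normal := ⟨fun x hx k => by
    rw [hOmem] at hx ⊢
    refine ⟨Subgroup.mem_subgroupOf.1 (hCn.conj_mem x (Subgroup.mem_subgroupOf.2 hx.1) k), ?_⟩
    rw [← MulAut.conj_apply, MulEquiv.orderOf_eq (MulAut.conj k) x]
    exact hx.2⟩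
  have hOodd : Odd (Nat.card O) := by
    rwa [Subgroup.card_map_of_injective (Subgroup.inclusion_injective hCH)]
  -- the Sylow subgroup maps onto the quotient
  let f : (S : Subgroup G) →* H ⧸ O := (QuotientGroup.mk' O).comp (Subgroup.inclusion hSH)
  have hfinj : Function.Injective f := by
    rw [← MonoidHom.ker_eq_bot_iff, Subgroup.eq_bot_iff_forall]
    intro x hx
    have hxO : Subgroup.inclusion hSH x ∈ O := (QuotientGroup.eq_one_iff _).1 hx
    have h1 := ((hOmem _).1 hxO).2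
    rw [orderOf_injective _ (Subgroup.inclusion_injective hSH) x] at h1
    obtain ⟨k, hk⟩ := S.2 x
    exact orderOf_eq_one_iff.1 (Nat.eq_one_of_dvd_coprimes
      ((Nat.coprime_two_right.2 h1).pow_right k) dvd_rfl (orderOf_dvd_of_pow_eq_one hk))
  have hfsurj : Function.Surjective f := by
    have hCidx : (C.subgroupOf H).index ≤ 2 := by
      haveI : Finite (H ⧸ C.subgroupOf H) := inferInstance
      let g : H ⧸ C.subgroupOf H → ({K.qd.y, K.qd.y⁻¹} : Finset G) := Quotient.lift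
        (fun k : H => ⟨(k : G) * K.qd.y * (k : G)⁻¹, by
          obtain ⟨w, hw⟩ := K.qd.exists_rot (Subgroup.zpowers_le.2 (K.qd.rot_mem_zpowers _)
            ((Subgroup.mem_normalizer_iff.1 k.2 K.qd.y).1 (Subgroup.mem_zpowers _)))
          obtain ⟨i, hi⟩ := Subgroup.mem_zpowers_iff.1
            ((Subgroup.mem_normalizer_iff.1 k.2 K.qd.y).1 (Subgroup.mem_zpowers _))
          have hy4 : K.qd.y ^ (4 : ℤ) = 1 := by
            rw [show (4 : ℤ) = ((4 : ℕ) : ℤ) from rfl, zpow_natCast, QD.y, QD.rot_pow_four,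
              K.qd.four_y, QD.rot_zero]
          have hy2 : K.qd.y * K.qd.y ≠ 1 := by
            rw [← QD.z_eq_y_sq]; intro h
            have := K.qd.orderOf_z
            rw [h, orderOf_one] at this; omega
          have hord : K.qd.y ^ (2 : ℤ) ≠ 1 := by rwa [zpow_two]
          rw [Finset.mem_insert, Finset.mem_singleton, ← hi]
          rcases Int.even_or_odd i with ⟨l, hl⟩ | ⟨l, hl⟩
          · exfalso
            refine hord ?_
            have h2 : ((k : G) * K.qd.y * (k : G)⁻¹) ^ (2 : ℤ) = 1 := by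
              rw [← hi, hl, ← zpow_mul, show (l + l) * 2 = 4 * l by ring, zpow_mul, hy4, one_zpow]
            rw [conj_zpow] at h2
            exact conj_eq_one_iff.1 h2
          · rcases Int.even_or_odd l with ⟨j, hj⟩ | ⟨j, hj⟩
            · left
              rw [hl, hj, show 2 * (j + j) + 1 = 4 * j + 1 by ring, zpow_add, zpow_mul, hy4,
                one_zpow, one_mul, zpow_one]
            · right
              rw [hl, hj, show 2 * (2 * j + 1) + 1 = 4 * (j + 1) + -1 by ring, zpow_add, zpow_mul,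
                hy4, one_zpow, one_mul, zpow_neg_one]⟩)
        (fun a b hab => Subtype.ext (by
          have h1 : ((a⁻¹ * b : H) : G) ∈ C := Subgroup.mem_subgroupOf.1
            (QuotientGroup.leftRel_apply.1 hab)
          have h2 := Subgroup.mem_centralizer_singleton_iff.1 h1
          simp only [Subgroup.coe_mul, InvMemClass.coe_inv] at h2
          show (a : G) * K.qd.y * (a : G)⁻¹ = (b : G) * K.qd.y * (b : G)⁻¹
          calc (a : G) * K.qd.y * (a : G)⁻¹
              = a * (K.qd.y * ((a : G)⁻¹ * b)) * (b : G)⁻¹ := by group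
            _ = a * ((a : G)⁻¹ * b * K.qd.y) * (b : G)⁻¹ := by rw [h2]
            _ = _ := by group))
      have hg : Function.Injective g := by
        rintro ⟨a⟩ ⟨b⟩ hab
        have hab' : (a : G) * K.qd.y * (a : G)⁻¹ = (b : G) * K.qd.y * (b : G)⁻¹ :=
          congrArg Subtype.val hab
        refine Quotient.sound (QuotientGroup.leftRel_apply.2 (Subgroup.mem_subgroupOf.2
          (Subgroup.mem_centralizer_singleton_iff.2 ?_)))
        simp only [Subgroup.coe_mul, InvMemClass.coe_inv]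
        calc (a : G)⁻¹ * b * K.qd.y = (a : G)⁻¹ * ((b : G) * K.qd.y * (b : G)⁻¹) * b := by group
          _ = (a : G)⁻¹ * ((a : G) * K.qd.y * (a : G)⁻¹) * b := by rw [hab']
          _ = _ := by group
      refine (Nat.card_le_card_of_injective g hg).trans ?_
      rw [Nat.card_eq_fintype_card, Fintype.card_coe]
      exact Finset.card_le_two
    have hle : Nat.card (H ⧸ O) ≤ Nat.card (S : Subgroup G) := by
      have h1 : O ≤ C.subgroupOf H := fun x hx => Subgroup.mem_subgroupOf.2 ((hOmem x).1 hx).1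
      show O.index ≤ _
      rw [← Subgroup.relIndex_mul_index h1]
      have h2 : O.relIndex (C.subgroupOf H) = 2 * 2 ^ m := by
        have h3 := hc.card_mul_card
        rw [hcard₀, ← Subgroup.card_map_of_injective (Subgroup.inclusion_injective hCH) (K := M)] at h3
        have h4 := (O.subgroupOf (C.subgroupOf H)).card_mul_index
        rw [Nat.card_congr (Subgroup.subgroupOfEquivOfLe h1).toEquiv,
          Nat.card_congr (Subgroup.subgroupOfEquivOfLe hCH).toEquiv, ← h3] at h4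
        exact Nat.eq_of_mul_eq_mul_left Nat.card_pos h4
      rw [h2, K.qd.card]
      calc 2 * 2 ^ m * (C.subgroupOf H).index ≤ 2 * 2 ^ m * 2 := Nat.mul_le_mul_left _ hCidx
        _ = _ := by ring
    exact (Function.Injective.bijective_of_nat_card_le hfinj hle).2
  let e : (S : Subgroup G) ≃* H ⧸ O := MulEquiv.ofBijective f ⟨hfinj, hfsurj⟩
  refine ⟨⟨((S : Subgroup G).subtype.comp e.symm.toMonoidHom).comp (QuotientGroup.mk' O),
    fun h => SetLike.coe_mem _, fun h hS => ?_, ?_⟩⟩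
  · show ((e.symm (QuotientGroup.mk' O h) : (S : Subgroup G)) : G) = h
    rw [show QuotientGroup.mk' O h = e ⟨h, hS⟩ from rfl, e.symm_apply_apply]
  · refine hOodd.of_dvd_nat (dvd_of_eq ?_)
    congr 1
    congr 1
    ext h
    rw [MonoidHom.mem_ker]
    refine (?_ : _ ↔ QuotientGroup.mk' O h = 1).trans (QuotientGroup.eq_one_iff h)
    constructor
    · intro hh
      exact e.symm.map_eq_one_iff.1 (Subtype.ext hh)
    · intro hh
      show ((e.symm (QuotientGroup.mk' O h) : (S : Subgroup G)) : G) = 1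
      rw [hh, map_one, Subgroup.coe_one]

variable [Fintype G]

/-- The number of involutions over a reflection. -/
noncomputable def kj (R : Ret K) : ℕ :=
  Nat.card {h : K.qd.H // h * h = 1 ∧ R.π h = K.qd.τ}

theorem half_mul_cases (s : ZMod (2 * 2 ^ m)) :
    ((2 ^ m : ℕ) : ZMod (2 * 2 ^ m)) * s = 0 ∨
      ((2 ^ m : ℕ) : ZMod (2 * 2 ^ m)) * s = ((2 ^ m : ℕ) : ZMod (2 * 2 ^ m)) :=
  QD.two_torsion (by rw [← two_mul, ← mul_assoc, QD.cast_two_pow_eq_zero, zero_mul])

theorem half_ne_zero : ((2 ^ m : ℕ) : ZMod (2 * 2 ^ m)) ≠ 0 := by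
  rw [Ne, ZMod.natCast_eq_zero_iff]
  intro h
  have := Nat.le_of_dvd (Nat.two_pow_pos m) h
  have := Nat.two_pow_pos m
  omega

theorem even_iff_half (s : ZMod (2 * 2 ^ m)) :
    Even s.val ↔ ((2 ^ m : ℕ) : ZMod (2 * 2 ^ m)) * s = 0 := by
  rw [val_parity, Nat.even_iff]
  split_ifs with h
  · exact iff_of_false (by omega) half_ne_zero
  · exact iff_of_true (by omega) rfl

theorem refl_sq (s : ZMod (2 * 2 ^ m)) :
    K.qd.rot s * K.qd.τ * (K.qd.rot s * K.qd.τ) =
      K.qd.rot (((2 ^ m : ℕ) : ZMod (2 * 2 ^ m)) * s) := by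
  have ha : (1 : ZMod (2 * 2 ^ m)) + K.qd.a = ((2 ^ m : ℕ) : ZMod (2 * 2 ^ m)) := by
    rw [K.a_eq]; push_cast; ring
  rw [← ha, add_mul, one_mul, QD.rot_add, ← QD.τ_conj]
  have hti : K.qd.τ⁻¹ = K.qd.τ := inv_eq_of_mul_eq_one_right K.τ_sq
  rw [hti]
  group

/-- All reflections of even index are conjugate, so they carry equally many involutions. -/
theorem card_refl_class (R : Ret K) (s : ZMod (2 * 2 ^ m)) (hs : Even s.val) :
    Nat.card {h : K.qd.H // h * h = 1 ∧ R.π h = K.qd.rot s * K.qd.τ} = kj R := by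
  haveI : NeZero (2 * 2 ^ m) := ⟨by positivity⟩
  obtain ⟨t, ht⟩ : ∃ t : ZMod (2 * 2 ^ m), s = 2 * t := by
    obtain ⟨r, hr⟩ := hs
    exact ⟨r, by rw [← ZMod.natCast_zmod_val s, hr]; push_cast; ring⟩
  -- the unit `u` with `1 - a = 2 u`
  obtain ⟨v, hv⟩ : ∃ v, ((1 + 2 ^ (m - 1) : ℕ) : ZMod (2 * 2 ^ m)) * v = 1 := by
    have hu : IsUnit ((1 + 2 ^ (m - 1) : ℕ) : ZMod (2 * 2 ^ m)) := by
      rw [ZMod.isUnit_iff_coprime, ← pow_succ']
      refine Nat.Coprime.pow_right _ (Nat.coprime_two_right.2 ?_)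
      rw [show m - 1 = (m - 2) + 1 by have := K.two_le; omega, pow_succ']
      exact ⟨2 ^ (m - 2), by ring⟩
    exact ⟨_, ZMod.mul_inv_of_unit _ hu⟩
  set w := t * v
  have hw : w + -((K.qd.a : ZMod (2 * 2 ^ m)) * w) = s := by
    have h2 := congrArg (Nat.cast (R := ZMod (2 * 2 ^ m))) K.qd.two_mul_half
    have h0 := QD.cast_two_pow_eq_zero (m := m)
    rw [K.a_eq, ht]
    push_cast at h2 hv h0 ⊢
    linear_combination 2 * t * hv - t * v * h2 - t * v * h0
  have hconj : K.qd.rot w * K.qd.τ * (K.qd.rot w)⁻¹ = K.qd.rot s * K.qd.τ := by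
    have hi : (K.qd.rot w)⁻¹ = K.qd.rot (-w) := inv_eq_of_mul_eq_one_right
      (by rw [← QD.rot_add, add_neg_cancel, QD.rot_zero])
    rw [hi, ← hw, QD.rot_add, show -((K.qd.a : ZMod (2 * 2 ^ m)) * w) =
      (K.qd.a : ZMod (2 * 2 ^ m)) * -w by ring, ← QD.τ_conj]
    group
  set c : K.qd.H := ⟨K.qd.rot w, K.qd.D_le (K.qd.rot_mem w)⟩
  have hπc : R.π c = K.qd.rot w := R.fix c (K.qd.rot_mem w)
  refine (Nat.card_congr (Equiv.subtypeEquiv (MulAut.conj c).toEquiv fun h => ?_)).symm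
  show _ ↔ c * h * c⁻¹ * (c * h * c⁻¹) = 1 ∧ R.π (c * h * c⁻¹) = _
  rw [map_mul, map_mul, map_inv, hπc, ← hconj,
    show c * h * c⁻¹ * (c * h * c⁻¹) = c * (h * h) * c⁻¹ by group, conj_eq_one_iff]
  refine and_congr_right fun _ => ⟨fun h1 => by rw [h1], fun h1 => ?_⟩
  exact mul_left_cancel (mul_right_cancel h1)

/-- The involutions over a reflection are the conjugates of `τ` under the kernel. -/
theorem kj_eq (R : Ret K) :
    kj R * Nat.card {h : R.π.ker // ((h : K.qd.H) : G) * K.qd.τ = K.qd.τ * ((h : K.qd.H) : G)} =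
      Nat.card R.π.ker := by
  set tH : K.qd.H := ⟨K.qd.τ, K.qd.D_le K.qd.τ_mem⟩
  have htπ : R.π tH = K.qd.τ := R.fix tH K.qd.τ_mem
  have ht2 : tH * tH = 1 := Subtype.ext K.τ_sq
  have hti : tH⁻¹ = tH := inv_eq_of_mul_eq_one_right ht2
  let Φ : R.π.ker → {h : K.qd.H // h * h = 1 ∧ R.π h = K.qd.τ} := fun o =>
    ⟨(o : K.qd.H) * tH * (o : K.qd.H)⁻¹, by
      rw [show (o : K.qd.H) * tH * (o : K.qd.H)⁻¹ * ((o : K.qd.H) * tH * (o : K.qd.H)⁻¹) =
        (o : K.qd.H) * (tH * tH) * (o : K.qd.H)⁻¹ by group, ht2, mul_one, mul_inv_cancel],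
      by rw [map_mul, map_mul, map_inv, MonoidHom.mem_ker.1 o.2, htπ, one_mul, inv_one, mul_one]⟩
  have hsurj : Function.Surjective Φ := by
    rintro ⟨h, hh2, hhπ⟩
    set d := h * tH with hd
    have hdO : d ∈ R.π.ker := by rw [MonoidHom.mem_ker, map_mul, hhπ, htπ, K.τ_sq]
    obtain ⟨k, hk⟩ : ∃ k : ℕ, (d ^ 2) ^ k = d := exists_pow_eq_self_of_coprime (n := 2) (by
      rw [Nat.coprime_two_left, ← Subgroup.orderOf_mk d hdO]
      exact R.ker_odd.of_dvd_nat (orderOf_dvd_natCard _))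
    have hdinv : tH * d * tH⁻¹ = d⁻¹ := by
      rw [hd, mul_inv_rev, inv_eq_of_mul_eq_one_right hh2, hti]
      calc tH * (h * tH) * tH = tH * h * (tH * tH) := by group
        _ = tH * h := by rw [ht2, mul_one]
    refine ⟨⟨d ^ k, pow_mem hdO k⟩, Subtype.ext ?_⟩
    show d ^ k * tH * (d ^ k)⁻¹ = h
    have h1 : tH * (d ^ k)⁻¹ = d ^ k * tH := by
      have : tH * d ^ k * tH⁻¹ = (d ^ k)⁻¹ := by rw [← conj_pow, hdinv, inv_pow]
      calc tH * (d ^ k)⁻¹ = tH * (tH * d ^ k * tH⁻¹) := by rw [this]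
        _ = tH * tH * d ^ k * tH⁻¹ := by group
        _ = _ := by rw [ht2, one_mul, hti]
    rw [mul_assoc, h1, ← mul_assoc, ← pow_two, ← pow_mul, mul_comm, pow_mul, hk, hd,
      mul_assoc, ht2, mul_one]
  let Cc : Subgroup R.π.ker := (Subgroup.centralizer ({tH} : Set K.qd.H)).subgroupOf R.π.ker
  have hC : Nat.card {h : R.π.ker // ((h : K.qd.H) : G) * K.qd.τ = K.qd.τ * ((h : K.qd.H) : G)} =
      Nat.card Cc := Nat.card_congr (Equiv.subtypeEquivRight fun o => by
        rw [Subgroup.mem_subgroupOf, Subgroup.mem_centralizer_singleton_iff]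
        exact ⟨fun h => Subtype.ext h, fun h => congrArg Subtype.val h⟩)
  have hfib : ∀ a b : R.π.ker, Φ a = Φ b ↔ a⁻¹ * b ∈ Cc := by
    intro a b
    rw [Subgroup.mem_subgroupOf, Subgroup.mem_centralizer_singleton_iff, Subtype.ext_iff]
    show (a : K.qd.H) * tH * (a : K.qd.H)⁻¹ = (b : K.qd.H) * tH * (b : K.qd.H)⁻¹ ↔
      ((a : K.qd.H)⁻¹ * b) * tH = tH * ((a : K.qd.H)⁻¹ * b)
    constructor
    · intro h
      calc (a : K.qd.H)⁻¹ * b * tH
          = (a : K.qd.H)⁻¹ * ((b : K.qd.H) * tH * (b : K.qd.H)⁻¹) * b := by group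
        _ = (a : K.qd.H)⁻¹ * ((a : K.qd.H) * tH * (a : K.qd.H)⁻¹) * b := by rw [h]
        _ = _ := by group
    · intro h
      calc (a : K.qd.H) * tH * (a : K.qd.H)⁻¹
          = a * (tH * ((a : K.qd.H)⁻¹ * b)) * (b : K.qd.H)⁻¹ := by group
        _ = a * ((a : K.qd.H)⁻¹ * b * tH) * (b : K.qd.H)⁻¹ := by rw [h]
        _ = _ := by group
  let Ψ : R.π.ker ⧸ Cc → {h : K.qd.H // h * h = 1 ∧ R.π h = K.qd.τ} :=
    Quotient.lift Φ fun a b h => (hfib a b).2 (QuotientGroup.leftRel_apply.1 h)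
  have hΨ : Function.Bijective Ψ := ⟨by
    rintro ⟨a⟩ ⟨b⟩ h
    exact Quotient.sound (QuotientGroup.leftRel_apply.2 ((hfib a b).1 h)), fun y => by
    obtain ⟨a, rfl⟩ := hsurj y
    exact ⟨Quotient.mk'' a, rfl⟩⟩
  rw [hC, kj, ← Nat.card_eq_of_bijective Ψ hΨ, mul_comm]
  exact Cc.card_mul_index

theorem card_even : (Finset.univ.filter fun s : ZMod (2 * 2 ^ m) => Even s.val).card = 2 ^ m := by
  haveI : NeZero (2 * 2 ^ m) := ⟨by positivity⟩
  have h1 : (Finset.univ.filter fun s : ZMod (2 * 2 ^ m) => Even s.val).card =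
      (Finset.univ.filter fun s : ZMod (2 * 2 ^ m) => ¬ Even s.val).card := by
    refine Finset.card_equiv (Equiv.addRight 1) fun s => ?_
    simp only [Finset.mem_filter, Finset.mem_univ, true_and, Equiv.coe_addRight, even_iff_half,
      mul_add, mul_one]
    rcases half_mul_cases s with e | e <;> rw [e]
    · exact iff_of_true rfl (by rw [zero_add]; exact half_ne_zero)
    · exact iff_of_false half_ne_zero
        (not_not.2 (by rw [← two_mul, QD.cast_two_pow_eq_zero]))
  have h2 := Finset.card_filter_add_card_filter_not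
    (s := (Finset.univ : Finset (ZMod (2 * 2 ^ m)))) (fun s => Even s.val)
  rw [← h1, Finset.card_univ, ZMod.card] at h2
  omega

/-- The weighted number of pairs of involutions with product in the support. -/
theorem class_product_sum (R : Ret K) {f : G → ℂ} (hf : RotFun K f) :
    (Nat.card K.qd.H : ℂ) * (∑ a ∈ Finset.univ.filter (fun g : G => orderOf g = 2),
        ∑ b ∈ Finset.univ.filter (fun g : G => orderOf g = 2),
          indFun K.qd.H (fun h => f (R.π h)) (a * b)) =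
      (Nat.card G : ℂ) * (kj R : ℂ) ^ 2 * 2 ^ m *
        ∑ s ∈ (Finset.univ : Finset (ZMod (2 * 2 ^ m))).filter (fun s => Even s.val),
          f (K.qd.rot s) := by
  haveI : NeZero (2 * 2 ^ m) := ⟨by positivity⟩
  set I := Finset.univ.filter (fun g : G => orderOf g = 2) with hI
  set g₀ : K.qd.H → ℂ := fun h => f (R.π h) with hg₀
  set F := indFun K.qd.H g₀ with hF
  let N : G → ℂ := fun x => ∑ a ∈ I, if a * x ∈ I then 1 else 0
  have hIinv : ∀ a ∈ I, a⁻¹ = a ∧ a * a = 1 := fun a ha => by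
    have h : a * a = 1 := by
      have h := pow_orderOf_eq_one a
      rwa [(Finset.mem_filter.1 ha).2, pow_two] at h
    exact ⟨inv_eq_of_mul_eq_one_right h, h⟩
  have hIconj : ∀ w a : G, w * a * w⁻¹ ∈ I ↔ a ∈ I := fun w a => by
    simp only [hI, Finset.mem_filter, Finset.mem_univ, true_and]
    rw [← MulAut.conj_apply, ← MulEquiv.coe_toMonoidHom,
      orderOf_injective _ (MulAut.conj w).injective a]
  have hN : IsClassFunction G N := by
    intro x w
    show ∑ a ∈ I, (if a * (w * x * w⁻¹) ∈ I then (1 : ℂ) else 0) = _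
    refine Finset.sum_equiv (MulAut.conj w⁻¹).toEquiv (fun a => ?_) (fun a _ => ?_)
    · exact (hIconj w⁻¹ a).symm
    · show _ = if (w⁻¹ * a * w⁻¹⁻¹) * x ∈ I then (1 : ℂ) else 0
      rw [show (w⁻¹ * a * w⁻¹⁻¹) * x = w⁻¹ * (a * (w * x * w⁻¹)) * w⁻¹⁻¹ by group]
      exact (if_congr (hIconj w⁻¹ _) rfl rfl).symm
  -- the left-hand side as a sum over `G`
  have hswap : (∑ a ∈ I, ∑ b ∈ I, F (a * b)) = ∑ x : G, F x * N x := by
    simp only [N, Finset.mul_sum, mul_ite, mul_one, mul_zero]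
    conv_rhs => rw [Finset.sum_comm]
    refine Finset.sum_congr rfl fun a ha => ?_
    rw [← Finset.sum_filter]
    refine Finset.sum_equiv (Equiv.mulLeft a) (fun b => ?_) (fun b _ => rfl)
    simp [← mul_assoc, (hIinv a ha).2]
  have hfrob := Induction.sum_indFun_mul K.qd.H g₀ hN
  set IH := (Finset.univ : Finset K.qd.H).filter (fun h => orderOf h = 2) with hIH
  have hIHmem : ∀ h : K.qd.H, h ∈ IH ↔ (h : G) ∈ I := fun h => by
    simp [hIH, hI]
  -- on the support the pairs lie in `H`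
  have hsupp : ∀ h : K.qd.H, g₀ h * N h =
      ∑ a ∈ IH, if a * h ∈ IH then g₀ h else 0 := by
    intro h
    by_cases h0 : g₀ h = 0
    · simp [h0]
    simp only [N, Finset.mul_sum, mul_ite, mul_one, mul_zero]
    obtain ⟨u, t, r, hu, hr, ht⟩ := exists_supp R hf h0
    have hinH : ∀ a ∈ I, a * (h : G) ∈ I → a ∈ K.qd.H := by
      intro a ha hah
      obtain ⟨hai, ha2⟩ := hIinv a ha
      obtain ⟨-, hah2⟩ := hIinv _ hah
      have h1 : a * (h : G) * a⁻¹ = (h : G)⁻¹ := by
        rw [hai, eq_inv_iff_mul_eq_one]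
        calc a * h * a * h = a * (h : G) * (a * h) := by group
          _ = 1 := hah2
      have h2 := IsPPart.conj (isPPart_coe hu) a
      rw [h1] at h2
      have h3 : IsPPart 2 (h : G)⁻¹ (u : G)⁻¹ := by
        obtain ⟨y, hy, hc, hk, hy2⟩ := isPPart_coe hu
        exact ⟨y⁻¹, by rw [← hy, mul_inv_rev, hc.inv_inv.eq], hc.inv_inv,
          by rwa [orderOf_inv], by rwa [orderOf_inv]⟩
      have h4 := IsPPart.unique Nat.prime_two h2 h3
      have h5 : ((t : G) * a * (t : G)⁻¹) * K.qd.rot r * ((t : G) * a * (t : G)⁻¹)⁻¹ =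
          K.qd.rot (-r) := by
        rw [show K.qd.rot (-r) = (K.qd.rot r)⁻¹ from (inv_eq_of_mul_eq_one_right (by
          rw [← QD.rot_add, add_neg_cancel, QD.rot_zero])).symm, ← ht]
        simp only [Subgroup.coe_mul, InvMemClass.coe_inv]
        calc (t : G) * a * (t : G)⁻¹ * ((t : G) * u * (t : G)⁻¹) * ((t : G) * a * (t : G)⁻¹)⁻¹
            = t * (a * (u : G) * a⁻¹) * (t : G)⁻¹ := by group
          _ = _ := by rw [h4]; group
      have h6 := K.qd.conj_mem_H hr h5
      simpa [mul_assoc] using K.qd.H.mul_mem (K.qd.H.mul_mem (K.qd.H.inv_mem t.2) h6) t.2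
    rw [← Finset.sum_filter, ← Finset.sum_filter]
    symm
    refine Finset.sum_bij (fun a _ => (a : G)) (fun a ha => ?_) ?_
      (fun a ha => ?_) (fun a _ => rfl)
    · rw [Finset.mem_filter, hIHmem, hIHmem] at ha
      exact Finset.mem_filter.2 ⟨ha.1, by simpa using ha.2⟩
    · intro a _ b _ hab
      exact SetLike.coe_eq_coe.1 hab
    · rw [Finset.mem_filter] at ha
      exact ⟨⟨a, hinH a ha.1 ha.2⟩, Finset.mem_filter.2 ⟨(hIHmem _).2 ha.1, (hIHmem _).2 ha.2⟩, rfl⟩
  have hsumH : (∑ h : K.qd.H, g₀ h * N h) = ∑ a ∈ IH, ∑ b ∈ IH, f (R.π a * R.π b) := by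
    rw [Finset.sum_congr rfl fun h _ => hsupp h, Finset.sum_comm]
    refine Finset.sum_congr rfl fun a ha => ?_
    have ha2 : a * a = 1 := by
      have h := pow_orderOf_eq_one a
      rwa [(Finset.mem_filter.1 ha).2, pow_two] at h
    rw [← Finset.sum_filter]
    refine Finset.sum_equiv (Equiv.mulLeft a) (fun b => ?_) (fun b _ => ?_)
    · simp
    · show g₀ b = f (R.π a * R.π (a * b))
      rw [← map_mul, ← mul_assoc, ha2, one_mul]
  -- the images of the involutions of `H`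
  set E := (Finset.univ : Finset (ZMod (2 * 2 ^ m))).filter (fun s => Even s.val) with hE
  set T := insert K.qd.z (E.image fun s => K.qd.rot s * K.qd.τ) with hT
  have hmapT : ∀ a ∈ IH, R.π a ∈ T := by
    intro a ha
    have ho := (Finset.mem_filter.1 ha).2
    have hsq : R.π a * R.π a = 1 := by
      have h := pow_orderOf_eq_one a
      rw [ho, pow_two] at h
      rw [← map_mul, h, map_one]
    obtain ⟨s, hs | hs⟩ := K.qd.exists_elem (R.mem a) <;> rw [hs] at hsq ⊢
    · rw [← QD.rot_add, QD.rot_eq_one_iff] at hsq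
      rcases QD.two_torsion hsq with rfl | rfl
      · exfalso
        rw [QD.rot_zero] at hs
        have h1 : a ∈ R.π.ker := hs
        have h2 : orderOf a ∣ Nat.card R.π.ker := by
          rw [← Subgroup.orderOf_mk a h1]; exact orderOf_dvd_natCard _
        rw [ho] at h2
        exact Nat.not_even_iff_odd.2 R.ker_odd (even_iff_two_dvd.2 h2)
      · exact Finset.mem_insert_self _ _
    · rw [refl_sq, QD.rot_eq_one_iff] at hsq
      refine Finset.mem_insert_of_mem (Finset.mem_image.2 ⟨s, ?_, rfl⟩)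
      exact Finset.mem_filter.2 ⟨Finset.mem_univ _, (even_iff_half s).2 hsq⟩
  have hweight : ∀ ψ : G → ℂ, ψ K.qd.z = 0 →
      (∑ a ∈ IH, ψ (R.π a)) = (kj R : ℂ) * ∑ s ∈ E, ψ (K.qd.rot s * K.qd.τ) := by
    intro ψ hψ
    rw [← Finset.sum_fiberwise_of_maps_to hmapT, hT, Finset.sum_insert, Finset.sum_image,
      Finset.mul_sum]
    · rw [Finset.sum_eq_zero, zero_add]
      · refine Finset.sum_congr rfl fun s hs => ?_
        rw [Finset.sum_congr rfl (g := fun _ => ψ (K.qd.rot s * K.qd.τ))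
          (fun a ha => by rw [(Finset.mem_filter.1 ha).2]), Finset.sum_const, nsmul_eq_mul]
        congr 1
        have hs' := (Finset.mem_filter.1 hs).2
        rw [← card_refl_class R s hs', Nat.card_eq_fintype_card, Fintype.card_subtype]
        congr 2
        ext a
        simp only [hIH, Finset.mem_filter, Finset.mem_univ, true_and]
        constructor
        · rintro ⟨h1, h2⟩
          have h := pow_orderOf_eq_one a
          rw [h1, pow_two] at h
          exact ⟨h, h2⟩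
        · rintro ⟨h1, h2⟩
          refine ⟨orderOf_eq_prime (by rw [pow_two]; exact h1) fun h => ?_, h2⟩
          rw [h, map_one] at h2
          exact K.qd.rot_ne_τ 0 s (by rw [QD.rot_zero]; exact h2)
      · intro a ha
        rw [(Finset.mem_filter.1 ha).2, hψ]
    · intro a _ b _ e
      exact K.qd.rot_inj (mul_right_cancel e)
    · rw [Finset.mem_image]
      rintro ⟨s, -, e⟩
      exact K.qd.rot_ne_τ _ s e.symm
  have hf1 : f 1 = 0 := by
    by_contra h
    obtain ⟨s, hs, hs2⟩ := hf.supp 1 (Subgroup.one_mem _) h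
    exact hs2 (by rw [K.qd.rot_eq_one_iff.1 hs.symm, mul_zero])
  have hfout : ∀ s, f (K.qd.rot s * K.qd.τ) = 0 := fun s => by
    by_contra h
    obtain ⟨r, hr, -⟩ := hf.supp _ (Subgroup.mul_mem _ (K.qd.rot_mem s) K.qd.τ_mem) h
    exact K.qd.rot_ne_τ r s hr.symm
  have hzrefl : ∀ s, K.qd.rot s * K.qd.τ * K.qd.z =
      K.qd.rot (((2 ^ m : ℕ) : ZMod (2 * 2 ^ m)) + s) * K.qd.τ := fun s => by
    rw [K.qd.z_comm (Subgroup.mul_mem _ (K.qd.rot_mem s) K.qd.τ_mem), QD.z, ← mul_assoc,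
      ← QD.rot_add]
  have hzleft : ∀ x ∈ T, f (x * K.qd.z) = 0 ∧ f (K.qd.z * x) = 0 := by
    intro x hx
    rcases Finset.mem_insert.1 hx with rfl | hx
    · have hzz : K.qd.z * K.qd.z = 1 := by
        have h := pow_orderOf_eq_one K.qd.z
        rwa [K.qd.orderOf_z, pow_two] at h
      simp [hzz, hf1]
    · obtain ⟨s, -, rfl⟩ := Finset.mem_image.1 hx
      refine ⟨by rw [hzrefl]; exact hfout _, ?_⟩
      rw [← K.qd.z_comm (Subgroup.mul_mem _ (K.qd.rot_mem s) K.qd.τ_mem), hzrefl]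
      exact hfout _
  have hinner : ∀ a ∈ IH, (∑ b ∈ IH, f (R.π a * R.π b)) =
      (kj R : ℂ) * ∑ s ∈ E, f (R.π a * (K.qd.rot s * K.qd.τ)) := fun a ha =>
    hweight (fun x => f (R.π a * x)) (hzleft _ (hmapT a ha)).1
  have hprod : ∀ s' s, K.qd.rot s' * K.qd.τ * (K.qd.rot s * K.qd.τ) =
      K.qd.rot (s' + (K.qd.a : ZMod (2 * 2 ^ m)) * s) := fun s' s => by
    rw [QD.rot_add, ← QD.τ_conj, inv_eq_of_mul_eq_one_right K.τ_sq]
    group
  have hEa : ∀ s, ((2 ^ m : ℕ) : ZMod (2 * 2 ^ m)) * ((K.qd.a : ZMod (2 * 2 ^ m)) * s) =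
      ((2 ^ m : ℕ) : ZMod (2 * 2 ^ m)) * s := fun s => by
    rw [mul_left_comm, ← mul_assoc, K.qd.a_half]
  have hsumE : ∀ s ∈ E, (∑ s' ∈ E, f (K.qd.rot (s' + (K.qd.a : ZMod (2 * 2 ^ m)) * s))) =
      ∑ r ∈ E, f (K.qd.rot r) := by
    intro s hs
    refine Finset.sum_equiv (Equiv.addRight _) (fun s' => ?_) (fun _ _ => rfl)
    have hs' := (Finset.mem_filter.1 hs).2
    rw [even_iff_half] at hs'
    simp only [hE, Finset.mem_filter, Finset.mem_univ, true_and, Equiv.coe_addRight, even_iff_half,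
      mul_add, hEa, hs', add_zero]
  have hmain : (∑ h : K.qd.H, g₀ h * N h) =
      (kj R : ℂ) ^ 2 * 2 ^ m * ∑ r ∈ E, f (K.qd.rot r) := by
    rw [hsumH, Finset.sum_congr rfl hinner, ← Finset.mul_sum,
      hweight (fun x => ∑ s ∈ E, f (x * (K.qd.rot s * K.qd.τ)))
        (Finset.sum_eq_zero fun s hs =>
          (hzleft _ (Finset.mem_insert_of_mem (Finset.mem_image.2 ⟨s, hs, rfl⟩))).2)]
    simp only [hprod]
    rw [Finset.sum_comm, Finset.sum_congr rfl hsumE, Finset.sum_const, nsmul_eq_mul, card_even]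
    push_cast
    ring
  have hG : (Nat.card G : ℂ) ≠ 0 := Nat.cast_ne_zero.2 Nat.card_pos.ne'
  have hHn : (Nat.card K.qd.H : ℂ) ≠ 0 := Nat.cast_ne_zero.2 Nat.card_pos.ne'
  rw [hmain] at hfrob
  rw [hswap]
  rw [← hF] at hfrob
  field_simp at hfrob
  linear_combination hfrob

end CfsgLib.SDCyclic
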