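import Cfsg.Agent.Lib.QuatDefect.Group
import Cfsg.Agent.Lib.Blocks.BlockParts

/-!
Class functions of a semidihedral Sylow 2-subgroup carried by the rotations of order above two.
-/

set_option autoImplicit false
set_option linter.unusedSectionVars false

namespace CfsgLib.SDCyclic

open Cfsg CfsgLib.QuatDefect

universe u

/-- A semidihedral Sylow 2-subgroup of order `4 * 2 ^ m`. -/
structure Sd (G : Type u) [Group G] (S : Sylow 2 G) (m : ℕ) where
  /-- its generators -/
  qd : QD (S : Subgroup G) m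
  a_eq : qd.a = 2 ^ m - 1
  τ_sq : qd.τ * qd.τ = 1
  two_le : 2 ≤ m

variable {G : Type u} [Group G] {S : Sylow 2 G} {m : ℕ} (K : Sd G S m)

/-- A retraction of the normaliser of `⟨y⟩` onto the Sylow 2-subgroup. -/
structure Ret where
  /-- the map -/
  π : K.qd.H →* G
  mem : ∀ h, π h ∈ (S : Subgroup G)
  fix : ∀ h : K.qd.H, (h : G) ∈ (S : Subgroup G) → π h = h
  ker_odd : Odd (Nat.card π.ker)

/-- Supported on the rotations of order above two and invariant inside the Sylow subgroup. -/
structure RotFun (f : G → ℂ) : Prop where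
  cls : ∀ g ∈ (S : Subgroup G), ∀ h ∈ (S : Subgroup G), f (h * g * h⁻¹) = f g
  supp : ∀ g ∈ (S : Subgroup G), f g ≠ 0 → ∃ s, g = K.qd.rot s ∧ 2 * s ≠ 0

/-- The function of norm three. -/
noncomputable def thetaFun (g : G) : ℂ :=
  K.qd.pair 0 g - K.qd.pair ((2 ^ (m - 1) : ℕ) : ZMod (2 * 2 ^ m)) g

/-- The function of norm four. -/
noncomputable def thetaZero (g : G) : ℂ :=
  K.qd.pair 0 g - K.qd.pair ((2 ^ m : ℕ) : ZMod (2 * 2 ^ m)) g

end CfsgLib.SDCyclic
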