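import Cfsg.Agent.Lib.SDCyclic.Model
import Cfsg.Agent.Lib.SDCyclic.Local
import Cfsg.Prelude

/-!
The hypotheses of the gap: a simple group with semidihedral Sylow 2-subgroups and cyclic Sylow
subgroups of odd order, with the quotient of the involution centraliser identified.
-/

set_option autoImplicit false
set_option linter.unusedSectionVars false

namespace CfsgLib.SDCyclic

open Cfsg CfsgLib.QuatDefect

universe u

/-- The context. -/
structure Ctx (G : Type u) [Group G] (p m : ℕ) [Fact p.Prime] where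
  S : Sylow 2 G
  K : Sd G S m
  simple : IsSimpleGroup G
  cyc : ∀ r : ℕ, r.Prime → r ≠ 2 → ∀ R : Sylow r G, IsCyclic R
  Q : Model (↥(Subgroup.centralizer ({K.qd.z} : Set G)) ⧸
    Cfsg.oddCore ↥(Subgroup.centralizer ({K.qd.z} : Set G))) p m
  mk_σ : ∀ h : K.qd.σ ∈ Subgroup.centralizer ({K.qd.z} : Set G),
    QuotientGroup.mk ⟨K.qd.σ, h⟩ = Q.qd.σ
  mk_τ : ∀ h : K.qd.τ ∈ Subgroup.centralizer ({K.qd.z} : Set G),
    QuotientGroup.mk ⟨K.qd.τ, h⟩ = Q.qd.τ

namespace Ctx

variable {G : Type u} [Group G] [Finite G] {p m : ℕ} [Fact p.Prime] (X : Ctx G p m)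

/-- The central involution of the Sylow subgroup. -/
abbrev z : G := X.K.qd.z

/-- Its centraliser. -/
abbrev C : Subgroup G := Subgroup.centralizer ({X.z} : Set G)

/-- The quotient by the odd core. -/
def π : ↥X.C →* ↥X.C ⧸ Cfsg.oddCore ↥X.C := QuotientGroup.mk' _

theorem π_surjective : Function.Surjective X.π := QuotientGroup.mk'_surjective _

theorem ker_π : X.π.ker = Cfsg.oddCore ↥X.C := QuotientGroup.ker_mk' _

theorem syl_le : (X.S : Subgroup G) ≤ X.C := fun _ hg =>
  Subgroup.mem_centralizer_singleton_iff.2 (X.K.qd.z_comm hg)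

theorem card_C : Nat.card X.C = Nat.card X.π.ker * (2 * (p * (p ^ 2 - 1))) := by
  rw [← X.π.ker.card_mul_index, Subgroup.index_ker, MonoidHom.range_eq_top.2 X.π_surjective,
    Subgroup.card_top, X.Q.card]

end Ctx

end CfsgLib.SDCyclic
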