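import Cfsg.Agent.Lib.SDCyclic.Arith

/-!
Semidihedral Sylow 2-subgroups and cyclic odd Sylow subgroups: the valuations in the two order equations.
-/

set_option autoImplicit false

namespace CfsgLib.SDCyclic.Arith

/-- No solution when the second coefficient vanishes. -/
theorem no_zero {G C oj k d m : ℕ} {X : ℤ} (hm : 2 ≤ m) (hG : G ≠ 0) (hC : C ≠ 0) (hk : k ≠ 0)
    (hoj : oj ≠ 0) (hojo : ¬ 2 ∣ oj) (hd : d ≠ 0) (hdG : d ∣ G) (hX : (d : ℤ) = |X + 1|)
    (hXodd : ¬ (2 : ℤ) ∣ X) (hvG : G.factorization 2 = m + 2) (hvC : C.factorization 2 = m + 2)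
    (h : (G : ℤ) * oj * (X + 1) = 2 ^ (m - 1) * (C : ℤ) ^ 2 * (k : ℤ) ^ 2 * X) : False := by
  have hX0 : X ≠ 0 := by rintro rfl; simp at hXodd
  have hX1 : X + 1 ≠ 0 := fun e => hd (by rw [e, abs_zero] at hX; exact_mod_cast hX)
  have hG' : (G : ℤ) ≠ 0 := by exact_mod_cast hG
  have hoj' : (oj : ℤ) ≠ 0 := by exact_mod_cast hoj
  have hC' : (C : ℤ) ≠ 0 := by exact_mod_cast hC
  have hk' : (k : ℤ) ≠ 0 := by exact_mod_cast hk
  have h1 := congrArg (fun x : ℤ => x.natAbs.factorization 2) h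
  simp only [natAbs_factorization_mul, ne_eq, mul_eq_zero, pow_eq_zero_iff, OfNat.ofNat_ne_zero,
    not_false_eq_true, hG', hoj', hC', hk', hX0, hX1, or_self, Int.natAbs_natCast, false_and,
    Int.natAbs_pow, Nat.factorization_pow, Finsupp.smul_apply, smul_eq_mul, pow_ne_zero] at h1
  rw [Nat.factorization_eq_zero_of_not_dvd hojo,
    Nat.factorization_eq_zero_of_not_dvd (n := X.natAbs) (fun e => hXodd (Int.natCast_dvd.2 e)),
    show (2 : ℤ).natAbs = 2 from rfl, Nat.prime_two.factorization_self, hvG, hvC] at h1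
  have hd' : (X + 1).natAbs = d := by
    have : ((X + 1).natAbs : ℤ) = (d : ℤ) := by rw [hX, Int.natCast_natAbs]
    exact_mod_cast this
  have hle := (Nat.factorization_le_iff_dvd hd hG).2 hdG 2
  rw [hvG] at hle
  rw [hd'] at h1
  omega

/-- The remaining solution in the other case. -/
theorem case_one {G C oj k o p m : ℕ} {q X Y : ℤ} (hp : p.Prime) (hqp : q.natAbs = p)
    (hq : q % 4 = 3) (hm : 2 ≤ m) (hG : G ≠ 0) (hC : C ≠ 0) (hk : k ≠ 0) (hoj : oj ≠ 0)
    (hojo : ¬ 2 ∣ oj) (hojC : oj ∣ C) (hX0 : X ≠ 0) (hX1 : X + 1 ≠ 0) (hne : X + q ≠ 0)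
    (h : (G : ℤ) * (X + q) ^ 2 * oj = ((2 ^ (m - 1) : ℕ) : ℤ) * (C : ℤ) ^ 2 * (k : ℤ) ^ 2 * (X * (X + 1)))
    (hprod : (X + q * q) * (Y + q * q) = q * q * (q * q - 1))
    (hvG : G.factorization 2 = m + 2) (hvC : C.factorization 2 = m + 2)
    (hvq : (q + 1).natAbs.factorization 2 = m)
    (hloc : ∀ r, r.Prime → r ≠ 2 → r ∣ (q + 1).natAbs ∨ r = p →
      G.factorization r = C.factorization r)
    (hkj : ∀ r, r.Prime → r ≠ 2 → (q + 1).natAbs.factorization r ≤ k.factorization r)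
    (hCp : C.factorization p = 1 + o.factorization p)
    (hojp : oj.factorization p ≤ o.factorization p) :
    q = -5 ∧ X = -35 := by
  have hXX : X * (X + 1) ≠ 0 := mul_ne_zero hX0 hX1
  have hW : (2 : ℕ) ^ (m - 1) ≠ 0 := pow_ne_zero _ two_ne_zero
  have hq1 : q + 1 ≠ 0 := by
    intro e
    have := hp.two_le
    omega
  have hp2 : p ≠ 2 := by rintro rfl; omega
  have hWo : ∀ r, r.Prime → r ≠ 2 → (2 ^ (m - 1) : ℕ).factorization r = 0 := fun r hr h2 =>
    Nat.factorization_eq_zero_of_not_dvd fun e =>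
      h2 ((Nat.prime_dvd_prime_iff_eq hr Nat.prime_two).1 (hr.dvd_of_dvd_pow e))
  -- the two-part and the odd part of `q + 1`
  have hu : 2 * (q + 1) ∣ X + q := by
    rw [← Int.natAbs_dvd_natAbs, Int.natAbs_mul, show (2 : ℤ).natAbs = 2 from rfl,
      ← Nat.factorization_le_iff_dvd (Nat.mul_ne_zero two_ne_zero (Int.natAbs_ne_zero.2 hq1))
        (Int.natAbs_ne_zero.2 hne)]
    intro r
    by_cases hr : r.Prime
    swap
    · simp [Nat.factorization_eq_zero_of_not_prime _ hr]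
    rw [Nat.factorization_mul two_ne_zero (Int.natAbs_ne_zero.2 hq1), Finsupp.add_apply]
    rcases eq_or_ne r 2 with rfl | h2
    · have e := val_eq hG hoj hW hC hk hne hXX h (r := 2) (by rw [hvG, hvC])
      rw [Nat.factorization_eq_zero_of_not_dvd hojo, hvC, Nat.factorization_pow, Finsupp.smul_apply,
        Nat.prime_two.factorization_self, smul_eq_mul] at e
      rw [Nat.prime_two.factorization_self, hvq]
      omega
    rw [Nat.factorization_eq_zero_of_not_dvd fun e => h2 ((Nat.prime_dvd_prime_iff_eq hr Nat.prime_two).1 e),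
      zero_add]
    by_cases hd : r ∣ (q + 1).natAbs
    · have e := val_eq hG hoj hW hC hk hne hXX h (r := r) (hloc r hr h2 (Or.inl hd))
      have := hkj r hr h2
      have := (Nat.factorization_le_iff_dvd hoj hC).2 hojC r
      rw [hWo r hr h2] at e
      omega
    · rw [Nat.factorization_eq_zero_of_not_dvd hd]; exact Nat.zero_le _
  -- the part at `p`
  have e := val_eq hG hoj hW hC hk hne hXX h (r := p) (hloc p hp hp2 (Or.inr rfl))
  rw [hWo p hp hp2, hCp] at e
  have hdvd : ∀ {a : ℤ}, a ≠ 0 → (q ∣ a ↔ 1 ≤ a.natAbs.factorization p) := fun {a} ha => by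
    rw [← Int.natAbs_dvd_natAbs, hqp, hp.dvd_iff_one_le_factorization (Int.natAbs_ne_zero.2 ha)]
  have h1 : q ∣ X := by
    by_contra hn
    have : ¬ q ∣ X + q := fun e' => hn ((dvd_add_left (dvd_refl q)).1 e')
    rw [hdvd hne] at this
    omega
  rw [natAbs_factorization_mul hX0 hX1] at e
  refine endgame (by rw [hqp]; exact hp) hq hne hprod hu h1 fun hn => ?_
  have hqq : q * q ∣ X := (dvd_add_left (dvd_refl (q * q))).1 hn
  have h2X : 2 ≤ X.natAbs.factorization p := by
    refine (hp.pow_dvd_iff_le_factorization (Int.natAbs_ne_zero.2 hX0)).1 ?_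
    have := Int.natAbs_dvd_natAbs.2 hqq
    rwa [Int.natAbs_mul, hqp, ← pow_two] at this
  have h2u : (X + q).natAbs.factorization p < 2 := by
    by_contra hge
    have h' : q * q ∣ X + q := by
      rw [← Int.natAbs_dvd_natAbs, Int.natAbs_mul, hqp, ← pow_two,
        hp.pow_dvd_iff_le_factorization (Int.natAbs_ne_zero.2 hne)]
      omega
    have := (dvd_add_right hqq).1 h'
    have := Int.natAbs_dvd_natAbs.2 this
    rw [Int.natAbs_mul, hqp] at this
    have := Nat.le_of_dvd hp.pos this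
    have := hp.two_le
    nlinarith
  omega

end CfsgLib.SDCyclic.Arith
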