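import Cfsg.Agent.Lib.SDCyclic.Local
import Cfsg.Agent.Lib.Characters.Generalized
import Cfsg.Agent.Lib.Characters.Artin
import Cfsg.Agent.Lib.Characters.Galois
import Cfsg.Agent.Lib.BPStar.Construct

/-!
The exceptional generalised characters induced from the normaliser of the element of order four.
-/

set_option autoImplicit false
set_option linter.unusedSectionVars false
set_option linter.style.haveILetI false

namespace CfsgLib.SDCyclic

open Cfsg CfsgLib.QuatDefect CfsgLib.Characters CfsgLib.Blocks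
open scoped ComplexConjugate Classical

universe u

variable {G : Type u} [Group G] {S : Sylow 2 G} {m : ℕ} {K : Sd G S m}

/-- The induced function. -/
noncomputable def indRot [Fintype G] (R : Ret K) (f : G → ℂ) : G → ℂ :=
  indFun K.qd.H (fun h => f (R.π h))

section

variable [Fintype G] (R : Ret K)

theorem π_conj (t h : K.qd.H) : R.π (t * h * t⁻¹) = R.π t * R.π h * (R.π t)⁻¹ := by simp

theorem isClassFunction_pull {f : G → ℂ} (hf : RotFun K f) :
    IsClassFunction K.qd.H (fun h => f (R.π h)) := fun g t => by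
  show f (R.π (t * g * t⁻¹)) = f (R.π g)
  rw [π_conj, hf.cls _ (R.mem g) _ (R.mem t)]

theorem two_part_image {x : K.qd.H} {u : K.qd.H} (hu : IsPPart 2 x u) : R.π x = R.π u := by
  haveI : Fact (Nat.Prime 2) := ⟨Nat.prime_two⟩
  obtain ⟨y, hy, -, -, hy2⟩ := hu
  have h1 : R.π y = 1 := by
    obtain ⟨k, hk⟩ := IsPGroup.iff_orderOf.1 S.2 (⟨R.π y, R.mem y⟩ : (S : Subgroup G))
    rw [Subgroup.orderOf_mk] at hk
    have hd : orderOf (R.π y) ∣ orderOf y := orderOf_map_dvd R.π y
    rw [hk] at hd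
    rcases k with _ | k
    · rwa [pow_zero, orderOf_eq_one_iff] at hk
    · exact absurd ((dvd_pow_self 2 k.succ_ne_zero).trans hd) hy2
  rw [← hy, map_mul, h1, mul_one]

/-- The support. -/
theorem exists_supp {f : G → ℂ} (hf : RotFun K f) {x : K.qd.H} (hx : f (R.π x) ≠ 0) :
    ∃ (u t : K.qd.H) (s : ZMod (2 * 2 ^ m)), IsPPart 2 x u ∧ 2 * s ≠ 0 ∧
      ((t * u * t⁻¹ : K.qd.H) : G) = K.qd.rot s := by
  haveI : Fact (Nat.Prime 2) := ⟨Nat.prime_two⟩
  obtain ⟨u, hu⟩ := exists_isPPart Nat.prime_two x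
  obtain ⟨y, -, -, ⟨k, hk⟩, -⟩ := id hu
  obtain ⟨P, hP⟩ := (IsPGroup.of_card (n := k) (by rw [Nat.card_zpowers, hk]) :
    IsPGroup 2 (Subgroup.zpowers u)).exists_le_sylow
  let P₀ : Sylow 2 K.qd.H := S.subtype K.qd.D_le
  obtain ⟨t, ht⟩ := MulAction.exists_smul_eq K.qd.H P P₀
  have hmem : t * u * t⁻¹ ∈ (P₀ : Subgroup K.qd.H) := by
    rw [← ht, Sylow.coe_subgroup_smul]
    exact Subgroup.smul_mem_pointwise_smul u (MulAut.conj t) _ (hP (Subgroup.mem_zpowers u))
  have hS : ((t * u * t⁻¹ : K.qd.H) : G) ∈ (S : Subgroup G) := hmem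
  have hne : f ((t * u * t⁻¹ : K.qd.H) : G) ≠ 0 := by
    rw [← R.fix _ hS, π_conj, hf.cls _ (R.mem u) _ (R.mem t), ← two_part_image R hu]
    exact hx
  obtain ⟨s, hs, hs2⟩ := hf.supp _ hS hne
  exact ⟨u, t, s, hu, hs2, hs⟩

theorem isPPart_coe {x u : K.qd.H} (hu : IsPPart 2 x u) : IsPPart 2 (x : G) (u : G) := by
  obtain ⟨y, hy, hc, hk, hy2⟩ := hu
  refine ⟨y, ?_, hc.map K.qd.H.subtype, ?_, ?_⟩
  · rw [← hy]; rfl
  · simpa [Subgroup.orderOf_coe] using hk
  · simpa [Subgroup.orderOf_coe] using hy2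

theorem indRot_apply_supp {f : G → ℂ} (hf : RotFun K f) {x u t : K.qd.H} (hu : IsPPart 2 x u)
    {s : ZMod (2 * 2 ^ m)} (hs : 2 * s ≠ 0) (ht : ((t * u * t⁻¹ : K.qd.H) : G) = K.qd.rot s) :
    indRot R f (x : G) = f (R.π x) := by
  set g : K.qd.H → ℂ := fun h => f (R.π h) with hg
  have key : ∀ w : G, w ∉ K.qd.H → extendByZero K.qd.H g (w⁻¹ * x * w) = 0 := by
    intro w hw
    by_cases hmem : w⁻¹ * (x : G) * w ∈ K.qd.H
    · rw [Induction.extendByZero_mem _ _ hmem]
      by_contra hne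
      obtain ⟨u', t', r, hu', hr, ht'⟩ := exists_supp R hf hne
      have h1 := IsPPart.conj (isPPart_coe hu) w⁻¹
      rw [inv_inv] at h1
      have h2 : (u' : G) = w⁻¹ * u * w := IsPPart.unique Nat.prime_two (isPPart_coe hu') h1
      have h3 : ((t' : G) * w⁻¹ * (t : G)⁻¹) * K.qd.rot s *
          ((t' : G) * w⁻¹ * (t : G)⁻¹)⁻¹ = K.qd.rot r := by
        rw [← ht, ← ht']
        simp only [Subgroup.coe_mul, Subgroup.coe_inv, h2]
        group
      have h4 := K.qd.conj_mem_H hs h3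
      refine hw ?_
      have h5 := K.qd.H.mul_mem (K.qd.H.mul_mem (K.qd.H.inv_mem t'.2) h4) t.2
      simpa [mul_assoc] using h5
    · exact Induction.extendByZero_notMem _ _ hmem
  rw [indRot, Induction.indFun_apply, ← Finset.sum_subset (Finset.subset_univ
    ((Finset.univ : Finset K.qd.H).map (Function.Embedding.subtype (· ∈ K.qd.H))))
    (fun w _ hw => key w fun hwK => hw (Finset.mem_map.2 ⟨⟨w, hwK⟩, Finset.mem_univ _, rfl⟩)),
    Finset.sum_map]
  simp only [Function.Embedding.subtype_apply]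
  rw [Finset.sum_congr rfl fun (c : K.qd.H) _ =>
    show extendByZero K.qd.H g ((c : G)⁻¹ * x * c) = g x by
      rw [show ((c : G)⁻¹ * x * c) = ((c⁻¹ * x * c : K.qd.H) : G) from rfl, Induction.extendByZero_coe]
      have := isClassFunction_pull R hf x c⁻¹
      rwa [inv_inv] at this]
  rw [Finset.sum_const, Finset.card_univ, nsmul_eq_mul, ← Nat.card_eq_fintype_card, ← mul_assoc,
    inv_mul_cancel₀ (Nat.cast_ne_zero.2 Nat.card_pos.ne'), one_mul]

/-- The induced functions vanish where the 2-part has order at most two. -/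
theorem indRot_small {f : G → ℂ} (hf : RotFun K f) {g : G}
    (hg : ∀ u, IsPPart 2 g u → orderOf u ∣ 2) : indRot R f g = 0 := by
  rw [indRot, Induction.indFun_apply, Finset.sum_eq_zero, mul_zero]
  intro w _
  by_cases hmem : w⁻¹ * g * w ∈ K.qd.H
  · rw [Induction.extendByZero_mem _ _ hmem]
    by_contra hne
    obtain ⟨u, t, s, hu, hs, ht⟩ := exists_supp R hf hne
    have h1 := hg _ (by
      have := IsPPart.conj (isPPart_coe hu) w
      rwa [show w * (w⁻¹ * g * w) * w⁻¹ = g by group] at this)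
    refine hs ?_
    rw [← K.qd.rot_eq_one_iff, ← K.qd.rot_pow_two, ← ht, ← orderOf_dvd_iff_pow_eq_one]
    simp only [Subgroup.coe_mul, Subgroup.coe_inv]
    rw [BPStar.orderOf_conj']
    rwa [BPStar.orderOf_conj'] at h1
  · exact Induction.extendByZero_notMem _ _ hmem

/-- Sums over `H` are sums over the Sylow subgroup. -/
theorem sum_pull (F : G → ℂ) :
    (Nat.card K.qd.H : ℂ)⁻¹ * ∑ h : K.qd.H, F (R.π h) =
      (Nat.card (S : Subgroup G) : ℂ)⁻¹ * ∑ p : (S : Subgroup G), F p := by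
  set π' : K.qd.H →* (S : Subgroup G) := R.π.codRestrict (S : Subgroup G) R.mem
  have hsurj : Function.Surjective π' := fun p =>
    ⟨⟨p, K.qd.D_le p.2⟩, Subtype.ext (R.fix _ p.2)⟩
  have hker : π'.ker = R.π.ker := R.π.ker_codRestrict _ _
  have hfib : ∀ p : (S : Subgroup G),
      (Finset.univ.filter fun h : K.qd.H => π' h = p).card = Nat.card R.π.ker := by
    intro p
    obtain ⟨h0, hh0⟩ := hsurj p
    rw [← Fintype.card_subtype, ← Nat.card_eq_fintype_card, ← hker]
    exact Nat.card_congr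
      { toFun := fun c => ⟨h0⁻¹ * c.1, by rw [MonoidHom.mem_ker, map_mul, map_inv, hh0, c.2, inv_mul_cancel]⟩
        invFun := fun o => ⟨h0 * o.1, by rw [map_mul, hh0, MonoidHom.mem_ker.1 o.2, mul_one]⟩
        left_inv := fun c => Subtype.ext (mul_inv_cancel_left _ _)
        right_inv := fun o => Subtype.ext (inv_mul_cancel_left _ _) }
  have hcard : Nat.card K.qd.H = Nat.card R.π.ker * Nat.card (S : Subgroup G) := by
    rw [← π'.ker.card_mul_index, Subgroup.index_ker, MonoidHom.range_eq_top.2 hsurj,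
      Subgroup.card_top, hker]
  have hsum : ∑ h : K.qd.H, F (R.π h) = (Nat.card R.π.ker : ℂ) * ∑ p : (S : Subgroup G), F p := by
    rw [← Finset.sum_fiberwise Finset.univ π' (fun h => F (R.π h)), Finset.mul_sum]
    refine Finset.sum_congr rfl fun p _ => ?_
    rw [Finset.sum_congr rfl (g := fun _ => F p) (fun h hh => ?_), Finset.sum_const, hfib,
      nsmul_eq_mul]
    exact congrArg F (congrArg Subtype.val (Finset.mem_filter.1 hh).2)
  have hk : (Nat.card R.π.ker : ℂ) ≠ 0 := Nat.cast_ne_zero.2 Nat.card_pos.ne'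
  rw [hsum, hcard, Nat.cast_mul, mul_inv]
  field_simp

/-- Induction is isometric. -/
theorem inner_indRot {f g : G → ℂ} (hf : RotFun K f) (hg : RotFun K g) :
    classInner (indRot R f) (indRot R g) =
      (Nat.card (S : Subgroup G) : ℂ)⁻¹ * ∑ p : (S : Subgroup G), f p * conj (g p) := by
  rw [← sum_pull R (fun x => f x * conj (g x)), indRot,
    Induction.classInner_indFun _ _ (show IsClassFunction G (indRot R g) from Induction.isClassFunction_indFun _ _),
    classInner]
  refine congrArg _ (Finset.sum_congr rfl fun x _ => ?_)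
  by_cases hx : f (R.π x) = 0
  · rw [hx, zero_mul, zero_mul]
  obtain ⟨u, t, s, hu, hs, ht⟩ := exists_supp R hf hx
  congr 2
  exact indRot_apply_supp R hg hu hs ht

/-- The coefficient of the principal character. -/
theorem inner_indRot_one (f : G → ℂ) :
    classInner (indRot R f) (fun _ : G => (1 : ℂ)) =
      (Nat.card (S : Subgroup G) : ℂ)⁻¹ * ∑ p : (S : Subgroup G), f p := by
  rw [indRot, Induction.classInner_indFun _ _ (show IsClassFunction G (fun _ : G => (1 : ℂ)) from fun _ _ => rfl), classInner,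
    ← sum_pull R f]
  simp

/-- The sum over the Sylow subgroup is the sum over the rotations. -/
theorem sum_rot {F : G → ℂ} (hF : ∀ s, F (K.qd.rot s * K.qd.τ) = 0) :
    ∑ p : (S : Subgroup G), F p = ∑ s : ZMod (2 * 2 ^ m), F (K.qd.rot s) := by
  let e : ZMod (2 * 2 ^ m) ↪ (S : Subgroup G) :=
    ⟨fun s => ⟨K.qd.rot s, K.qd.rot_mem s⟩, fun a b h => K.qd.rot_inj (congrArg Subtype.val h)⟩
  rw [← Finset.sum_subset (Finset.subset_univ (Finset.univ.map e)), Finset.sum_map]
  · rfl
  · intro p _ hp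
    obtain ⟨s, hs | hs⟩ := K.qd.exists_elem p.2
    · exact absurd (Finset.mem_map.2 ⟨s, Finset.mem_univ _, Subtype.ext hs.symm⟩) hp
    · rw [hs]; exact hF s

end

end CfsgLib.SDCyclic
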