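import Mathlib

/-!
If a Sylow 2-subgroup lies in the centralizer of an involution `z` and all its elements of order 4
square to `z`, then for a prime `r` with cyclic Sylow subgroups and an element `y` of order `r`
centralizing `z` (under one of two local conditions) `C(z)` contains a Sylow `r`-subgroup.
-/

set_option autoImplicit false
set_option linter.style.haveILetI false

namespace CfsgLib.SDCyclic

open Subgroup

universe u

variable {G : Type u} [Group G] [Finite G]

/-- Elements of order 4 of `C(z)` square to `z`. -/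
theorem sq_eq_of_order_four (S : Sylow 2 G) {z : G}
    (hzc : (S : Subgroup G) ≤ centralizer {z})
    (hsq : ∀ a ∈ (S : Subgroup G), orderOf a = 4 → a * a = z) {x : G}
    (hxz : x * z = z * x) (hx : orderOf x = 4) : x * x = z := by
  haveI : Fact (Nat.Prime 2) := ⟨Nat.prime_two⟩
  set C := centralizer ({z} : Set G)
  have hxC : x ∈ C := mem_centralizer_singleton_iff.2 hxz
  have hP : IsPGroup 2 (zpowers (⟨x, hxC⟩ : C)) :=
    IsPGroup.of_card (n := 2) (by rw [Nat.card_zpowers, Subgroup.orderOf_mk, hx]; norm_num)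
  obtain ⟨Q, hQ⟩ := hP.exists_le_sylow
  obtain ⟨g, rfl⟩ := MulAction.exists_smul_eq C (S.subtype hzc) Q
  have hm : (⟨x, hxC⟩ : C) ∈ ((g • S.subtype hzc : Sylow 2 C) : Subgroup C) := hQ (mem_zpowers _)
  rw [Sylow.coe_subgroup_smul, Subgroup.mem_pointwise_smul_iff_inv_smul_mem, ← map_inv,
    MulAut.smul_def, MulAut.conj_apply, Sylow.coe_subtype, mem_subgroupOf] at hm
  simp only [Subgroup.coe_mul, InvMemClass.coe_inv, inv_inv] at hm
  have hgz : (g : G) * z = z * g := mem_centralizer_singleton_iff.1 g.2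
  have h1 := hsq _ hm (by
    rw [← hx, show (g : G)⁻¹ * x * g = MulAut.conj ((g : G)⁻¹) x by simp]
    exact orderOf_injective (MulAut.conj (g : G)⁻¹).toMonoidHom (MulAut.conj (g : G)⁻¹).injective x)
  calc x * x = g * ((g : G)⁻¹ * x * g * ((g : G)⁻¹ * x * g)) * (g : G)⁻¹ := by group
    _ = z := by rw [h1, hgz, mul_inv_cancel_right]

/-- In a group with a cyclic Sylow `r`-subgroup containing the central element `y` of order `r`,
the normalizer of that Sylow subgroup centralizes it. -/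
theorem normalizer_le_of_fix {H : Type u} [Group H] [Finite H] {r : ℕ} [Fact r.Prime]
    (R : Sylow r H) (hcyc : IsCyclic R) {y : H} (hy : orderOf y = r)
    (hyR : y ∈ (R : Subgroup H)) (hyc : ∀ g : H, g * y = y * g) :
    normalizer ((R : Subgroup H) : Set H) ≤ centralizer ((R : Subgroup H) : Set H) := by
  have hr : r.Prime := Fact.out
  intro g hg
  obtain ⟨x, hx⟩ := hcyc.exists_generator
  obtain ⟨a, ha⟩ := R.2.exists_card_eq
  have hox : orderOf (x : H) = r ^ a := by
    rw [Subgroup.orderOf_coe, orderOf_eq_card_of_forall_mem_zpowers hx, ← ha]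
  obtain ⟨m, hm⟩ := mem_zpowers_iff.1 (hx ⟨g * x * g⁻¹, (mem_normalizer_iff.1 hg _).1 x.2⟩)
  have hm' : g * (x : H) * g⁻¹ = (x : H) ^ m := by
    have := congrArg Subtype.val hm
    simpa using this.symm
  obtain ⟨j, hj⟩ := mem_zpowers_iff.1 (hx ⟨y, hyR⟩)
  have hj' : (x : H) ^ j = y := by simpa using congrArg Subtype.val hj
  have hy1 : y ^ m = y ^ (1 : ℤ) := by
    rw [zpow_one]
    calc y ^ m = ((x : H) ^ m) ^ j := by rw [← hj', ← zpow_mul, ← zpow_mul, mul_comm]
      _ = g * (x : H) ^ j * g⁻¹ := by rw [← hm', conj_zpow]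
      _ = y := by rw [hj', hyc, mul_inv_cancel_right]
  have hmr : ((r : ℕ) : ℤ) ∣ m - 1 := by
    have h0 := zpow_eq_zpow_iff_modEq.1 hy1
    rw [hy] at h0
    exact (Int.modEq_iff_dvd.1 h0.symm)
  have hpow : ∀ k : ℕ, g ^ k * (x : H) * (g ^ k)⁻¹ = (x : H) ^ m ^ k := by
    intro k
    induction k with
    | zero => simp
    | succ k ih =>
      calc g ^ (k + 1) * (x : H) * (g ^ (k + 1))⁻¹ = g * (g ^ k * x * (g ^ k)⁻¹) * g⁻¹ := by
            rw [pow_succ']; group
        _ = (g * (x : H) * g⁻¹) ^ m ^ k := by rw [ih, conj_zpow]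
        _ = (x : H) ^ m ^ (k + 1) := by rw [hm', ← zpow_mul, pow_succ']
  have hfix : g ^ r ^ a * (x : H) * (g ^ r ^ a)⁻¹ = x := by
    rw [hpow]
    conv_rhs => rw [← zpow_one (x : H)]
    refine zpow_eq_zpow_iff_modEq.2 (Int.ModEq.symm (Int.modEq_iff_dvd.2 ?_))
    rw [hox]
    have h0 := dvd_sub_pow_of_dvd_sub (p := r) hmr a
    rw [one_pow] at h0
    push_cast
    exact (pow_dvd_pow ((r : ℕ) : ℤ) (Nat.le_succ a)).trans h0
  set C := centralizer ((R : Subgroup H) : Set H) with hC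
  have hga : g ^ r ^ a ∈ C := mem_centralizer_iff.2 fun z hz => by
    obtain ⟨i, hi⟩ := mem_zpowers_iff.1 (hx ⟨z, hz⟩)
    have hi' : (x : H) ^ i = z := by simpa using congrArg Subtype.val hi
    rw [← hi']
    exact ((show Commute (g ^ r ^ a) (x : H) from mul_inv_eq_iff_eq_mul.1 hfix).zpow_right i).eq.symm
  set Nn := normalizer ((R : Subgroup H) : Set H)
  have hRC : (R : Subgroup H) ≤ C := fun z hz => mem_centralizer_iff.2 fun z' hz' => by
    haveI := hcyc
    letI : CommGroup R := IsCyclic.commGroup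
    exact congrArg Subtype.val (mul_comm (⟨z', hz'⟩ : R) ⟨z, hz⟩)
  haveI : (C.subgroupOf Nn).Normal := ⟨fun c hc k => by
    rw [mem_subgroupOf] at hc ⊢
    refine mem_centralizer_iff.2 fun z hz => ?_
    have hz' : (k : H)⁻¹ * z * k ∈ (R : Subgroup H) := by
      simpa using (mem_normalizer_iff.1 (inv_mem k.2) z).1 hz
    show z * ((k : H) * c * (k : H)⁻¹) = (k : H) * c * (k : H)⁻¹ * z
    calc z * ((k : H) * c * (k : H)⁻¹) = k * ((k : H)⁻¹ * z * k * c) * (k : H)⁻¹ := by group
      _ = k * (c * ((k : H)⁻¹ * z * k)) * (k : H)⁻¹ := by rw [mem_centralizer_iff.1 hc _ hz']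
      _ = _ := by group⟩
  have hcop : (r ^ a).Coprime (C.subgroupOf Nn).index := by
    refine Nat.Coprime.pow_left _ ((Nat.Prime.coprime_iff_not_dvd hr).2 fun hd => R.not_dvd_index ?_)
    exact (hd.trans (relIndex_dvd_of_le_left Nn hRC)).trans (relIndex_dvd_index_of_le le_normalizer)
  have hind : g ^ (C.subgroupOf Nn).index ∈ C := by
    simpa [mem_subgroupOf] using Subgroup.pow_index_mem (C.subgroupOf Nn) (⟨g, hg⟩ : Nn)
  have hkey : ∀ p q : ℕ, g ^ p ∈ C → g ^ q ∈ C → g ^ p.gcd q ∈ C := by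
    intro p q hp hq
    rw [← zpow_natCast, Nat.gcd_eq_gcd_ab, zpow_add, zpow_mul, zpow_mul, zpow_natCast, zpow_natCast]
    exact mul_mem (zpow_mem hp _) (zpow_mem hq _)
  simpa [hcop.gcd_eq_one] using hkey _ _ hga hind

/-- The part for `r` of the order of `G` divides the order of `C(z)`. -/
theorem order_eq (S : Sylow 2 G) {z : G} (hz : orderOf z = 2) (hzS : z ∈ (S : Subgroup G))
    (hzc : (S : Subgroup G) ≤ Subgroup.centralizer {z})
    (hsq : ∀ a ∈ (S : Subgroup G), orderOf a = 4 → a * a = z)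
    {r : ℕ} [Fact r.Prime] (hr : r ≠ 2) (hcyc : ∀ R : Sylow r G, IsCyclic R)
    {y : G} (hy : orderOf y = r) (hyz : y * z = z * y)
    (hT : (∃ w, w * y = y * w ∧ w * w = z) ∨
      (∀ w, w * y = y * w → w * z = z * w → (∃ k, orderOf w = 2 ^ k) → w ∈ Subgroup.zpowers z)) :
    (Nat.card G).factorization r =
      (Nat.card (Subgroup.centralizer ({z} : Set G))).factorization r := by
  haveI : Fact (Nat.Prime 2) := ⟨Nat.prime_two⟩
  have hrp : r.Prime := Fact.out
  set C := centralizer ({y} : Set G) with hC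
  set Z := centralizer ({z} : Set G) with hZ
  set D := C ⊓ Z with hD
  have hzD : z ∈ D := ⟨mem_centralizer_singleton_iff.2 hyz.symm, mem_centralizer_singleton_iff.2 rfl⟩
  -- a maximal 2-subgroup of `D` whose normalizer in `C(y)` centralizes `z`
  have hmax : ∀ x ∈ D, (∃ k, orderOf x = 2 ^ k) → ∃ T ≤ D, IsPGroup 2 T ∧ x ∈ T ∧
      ∀ Q ≤ D, IsPGroup 2 Q → T ≤ Q → Q = T := by
    rintro x hx ⟨k, hk⟩
    have hP : IsPGroup 2 (zpowers (⟨x, hx⟩ : D)) :=
      IsPGroup.of_card (n := k) (by rw [Nat.card_zpowers, Subgroup.orderOf_mk, hk])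
    obtain ⟨P, hP'⟩ := hP.exists_le_sylow
    refine ⟨(P : Subgroup D).map D.subtype, map_subtype_le _, P.2.map _,
      ⟨_, hP' (mem_zpowers _), rfl⟩, fun Q hQD hQ hle => ?_⟩
    have h1 : Q.subgroupOf D = (P : Subgroup D) := P.is_maximal'
      (hQ.of_equiv (subgroupOfEquivOfLe hQD).symm)
      (fun p hp => mem_subgroupOf.2 (hle ⟨p, hp, rfl⟩))
    rw [← h1, map_subgroupOf_eq_of_le hQD]
  obtain ⟨T, hTD, hT2, hzT, hTmax, hnorm⟩ : ∃ T ≤ D, IsPGroup 2 T ∧ z ∈ T ∧
      (∀ Q ≤ D, IsPGroup 2 Q → T ≤ Q → Q = T) ∧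
      ∀ t ∈ C, t ∈ normalizer (T : Set G) → t ∈ Z := by
    rcases hT with ⟨w, hwy, hw⟩ | hT
    · have hwz : w * z = z * w := by rw [← hw, mul_assoc]
      have hw4 : orderOf w = 2 ^ (1 + 1) := by
        refine orderOf_eq_prime_pow ?_ ?_
        · rw [pow_one, pow_two, hw]; intro h; simp [h] at hz
        · rw [pow_succ, pow_one, pow_mul, pow_two, pow_two, hw, ← hw]
          rw [hw, ← pow_two, ← hz, pow_orderOf_eq_one]
      obtain ⟨T, hTD, hT2, hwT, hTmax⟩ := hmax w
        ⟨mem_centralizer_singleton_iff.2 hwy, mem_centralizer_singleton_iff.2 hwz⟩ ⟨_, hw4⟩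
      refine ⟨T, hTD, hT2, hw ▸ mul_mem hwT hwT, hTmax, fun t _ ht => ?_⟩
      have h1 : t * w * t⁻¹ ∈ T := (mem_normalizer_iff.1 ht w).1 hwT
      have h2 := sq_eq_of_order_four S hzc hsq (mem_centralizer_singleton_iff.1 (hTD h1).2)
        ((orderOf_injective (MulAut.conj t).toMonoidHom (MulAut.conj t).injective w).trans
          (hw4.trans (by norm_num)))
      refine mem_centralizer_singleton_iff.2 (mul_inv_eq_iff_eq_mul.1 ?_)
      conv_lhs => rw [← hw]
      rw [← h2]; group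
    · obtain ⟨T, hTD, hT2, hzT, hTmax⟩ := hmax z hzD ⟨1, by rw [hz, pow_one]⟩
      refine ⟨T, hTD, hT2, hzT, hTmax, fun t _ ht => ?_⟩
      have h1 : t * z * t⁻¹ ∈ T := (mem_normalizer_iff.1 ht z).1 hzT
      obtain ⟨k, hk⟩ := IsPGroup.iff_orderOf.1 hT2 ⟨_, h1⟩
      have h2 := hT _ (mem_centralizer_singleton_iff.1 (hTD h1).1)
        (mem_centralizer_singleton_iff.1 (hTD h1).2) ⟨k, by rwa [Subgroup.orderOf_mk] at hk⟩
      obtain ⟨i, hi⟩ := mem_zpowers_iff.1 h2
      have hz2 : z ^ (2 : ℤ) = 1 := by rw [zpow_ofNat, ← hz, pow_orderOf_eq_one]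
      refine mem_centralizer_singleton_iff.2 (mul_inv_eq_iff_eq_mul.1 ?_)
      rcases Int.even_or_odd i with ⟨l, hl⟩ | ⟨l, hl⟩
      · exfalso
        rw [hl, ← two_mul, zpow_mul, hz2, one_zpow] at hi
        have : z = 1 := conj_eq_one_iff.1 hi.symm
        simp [this] at hz
      · rw [hl, zpow_add, zpow_mul, hz2, one_zpow, one_mul, zpow_one] at hi
        exact hi.symm
  -- `T` is a Sylow 2-subgroup of `C(y)`
  have hTC : T ≤ C := fun t ht => (hTD ht).1
  have hsyl : ∀ Q : Subgroup C, IsPGroup 2 Q → T.subgroupOf C ≤ Q → Q = T.subgroupOf C := by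
    intro Q hQ hle
    by_contra hne
    haveI : Group.IsNilpotent Q := hQ.isNilpotent
    have hlt : (T.subgroupOf C).subgroupOf Q < ⊤ := lt_of_le_of_ne le_top fun h =>
      hne (le_antisymm (subgroupOf_eq_top.1 h) hle)
    obtain ⟨t, htn, htT⟩ :=
      SetLike.exists_of_lt (Group.normalizerCondition_of_isNilpotent _ hlt)
    have htN : ((t : C) : G) ∈ normalizer (T : Set G) := by
      refine mem_normalizer_iff.2 fun x => ?_
      have hnn := mem_normalizer_iff.1 htn
      constructor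
      · intro hx
        have := (hnn ⟨⟨x, hTC hx⟩, hle (mem_subgroupOf.2 hx)⟩).1 (by simpa [mem_subgroupOf] using hx)
        simpa [mem_subgroupOf] using this
      · intro hx
        have hxC : x ∈ C := by
          have := mul_mem (mul_mem (inv_mem (t : C).2) (hTC hx)) (t : C).2
          simpa [mul_assoc] using this
        have hxQ : (⟨x, hxC⟩ : C) ∈ Q := by
          have h0 : (⟨_, hTC hx⟩ : C) ∈ Q := hle (mem_subgroupOf.2 hx)
          have := mul_mem (mul_mem (inv_mem t.2) h0) t.2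
          convert this using 1
          exact Subtype.ext (by simp [mul_assoc])
        have := (hnn ⟨⟨x, hxC⟩, hxQ⟩).2 (by simpa [mem_subgroupOf] using hx)
        simpa [mem_subgroupOf] using this
    have htD : ((t : C) : G) ∈ D := ⟨(t : C).2, hnorm _ (t : C).2 htN⟩
    apply htT
    simp only [mem_subgroupOf]
    have hle2 : T ⊔ zpowers ((t : C) : G) ≤ D := sup_le hTD (zpowers_le.2 htD)
    have hQ' : IsPGroup 2 (T ⊔ zpowers ((t : C) : G) : Subgroup G) := by
      refine (hQ.map C.subtype).to_le (sup_le (fun x hx => ⟨⟨x, hTC hx⟩, ?_, rfl⟩)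
        (zpowers_le.2 ⟨t, t.2, rfl⟩))
      exact hle (mem_subgroupOf.2 hx)
    rw [← hTmax _ hle2 hQ' le_sup_left]
    exact mem_sup_right (mem_zpowers _)
  let T' : Sylow 2 C := ⟨T.subgroupOf C, hT2.of_equiv (subgroupOfEquivOfLe hTC).symm,
    fun {Q} hQ hle => hsyl Q hQ hle⟩
  -- a Sylow `r`-subgroup of `G` in `C(y)`
  obtain ⟨R, hyR⟩ := (IsPGroup.of_card (p := r) (G := zpowers y) (n := 1)
    (by rw [Nat.card_zpowers, hy, pow_one])).exists_le_sylow
  have hRC : (R : Subgroup G) ≤ C := fun x hx => mem_centralizer_singleton_iff.2 (by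
    haveI := hcyc R
    letI : CommGroup R := IsCyclic.commGroup
    exact congrArg Subtype.val (mul_comm (⟨x, hx⟩ : R) ⟨y, hyR (mem_zpowers y)⟩))
  set R' := R.subtype hRC
  have hyC : y ∈ C := mem_centralizer_singleton_iff.2 rfl
  haveI : IsCyclic R' := by
    haveI := hcyc R
    exact isCyclic_of_surjective (subgroupOfEquivOfLe hRC).symm (MulEquiv.surjective _)
  have hNC := normalizer_le_of_fix R' inferInstance (y := ⟨y, hyC⟩)
    (by rw [Subgroup.orderOf_mk, hy]) (mem_subgroupOf.2 (hyR (mem_zpowers y)))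
    (fun g => Subtype.ext (mem_centralizer_singleton_iff.1 g.2))
  set M := (MonoidHom.transferSylow R' hNC).ker
  have hcompl := MonoidHom.ker_transferSylow_isComplement' R' hNC
  have hMidx : M.index = r ^ (Nat.card G).factorization r := by
    rw [hcompl.symm.index_eq_card, ← Sylow.card_eq_multiplicity R]
    exact Nat.card_congr (subgroupOfEquivOfLe hRC).toEquiv
  have hTM : (T' : Subgroup C) ≤ M := by
    intro t ht
    obtain ⟨k, hk⟩ := T'.2 ⟨t, ht⟩
    obtain ⟨l, hl⟩ := R'.2 (MonoidHom.transferSylow R' hNC t)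
    rw [MonoidHom.mem_ker, ← orderOf_eq_one_iff]
    have h1 : orderOf (MonoidHom.transferSylow R' hNC t) ∣ 2 ^ k := orderOf_dvd_of_pow_eq_one (by
      rw [← map_pow, show t ^ 2 ^ k = 1 by simpa using congrArg Subtype.val hk, map_one])
    exact Nat.eq_one_of_dvd_coprimes
      (Nat.Coprime.pow k l ((Nat.coprime_primes Nat.prime_two hrp).2 hr.symm))
      h1 (orderOf_dvd_of_pow_eq_one hl)
  have hfr := Sylow.normalizer_sup_eq_top' T' hTM
  set Nn := normalizer ((T' : Subgroup C) : Set C)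
  have hdvd : M.index ∣ Nat.card Nn := by
    rw [← relIndex_top_right, ← hfr, relIndex_sup_right]
    exact relIndex_dvd_card M Nn
  have hle : Nn.map C.subtype ≤ Z := by
    rintro _ ⟨t, ht, rfl⟩
    refine hnorm _ t.2 (mem_normalizer_iff.2 fun x => ?_)
    have hnn := mem_normalizer_iff.1 ht
    constructor
    · intro hx
      have := (hnn ⟨x, hTC hx⟩).1 (mem_subgroupOf.2 hx)
      simpa [mem_subgroupOf, T'] using this
    · intro hx
      have hxC : x ∈ C := by
        have := mul_mem (mul_mem (inv_mem t.2) (hTC hx)) t.2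
        simpa [mul_assoc] using this
      have := (hnn ⟨x, hxC⟩).2 (mem_subgroupOf.2 (by simpa using hx))
      simpa [mem_subgroupOf, T'] using this
  have hdvd2 : r ^ (Nat.card G).factorization r ∣ Nat.card Z := by
    rw [← hMidx]
    refine hdvd.trans ?_
    rw [← Nat.card_congr (equivMapOfInjective Nn C.subtype C.subtype_injective).toEquiv.symm]
    exact card_dvd_of_le hle
  refine le_antisymm ((hrp.pow_dvd_iff_le_factorization Nat.card_pos.ne').1 hdvd2) ?_
  exact (Nat.factorization_le_iff_dvd Nat.card_pos.ne' Nat.card_pos.ne').2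
    (card_subgroup_dvd_card Z) r

end CfsgLib.SDCyclic
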