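import Cfsg.Agent.Lib.SDCyclic.Ctx
import Cfsg.Agent.Lib.SDCyclic.Loc
import Cfsg.Agent.Lib.Laws.Embed
import Cfsg.Agent.Lib.PCore.Basic
import Cfsg.Agent.Lib.SDCyclic.Count
import Cfsg.Agent.Lib.Transfer.Basic
import Cfsg.Agent.Lib.SL2Tori.Basic

/-!
The case `p = 5`: the odd core of the involution centraliser is trivial, and the centraliser of an
element of order three.
-/

set_option autoImplicit false
set_option linter.unusedSectionVars false
set_option linter.style.haveILetI false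
set_option maxHeartbeats 800000

namespace CfsgLib.SDCyclic

open Cfsg CfsgLib.QuatDefect Subgroup
open scoped commutatorElement

universe u

local instance factPrimeFive : Fact (Nat.Prime 5) := ⟨by norm_num⟩

/-- A finite cyclic group has at most one subgroup of each order. -/
theorem cyclic_subgroup_ext {A : Type u} [Group A] [Finite A] [IsCyclic A] {H H' : Subgroup A}
    (h : Nat.card H = Nat.card H') : H = H' := by
  classical
  haveI := Fintype.ofFinite A
  have key : ∀ K : Subgroup A, (K : Set A) = {x : A | x ^ Nat.card K = 1} := fun K => by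
    refine Set.eq_of_subset_of_ncard_le (fun x hx => ?_) ?_ (Set.toFinite _)
    · exact orderOf_dvd_iff_pow_eq_one.1 (orderOf_dvd_natCard K hx)
    · rw [← Nat.card_coe_set_eq (K : Set A), Set.ncard_eq_toFinset_card',
        Set.toFinset_ofPred]
      exact IsCyclic.card_pow_eq_one_le Nat.card_pos
  exact SetLike.coe_injective (by rw [key H, key H', h])

/-- A cyclic subgroup of prime order lying in a cyclic group is normalised with it. -/
theorem normalizer_le_of_cyclic {G : Type u} [Group G] [Finite G] {R Y : Subgroup G} (hR : IsCyclic R)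
    (hY : Y ≤ R) : normalizer (R : Set G) ≤ normalizer (Y : Set G) := by
  intro g hg
  have heq : Y.map (MulAut.conj g).toMonoidHom = Y := by
    have hle : Y.map (MulAut.conj g).toMonoidHom ≤ R := by
      rintro _ ⟨x, hx, rfl⟩
      exact (mem_normalizer_iff.1 hg x).1 (hY hx)
    have hcard : Nat.card ↥(Y.map (MulAut.conj g).toMonoidHom) = Nat.card Y :=
      card_map_of_injective (MulAut.conj g).injective
    haveI := hR
    have := cyclic_subgroup_ext (A := R)
      (H := (Y.map (MulAut.conj g).toMonoidHom).subgroupOf R) (H' := Y.subgroupOf R)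
      (by rw [Nat.card_congr (subgroupOfEquivOfLe hle).toEquiv,
            Nat.card_congr (subgroupOfEquivOfLe hY).toEquiv, hcard])
    have := congrArg (map R.subtype) this
    rwa [map_subgroupOf_eq_of_le hle, map_subgroupOf_eq_of_le hY] at this
  refine mem_normalizer_iff.2 fun x => ⟨fun hx => ?_, fun hx => ?_⟩
  · rw [← heq]; exact ⟨x, hx, rfl⟩
  · obtain ⟨y, hy, e⟩ := heq.symm ▸ hx
    have : y = x := (MulAut.conj g).injective e
    rwa [← this]

/-- An element of order `r` with cyclic Sylow `r`-subgroups whose normalizer centralises it forces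
a normal `r`-complement, against simplicity. -/
theorem false_of_normalizer_le {G : Type u} [Group G] [Finite G] [IsSimpleGroup G] {r : ℕ}
    [Fact r.Prime] (h2 : 2 ∣ Nat.card G) (hr : r ≠ 2) (hcyc : ∀ R : Sylow r G, IsCyclic R) {y : G}
    (hy : orderOf y = r)
    (hN : normalizer ((zpowers y : Subgroup G) : Set G) ≤ centralizer ({y} : Set G)) : False := by
  have hrp : r.Prime := Fact.out
  obtain ⟨R, hyR⟩ := (IsPGroup.of_card (p := r) (G := zpowers y) (n := 1)
    (by rw [Nat.card_zpowers, hy, pow_one])).exists_le_sylow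
  set N := normalizer ((R : Subgroup G) : Set G)
  have hfix : ∀ g : N, g * ⟨y, le_normalizer (hyR (mem_zpowers y))⟩ =
      ⟨y, le_normalizer (hyR (mem_zpowers y))⟩ * g := fun g =>
    Subtype.ext (mem_centralizer_singleton_iff.1 (hN (normalizer_le_of_cyclic (hcyc R) hyR g.2)))
  let R' : Sylow r N := R.subtype le_normalizer
  haveI : IsCyclic R' := by
    haveI := hcyc R
    exact isCyclic_of_surjective (subgroupOfEquivOfLe le_normalizer).symm (MulEquiv.surjective _)
  have hNC := normalizer_le_of_fix R' inferInstance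
    (y := ⟨y, le_normalizer (hyR (mem_zpowers y))⟩)
    (by rw [Subgroup.orderOf_mk, hy]) (mem_subgroupOf.2 (hyR (mem_zpowers y))) hfix
  have hle : normalizer ((R : Subgroup G) : Set G) ≤ centralizer ((R : Subgroup G) : Set G) := by
    intro g hg
    have hgn : (⟨g, hg⟩ : N) ∈ normalizer ((R' : Subgroup N) : Set N) := by
      refine mem_normalizer_iff.2 fun x => ?_
      simpa [R', mem_subgroupOf] using mem_normalizer_iff.1 hg (x : G)
    refine mem_centralizer_iff.2 fun x hx => ?_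
    exact congrArg Subtype.val (mem_centralizer_iff.1 (hNC hgn) ⟨x, le_normalizer hx⟩ hx)
  have hc := MonoidHom.ker_transferSylow_isComplement' R hle
  rcases (MonoidHom.normal_ker (MonoidHom.transferSylow R hle)).eq_bot_or_eq_top with h | h
  · have h1 := hc.card_mul_card
    rw [h, card_bot, one_mul] at h1
    obtain ⟨k, hk⟩ := R.2.exists_card_eq
    rw [← h1, hk] at h2
    exact hr ((Nat.prime_dvd_prime_iff_eq Nat.prime_two hrp).1 (Nat.prime_two.dvd_of_dvd_pow h2)).symm
  · have h1 := hc.card_mul_card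
    rw [h, card_top] at h1
    have h3 : Nat.card (R : Subgroup G) = 1 := by
      have := Nat.card_pos (α := G)
      exact (mul_eq_left₀ this.ne').1 h1
    have : y ∈ (⊥ : Subgroup G) := (eq_bot_of_card_eq _ h3) ▸ hyR (mem_zpowers y)
    rw [mem_bot.1 this, orderOf_one] at hy
    exact hrp.one_lt.ne hy

variable {G : Type u} [Group G] [Finite G]

namespace Ctx

variable {p m : ℕ} [Fact p.Prime] (X : Ctx G p m)

theorem y_mem_C : X.K.qd.y ∈ X.C :=
  Subgroup.mem_centralizer_singleton_iff.2 (QD.rot_comm _ _ _)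

theorem τ_mem_C : X.K.qd.τ ∈ X.C :=
  Subgroup.mem_centralizer_singleton_iff.2 (X.K.qd.z_comm X.K.qd.τ_mem)

theorem π_y (h : X.K.qd.y ∈ X.C) : X.π ⟨X.K.qd.y, h⟩ = X.Q.qd.y := by
  have hs : X.K.qd.σ ∈ X.C := X.syl_le X.K.qd.σ_mem
  have h1 := X.mk_σ hs
  have e : (⟨X.K.qd.y, h⟩ : ↥X.C) =
      ⟨X.K.qd.σ, hs⟩ ^ ((2 ^ (m - 1) : ℕ) : ZMod (2 * 2 ^ m)).val := Subtype.ext rfl
  rw [e, map_pow]
  show (QuotientGroup.mk (⟨X.K.qd.σ, hs⟩ : ↥X.C)) ^ _ = _
  rw [h1]
  rfl

theorem odd_core : Odd (Nat.card X.π.ker) := by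
  haveI : Fact (Nat.Prime 2) := ⟨Nat.prime_two⟩
  rw [X.ker_π]
  exact Nat.not_even_iff_odd.1 fun h =>
    CfsgLib.PCore.not_dvd_card_pPrimeCore (even_iff_two_dvd.1 h)

theorem z_sq : X.K.qd.z ^ 2 = 1 := by
  have h := pow_orderOf_eq_one X.K.qd.z
  rwa [X.K.qd.orderOf_z] at h

theorem H_le_C : X.K.qd.H ≤ X.C := fun t ht => by
  refine Subgroup.mem_centralizer_singleton_iff.2 (mul_inv_eq_iff_eq_mul.1 ?_)
  have h1 : t * X.K.qd.y * t⁻¹ ∈ zpowers X.K.qd.y :=
    (mem_normalizer_iff.1 ht _).1 (mem_zpowers _)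
  have hy4 : orderOf X.K.qd.y = 4 := by
    refine orderOf_eq_prime_pow (p := 2) (n := 1) ?_ ?_
    · rw [pow_one, pow_two, ← QD.z_eq_y_sq]
      exact fun e => by simpa [e] using X.K.qd.orderOf_z
    · rw [show 2 ^ (1 + 1) = 2 * 2 from rfl, pow_mul, pow_two X.K.qd.y, ← QD.z_eq_y_sq, X.z_sq]
  obtain ⟨w, hw⟩ := X.K.qd.exists_rot
    (Subgroup.zpowers_le.2 (X.K.qd.rot_mem_zpowers _) h1)
  obtain ⟨i, hi⟩ := mem_zpowers_iff.1 h1
  have hsq : (t * X.K.qd.y * t⁻¹) * (t * X.K.qd.y * t⁻¹) = t * X.z * t⁻¹ := by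
    show _ = t * X.K.qd.z * t⁻¹
    rw [QD.z_eq_y_sq]; group
  show t * X.z * t⁻¹ = X.z
  rw [← hsq, ← hi, ← zpow_add, ← two_mul, zpow_mul, zpow_two, ← QD.z_eq_y_sq]
  rcases Int.even_or_odd i with ⟨l, hl⟩ | ⟨l, hl⟩
  · exfalso
    have e : orderOf ((t * X.K.qd.y * t⁻¹)) ∣ 2 := by
      rw [← hi, hl, ← two_mul, zpow_mul, zpow_two, ← QD.z_eq_y_sq]
      exact orderOf_dvd_of_pow_eq_one (by
        rw [← zpow_natCast, ← zpow_mul, mul_comm, zpow_mul, zpow_natCast, X.z_sq, one_zpow])
    have e4 : orderOf (t * X.K.qd.y * t⁻¹) = 4 :=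
      (orderOf_injective (MulAut.conj t).toMonoidHom (MulAut.conj t).injective X.K.qd.y).trans hy4
    rw [e4] at e
    norm_num at e
  · rw [hl, zpow_add, zpow_mul, zpow_one, zpow_two, ← pow_two, X.z_sq, one_zpow, one_mul]

/-- The kernel of a retraction, as a subgroup of `G`. -/
def rker (R : Ret X.K) : Subgroup G := R.π.ker.map X.K.qd.H.subtype

theorem card_rker (R : Ret X.K) : Nat.card (X.rker R) = Nat.card R.π.ker :=
  card_map_of_injective X.K.qd.H.subtype_injective

theorem rker_le (R : Ret X.K) : X.rker R ≤ X.C := (map_subtype_le _).trans X.H_le_C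

theorem rker_y {R : Ret X.K} {x : G} (hx : x ∈ X.rker R) :
    x * X.K.qd.y = X.K.qd.y * x := by
  obtain ⟨h, hh, rfl⟩ := hx
  have hodd : Odd (orderOf (h : G)) := by
    rw [orderOf_coe]
    exact R.ker_odd.of_dvd_nat (orderOf_dvd_natCard R.π.ker hh)
  exact mul_inv_eq_iff_eq_mul.1 (X.K.qd.odd_comm_y h.2 hodd)

end Ctx

theorem factorization_val {n : ℕ} (q e k : ℕ) (hq : q.Prime) (hk : ¬ q ∣ k) (hn : n = q ^ e * k) :
    n.factorization q = e := by
  have hk0 : k ≠ 0 := by rintro rfl; exact hk (dvd_zero q)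
  rw [hn, Nat.factorization_mul (pow_ne_zero _ hq.ne_zero) hk0, Finsupp.add_apply,
    hq.factorization_pow, Finsupp.single_eq_same, Nat.factorization_eq_zero_of_not_dvd hk, add_zero]

section Five

variable (X : Ctx G 5 2)

theorem QD_sq {a : G} (ha : a ∈ (X.S : Subgroup G)) (h4 : orderOf a = 4) : a * a = X.z := by
  have hne : a * a ≠ 1 := fun e => by
    have := Nat.le_of_dvd two_pos (orderOf_dvd_of_pow_eq_one (by rw [pow_two, e]) : orderOf a ∣ 2)
    omega
  obtain ⟨s, rfl | rfl⟩ := X.K.qd.exists_elem ha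
  · have h : X.K.qd.rot (4 * s) = 1 := by rw [← QD.rot_pow_four, ← h4, pow_orderOf_eq_one]
    rw [QD.rot_eq_one_iff] at h
    rw [← QD.rot_add] at hne ⊢
    rcases QD.two_torsion (s := s + s) (by rw [← h]; ring) with e | e
    · exact absurd (by rw [e, QD.rot_zero]) hne
    · rw [e]; rfl
  · exact (X.K.qd.sq_outside s).resolve_left hne

theorem π_z (h : X.z ∈ X.C) : X.π ⟨X.z, h⟩ = X.Q.qd.z := by
  have e : (⟨X.z, h⟩ : ↥X.C) = ⟨_, X.y_mem_C⟩ * ⟨_, X.y_mem_C⟩ := Subtype.ext (QD.z_eq_y_sq _)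
  rw [e, map_mul, X.π_y, ← QD.z_eq_y_sq]

theorem z_mem_C : X.z ∈ X.C := X.syl_le X.K.qd.z_mem

theorem z_comm_C (c : ↥X.C) : (c : G) * X.z = X.z * c := mem_centralizer_singleton_iff.1 c.2

theorem not_isSquare_ker {h : ↥X.C} (hk : h ∈ X.π.ker) (h2 : h * h = 1) : h = 1 := by
  rw [← orderOf_eq_one_iff]
  refine Nat.eq_one_of_dvd_coprimes ?_ (orderOf_dvd_of_pow_eq_one (n := 2) (by rw [pow_two, h2]))
    (orderOf_dvd_natCard X.π.ker hk)
  exact Nat.coprime_two_left.2 X.odd_core

/-- The centraliser of an element of prime order in the odd core covers `SL₂(5)`. -/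
theorem L_le_map {r : ℕ} [Fact r.Prime] (hr : r ≠ 2) {y : ↥X.C} (hyO : y ∈ X.π.ker)
    (hy : orderOf y = r) :
    X.Q.L ≤ (centralizer ({y} : Set ↥X.C)).map X.π := by
  have hrp : r.Prime := Fact.out
  obtain ⟨P, hP⟩ := (IsPGroup.of_card (p := r) (G := zpowers (⟨y, hyO⟩ : X.π.ker)) (n := 1)
    (by rw [Nat.card_zpowers, Subgroup.orderOf_mk, hy, pow_one])).exists_le_sylow
  set Q : Subgroup ↥X.C := (P : Subgroup X.π.ker).map X.π.ker.subtype with hQ
  obtain ⟨R, hR⟩ := ((P.2.map X.π.ker.subtype).map X.C.subtype).exists_le_sylow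
  haveI := X.cyc r hrp hr R
  haveI : IsCyclic (Q.map X.C.subtype) := Subgroup.isCyclic_of_le hR
  have hQc : IsCyclic Q := isCyclic_of_surjective
    (Q.equivMapOfInjective X.C.subtype X.C.subtype_injective).symm (MulEquiv.surjective _)
  have hyQ : zpowers y ≤ Q := zpowers_le.2 ⟨_, hP (mem_zpowers _), rfl⟩
  set N := normalizer ((zpowers y : Subgroup ↥X.C) : Set ↥X.C)
  have htop : N.map X.π = ⊤ := by
    refine (eq_top_iff' _).2 fun d => ?_
    obtain ⟨c, rfl⟩ := X.π_surjective d
    have h1 : c ∈ normalizer (Q : Set ↥X.C) ⊔ X.π.ker := by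
      rw [hQ, Sylow.normalizer_sup_eq_top P]; exact mem_top c
    obtain ⟨a, ha, b, hb, rfl⟩ := (mem_sup_of_normal_right).1 h1
    exact ⟨a, normalizer_le_of_cyclic hQc hyQ ha, by
      rw [map_mul, MonoidHom.mem_ker.1 hb, mul_one]⟩
  have hcomm : commutator (↥X.C ⧸ Cfsg.oddCore ↥X.C) ≤ (centralizer ({y} : Set ↥X.C)).map X.π := by
    rw [_root_.commutator_def, commutator_le]
    intro u _ v _
    obtain ⟨a, ha, rfl⟩ := htop.ge (mem_top u)
    obtain ⟨b, hb, rfl⟩ := htop.ge (mem_top v)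
    refine ⟨⁅a, b⁆, mem_centralizer_singleton_iff.2 (mul_inv_eq_iff_eq_mul.1 ?_), by
      rw [map_commutatorElement]⟩
    obtain ⟨i, hi⟩ := mem_zpowers_iff.1 ((mem_normalizer_iff.1 ha y).1 (mem_zpowers y))
    obtain ⟨j, hj⟩ := mem_zpowers_iff.1 ((mem_normalizer_iff.1 hb y).1 (mem_zpowers y))
    have e1 : (a * b) * y * (a * b)⁻¹ = y ^ (i * j) := by
      calc (a * b) * y * (a * b)⁻¹ = a * (b * y * b⁻¹) * a⁻¹ := by group
        _ = _ := by rw [← hj, ← conj_zpow, ← hi, zpow_mul]
    have e2 : (b * a) * y * (b * a)⁻¹ = y ^ (i * j) := by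
      calc (b * a) * y * (b * a)⁻¹ = b * (a * y * a⁻¹) * b⁻¹ := by group
        _ = _ := by rw [← hi, ← conj_zpow, ← hj, ← zpow_mul, mul_comm]
    have e3 : (b * a)⁻¹ * y ^ (i * j) * (b * a) = y := by rw [← e2]; group
    calc ⁅a, b⁆ * y * ⁅a, b⁆⁻¹
        = (a * b) * ((b * a)⁻¹ * y * (b * a)) * (a * b)⁻¹ := by rw [commutatorElement_def]; group
      _ = _ := ?_
    obtain ⟨i', hi'⟩ := mem_zpowers_iff.1 ((mem_normalizer_iff.1
      (inv_mem (mul_mem hb ha)) y).1 (mem_zpowers y))
    rw [inv_inv] at hi'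
    rw [← hi', ← conj_zpow, e1, ← e2, conj_zpow, hi']
    group
  refine le_trans ?_ hcomm
  rw [Model.L, MonoidHom.range_eq_map,
    ← CfsgLib.Laws.sl_two_perfect (F := ZMod 5) (by rw [ZMod.card]; norm_num), _root_.commutator_def,
    map_commutator]
  exact commutator_mono le_top le_top

/-- An element of odd prime order in the core commutes with some square root of `z`. -/
theorem exists_root {r : ℕ} [Fact r.Prime] (hr : r ≠ 2) {y : ↥X.C} (hyO : y ∈ X.π.ker)
    (hy : orderOf y = r) : ∃ w : G, w * y = y * w ∧ w * w = X.z := by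
  obtain ⟨c, hc, hcy⟩ := L_le_map X hr hyO hy X.Q.y_mem
  have hc4 : c ^ 4 ∈ X.π.ker := by
    rw [MonoidHom.mem_ker, map_pow, hcy, ← X.Q.orderOf_y, pow_orderOf_eq_one]
  set j := orderOf (c ^ 4) with hj
  have hjo : Odd j := X.odd_core.of_dvd_nat (orderOf_dvd_natCard X.π.ker hc4)
  have hw4 : (c ^ j) ^ 4 = 1 := by
    rw [← pow_mul, mul_comm, pow_mul, hj, pow_orderOf_eq_one]
  set zC : ↥X.C := ⟨X.z, z_mem_C X⟩
  have hz2 : zC * zC = 1 := Subtype.ext (by
    show X.z * X.z = 1
    rw [← sq, X.z_sq])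
  have hy4 : X.Q.qd.y ^ 4 = 1 := by
    have h := pow_orderOf_eq_one X.Q.qd.y
    rwa [X.Q.orderOf_y] at h
  have hπ : X.π (c ^ j * c ^ j) = X.π zC := by
    obtain ⟨l, hl⟩ := hjo
    rw [← pow_add, map_pow, hcy, π_z, QD.z_eq_y_sq X.Q.qd, show j + j = 4 * l + 2 by omega, pow_add,
      pow_mul, hy4, one_pow, one_mul, pow_two]
  have hzc : Commute zC (c ^ j * c ^ j) := Subtype.ext (z_comm_C X _).symm
  have h1 : c ^ j * c ^ j * zC = 1 := by
    refine not_isSquare_ker X ?_ ?_
    · rw [MonoidHom.mem_ker, map_mul, hπ, ← map_mul, hz2, map_one]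
    · calc c ^ j * c ^ j * zC * (c ^ j * c ^ j * zC)
          = c ^ j * c ^ j * (zC * (c ^ j * c ^ j)) * zC := by group
        _ = (c ^ j) ^ 4 * (zC * zC) := by rw [hzc.eq, pow_succ, pow_succ, pow_two]; group
        _ = 1 := by rw [hw4, hz2, mul_one]
  refine ⟨(c ^ j : ↥X.C), congrArg Subtype.val
    ((Commute.pow_left (mem_centralizer_singleton_iff.1 hc) j).eq), ?_⟩
  have h2 : c ^ j * c ^ j = zC := by
    rw [eq_inv_of_mul_eq_one_left h1, inv_eq_of_mul_eq_one_right hz2]
  exact congrArg Subtype.val h2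

/-- The `r`-part of the order of `G` is that of `C(z)`. -/
theorem factorization_G {r : ℕ} [Fact r.Prime] (hr : r ≠ 2) {y : ↥X.C} (hyO : y ∈ X.π.ker)
    (hy : orderOf y = r) :
    (Nat.card G).factorization r = (Nat.card X.C).factorization r :=
  order_eq X.S X.K.qd.orderOf_z X.K.qd.z_mem X.syl_le (fun _ ha h4 => QD_sq X ha h4) hr
    (X.cyc r Fact.out hr) (by rw [orderOf_coe]; exact hy) (z_comm_C X y)
    (Or.inl (exists_root X hr hyO hy))

/-- An element of prime order of the core centralised by `τ` is centralised by its normaliser. -/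
theorem normalizer_y_le {r : ℕ} [Fact r.Prime] (hr : r = (Nat.card X.π.ker).minFac) (hr2 : r ≠ 2)
    {y : ↥X.C} (hyO : y ∈ X.π.ker) (hy : orderOf y = r)
    (hτ : (y : G) * X.K.qd.τ = X.K.qd.τ * y) :
    normalizer ((zpowers (y : G) : Subgroup G) : Set G) ≤ centralizer ({(y : G)} : Set G) := by
  haveI : Fact (Nat.Prime 2) := ⟨Nat.prime_two⟩
  haveI := X.Q.normal
  set W := centralizer ({y} : Set ↥X.C)
  have htop : W.map X.π = ⊤ := by
    refine (eq_top_iff' _).2 fun d => ?_
    by_cases hd : d ∈ X.Q.L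
    · exact L_le_map X hr2 hyO hy hd
    · have h1 : X.Q.qd.τ ∈ W.map X.π :=
        ⟨⟨_, X.τ_mem_C⟩, mem_centralizer_singleton_iff.2 (Subtype.ext hτ.symm), X.mk_τ _⟩
      have h2 := L_le_map X hr2 hyO hy
        (X.Q.mul_mem_iff.2 (iff_of_false hd X.Q.τ_notMem) : d * X.Q.qd.τ ∈ X.Q.L)
      simpa using mul_mem h2 (inv_mem h1)
  have hidx : ¬ 2 ∣ W.index := fun h => X.odd_core.not_two_dvd_nat (h.trans (by
    set f := X.π.comp W.subtype
    have hr : f.range = ⊤ := by rw [MonoidHom.range_comp, range_subtype, htop]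
    have h1 := f.ker.card_mul_index
    rw [index_ker, hr, card_top] at h1
    have h2 := W.card_mul_index
    rw [← h1, ← X.π.ker.card_mul_index, index_ker, MonoidHom.range_eq_top.2 X.π_surjective,
      card_top, mul_assoc, mul_comm _ W.index, ← mul_assoc] at h2
    exact Dvd.intro_left _ (Nat.eq_of_mul_eq_mul_right Nat.card_pos h2)))
  -- a Sylow 2-subgroup of `G` inside `C(z) ∩ C(y)`
  obtain ⟨Q₂⟩ : Nonempty (Sylow 2 W) := inferInstance
  let Q₂' : Sylow 2 ↥X.C := Sylow.ofCard ((Q₂ : Subgroup W).map W.subtype) (by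
    rw [card_map_of_injective W.subtype_injective, Q₂.card_eq_multiplicity]
    congr 1
    have h := congrArg (fun n => n.factorization 2) W.card_mul_index
    simp only [Nat.factorization_mul Nat.card_pos.ne' index_ne_zero_of_finite, Finsupp.add_apply,
      Nat.factorization_eq_zero_of_not_dvd hidx, add_zero] at h
    exact h)
  obtain ⟨g, hg⟩ := MulAction.exists_smul_eq ↥X.C (X.S.subtype X.syl_le) Q₂'
  set P : Sylow 2 G := (g : G) • X.S with hP
  have hPmem : ∀ x ∈ (P : Subgroup G), ∃ h : x ∈ X.C, (⟨x, h⟩ : ↥X.C) ∈ W := by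
    intro x hx
    rw [hP, Sylow.coe_subgroup_smul, mem_pointwise_smul_iff_inv_smul_mem, ← map_inv,
      MulAut.smul_def, MulAut.conj_apply, inv_inv] at hx
    have h : x ∈ X.C := by
      have := mul_mem (mul_mem g.2 (X.syl_le hx)) (inv_mem g.2)
      simpa [mul_assoc] using this
    refine ⟨h, ?_⟩
    have h1 : (⟨x, h⟩ : ↥X.C) ∈ ((g • X.S.subtype X.syl_le : Sylow 2 ↥X.C) : Subgroup ↥X.C) := by
      rw [Sylow.coe_subgroup_smul, mem_pointwise_smul_iff_inv_smul_mem, ← map_inv, MulAut.smul_def,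
        MulAut.conj_apply, inv_inv, Sylow.coe_subtype, mem_subgroupOf]
      exact hx
    rw [hg] at h1
    exact map_subtype_le _ h1
  have hPC : ∀ x ∈ (P : Subgroup G), x ∈ centralizer ({(y : G)} : Set G) := fun x hx =>
    mem_centralizer_singleton_iff.2 (congrArg Subtype.val
      (mem_centralizer_singleton_iff.1 (hPmem x hx).2))
  have ha' : (g : G) * X.K.qd.y * (g : G)⁻¹ ∈ (P : Subgroup G) := by
    rw [hP, Sylow.coe_subgroup_smul]
    exact smul_mem_pointwise_smul _ (MulAut.conj (g : G)) _ X.K.qd.y_mem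
  set a := (g : G) * X.K.qd.y * (g : G)⁻¹ with ha
  have ha2 : a * a = X.z := by
    rw [ha, show (g : G) * X.K.qd.y * (g : G)⁻¹ * ((g : G) * X.K.qd.y * (g : G)⁻¹) =
      (g : G) * (X.K.qd.y * X.K.qd.y) * (g : G)⁻¹ by group, ← QD.z_eq_y_sq]
    exact mul_inv_eq_iff_eq_mul.2 (z_comm_C X g)
  have ha4 : orderOf a = 4 := by
    refine orderOf_eq_prime_pow (p := 2) (n := 1) ?_ ?_
    · rw [pow_one, pow_two, ha2]; intro h; simpa [h] using X.K.qd.orderOf_z
    · rw [show 2 ^ (1 + 1) = 2 * 2 from rfl, pow_mul, pow_two a, ha2, X.z_sq]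
  have hyY : ∀ n ∈ centralizer ({(y : G)} : Set G),
      n ∈ normalizer ((zpowers (y : G) : Subgroup G) : Set G) := fun n hn => by
    have e : n * (y : G) * n⁻¹ = y := mul_inv_eq_iff_eq_mul.2 (mem_centralizer_singleton_iff.1 hn)
    have : (zpowers (y : G)).map (MulAut.conj n).toMonoidHom = zpowers (y : G) := by
      rw [MonoidHom.map_zpowers]
      exact congrArg zpowers e
    refine mem_normalizer_iff.2 fun x => ?_
    conv_rhs => rw [← this]
    rw [mem_map_equiv]
    simp [mul_assoc]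
  set N := normalizer ((zpowers (y : G) : Subgroup G) : Set G) with hN
  set M := (centralizer ({(y : G)} : Set G)).subgroupOf N with hM
  haveI : M.Normal := ⟨fun c hc k => by
    rw [hM, mem_subgroupOf, mem_centralizer_singleton_iff] at hc ⊢
    obtain ⟨i, hi⟩ := mem_zpowers_iff.1 ((mem_normalizer_iff.1 (inv_mem k.2) _).1 (mem_zpowers _))
    rw [inv_inv] at hi
    show (k : G) * c * (k : G)⁻¹ * y = y * ((k : G) * c * (k : G)⁻¹)
    calc (k : G) * c * (k : G)⁻¹ * y = k * ((c : G) * ((k : G)⁻¹ * y * k)) * (k : G)⁻¹ := by group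
      _ = k * ((k : G)⁻¹ * y * k * c) * (k : G)⁻¹ := by
        rw [← hi, ((show Commute (c : G) y from hc).zpow_right i).eq]
      _ = _ := by group⟩
  have hPN : (P : Subgroup G) ≤ N := fun x hx => hyY x (hPC x hx)
  have hfr := Sylow.normalizer_sup_eq_top' (P.subtype hPN)
    (show ((P.subtype hPN : Sylow 2 N) : Subgroup N) ≤ M from fun x hx =>
      mem_subgroupOf.2 (hPC _ (mem_subgroupOf.1 hx)))
  intro n hn
  have h1 := hfr.ge (mem_top (⟨n, hn⟩ : N))
  obtain ⟨b, hb, c, hc, hbc⟩ := (mem_sup_of_normal_right).1 h1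
  -- `b` centralises `z`
  have hbaP : (b : G) * a * (b : G)⁻¹ ∈ (P : Subgroup G) := by
    have := (mem_normalizer_iff.1 hb ⟨a, hPN ha'⟩).1 (mem_subgroupOf.2 ha')
    exact mem_subgroupOf.1 this
  have hbz : (b : G) ∈ X.C := by
    have h2 := sq_eq_of_order_four X.S X.syl_le (fun _ hx h4 => QD_sq X hx h4)
      (mem_centralizer_singleton_iff.1 (hPmem _ hbaP).1)
      ((orderOf_injective (MulAut.conj (b : G)).toMonoidHom (MulAut.conj (b : G)).injective a).trans
        ha4)
    refine mem_centralizer_singleton_iff.2 (mul_inv_eq_iff_eq_mul.1 ?_)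
    show (b : G) * X.z * (b : G)⁻¹ = X.z
    conv_lhs => rw [← ha2]
    conv_rhs => rw [← h2]
    group
  set bC : ↥X.C := ⟨b, hbz⟩
  obtain ⟨c', hc', hπ⟩ := htop.ge (mem_top (X.π bC))
  set v := c'⁻¹ * bC
  have hv : v ∈ X.π.ker := by rw [MonoidHom.mem_ker, map_mul, map_inv, hπ, inv_mul_cancel]
  have hvN : (v : G) ∈ N := mul_mem (inv_mem (hyY _ (mem_centralizer_singleton_iff.2
    (congrArg Subtype.val (mem_centralizer_singleton_iff.1 hc'))))) b.2
  -- `v` centralises `y`
  have hrp : r.Prime := Fact.out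
  obtain ⟨i, hi⟩ := mem_zpowers_iff.1 ((mem_normalizer_iff.1 hvN _).1 (mem_zpowers (y : G)))
  have hyr : orderOf (y : G) = r := by rw [orderOf_coe]; exact hy
  have hpow : ∀ k : ℕ, (v : G) ^ k * (y : G) * ((v : G) ^ k)⁻¹ = (y : G) ^ i ^ k := by
    intro k
    induction k with
    | zero => simp
    | succ k ih =>
      calc (v : G) ^ (k + 1) * (y : G) * ((v : G) ^ (k + 1))⁻¹
          = v * ((v : G) ^ k * y * ((v : G) ^ k)⁻¹) * (v : G)⁻¹ := by rw [pow_succ']; group
        _ = ((v : G) * y * (v : G)⁻¹) ^ i ^ k := by rw [ih, conj_zpow]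
        _ = _ := by rw [← hi, ← zpow_mul, pow_succ']
  set u : ZMod r := (i : ZMod r) with hu
  have hcast : ∀ j : ℤ, (y : G) ^ j = y → (j : ZMod r) = 1 := fun j hj => by
    have := zpow_eq_zpow_iff_modEq.1 (hj.trans (zpow_one _).symm)
    rw [hyr] at this
    exact_mod_cast (ZMod.intCast_eq_intCast_iff _ _ r).2 this
  have hun : u ^ orderOf (v : G) = 1 := by
    rw [hu, ← Int.cast_pow]
    exact hcast _ (by rw [← hpow, pow_orderOf_eq_one, one_mul, inv_one, mul_one])
  have hu0 : u ≠ 0 := fun h => by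
    rw [h, zero_pow (orderOf_pos _).ne'] at hun
    exact zero_ne_one hun
  have hu1 : u = 1 := by
    rw [← orderOf_eq_one_iff]
    refine Nat.eq_one_of_dvd_coprimes ?_ (orderOf_dvd_of_pow_eq_one hun)
      (orderOf_dvd_of_pow_eq_one (ZMod.pow_card_sub_one_eq_one hu0))
    refine Nat.coprime_of_dvd fun q hq h1 h2 => ?_
    have h3 : q ∣ Nat.card X.π.ker := h1.trans (by
      rw [orderOf_coe]; exact orderOf_dvd_natCard _ hv)
    have h4 := Nat.minFac_le_of_dvd hq.two_le h3
    have h5 := Nat.le_of_dvd (by have := hrp.two_le; omega) h2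
    have := hrp.two_le
    omega
  have hvy : (v : G) ∈ centralizer ({(y : G)} : Set G) := by
    refine mem_centralizer_singleton_iff.2 (mul_inv_eq_iff_eq_mul.1 ?_)
    rw [← hi]
    conv_rhs => rw [← zpow_one (y : G)]
    rw [zpow_eq_zpow_iff_modEq, hyr, ← ZMod.intCast_eq_intCast_iff, Int.cast_one]
    exact hu1
  have hby : (b : G) ∈ centralizer ({(y : G)} : Set G) := by
    have hc'G : (c' : G) ∈ centralizer ({(y : G)} : Set G) := mem_centralizer_singleton_iff.2
      (congrArg Subtype.val (mem_centralizer_singleton_iff.1 hc'))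
    have := mul_mem hc'G hvy
    simpa [v, bC] using this
  have := mul_mem hby (mem_subgroupOf.1 hc)
  rwa [show n = (b : G) * c from (congrArg Subtype.val hbc).symm]

theorem card_centralizer_qy :
    Nat.card (centralizer ({X.Q.qd.y} : Set (↥X.C ⧸ Cfsg.oddCore ↥X.C))) = 8 := by
  rw [X.Q.card_centralizer_y]; norm_num

theorem rker_sub_core {R : Ret X.K} {x : G} (hx : x ∈ X.rker R) :
    (⟨x, X.rker_le R hx⟩ : ↥X.C) ∈ X.π.ker := by
  have hc : X.π ⟨x, X.rker_le R hx⟩ ∈ centralizer ({X.Q.qd.y} : Set _) := by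
    refine mem_centralizer_singleton_iff.2 ?_
    rw [← X.π_y X.y_mem_C, ← map_mul, ← map_mul]
    exact congrArg X.π (Subtype.ext (X.rker_y hx))
  rw [MonoidHom.mem_ker, ← orderOf_eq_one_iff]
  have h1 : orderOf (X.π ⟨x, X.rker_le R hx⟩) ∣ 8 := by
    rw [← card_centralizer_qy X]
    exact orderOf_dvd_natCard _ hc
  have h2 : orderOf (X.π ⟨x, X.rker_le R hx⟩) ∣ Nat.card (X.rker R) := by
    refine (orderOf_map_dvd _ _).trans ?_
    rw [Subgroup.orderOf_mk]
    exact orderOf_dvd_natCard _ hx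
  rw [X.card_rker] at h2
  refine Nat.eq_one_of_dvd_coprimes (?_ : Nat.Coprime 8 (Nat.card R.π.ker)) h1 h2
  rw [show (8 : ℕ) = 2 ^ 3 by norm_num, Nat.coprime_pow_left_iff (by norm_num),
    Nat.Prime.coprime_iff_not_dvd Nat.prime_two]
  exact R.ker_odd.not_two_dvd_nat

theorem map_rker_le (R : Ret X.K) : X.rker R ≤ X.π.ker.map X.C.subtype := fun _ hx =>
  ⟨_, rker_sub_core X hx, rfl⟩

/-- The case `p = 5`: the odd core of `C(z)` is trivial and `|G| = 85680`. -/
theorem core_trivial_of (R : Ret X.K) (k : ℕ)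
    (hk : k * Nat.card {h : R.π.ker // (h.1 : G) * X.K.qd.τ = X.K.qd.τ * (h.1 : G)} =
      Nat.card R.π.ker)
    (hord : Nat.card G * Nat.card R.π.ker * 1600 = 2 * Nat.card X.C ^ 2 * k ^ 2 * 1190) :
    Nat.card X.π.ker = 1 ∧ Nat.card G = 85680 := by
  haveI := X.simple
  set o := Nat.card X.π.ker with ho
  set T : Subgroup G := X.rker R ⊓ centralizer ({X.K.qd.τ} : Set G) with hT
  have hTcard : Nat.card T = Nat.card {h : R.π.ker // (h.1 : G) * X.K.qd.τ = X.K.qd.τ * (h.1 : G)} := by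
    let g : {h : R.π.ker // (h.1 : G) * X.K.qd.τ = X.K.qd.τ * (h.1 : G)} → T := fun h =>
      ⟨(h.1.1 : G), mem_inf.2
        ⟨mem_map_of_mem X.K.qd.H.subtype h.1.2, mem_centralizer_singleton_iff.2 h.2⟩⟩
    refine (Nat.card_eq_of_bijective g ⟨fun a b e => ?_, ?_⟩).symm
    · exact Subtype.ext (Subtype.ext (Subtype.ext (congrArg Subtype.val e :)))
    · rintro ⟨x, ⟨h, hh, rfl⟩, hc⟩
      exact ⟨⟨⟨h, hh⟩, mem_centralizer_singleton_iff.1 hc⟩, rfl⟩
  rw [← hTcard] at hk
  set w := Nat.card T with hw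
  have ho0 : o ≠ 0 := Nat.card_pos.ne'
  have hw0 : w ≠ 0 := Nat.card_pos.ne'
  have hK0 : Nat.card R.π.ker ≠ 0 := Nat.card_pos.ne'
  have hk0 : k ≠ 0 := by rintro rfl; simp at hk; exact hK0 hk.symm
  have hKo : Nat.card R.π.ker ∣ o := by
    rw [← X.card_rker R, ho, ← card_map_of_injective (K := X.π.ker) X.C.subtype_injective]
    exact card_dvd_of_le (map_rker_le X R)
  have hC : Nat.card X.C = 240 * o := by
    rw [X.card_C, ← ho]; ring
  have hG : Nat.card G * w = 85680 * (o ^ 2 * k) := by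
    rw [hC, ← hk] at hord
    refine Nat.eq_of_mul_eq_mul_right (Nat.pos_of_ne_zero hk0) ?_
    nlinarith
  suffices hone : o = 1 by
    refine ⟨hone, ?_⟩
    rw [hone] at hKo
    have h1 := Nat.dvd_one.1 hKo
    rw [h1] at hk
    have hk1 : k = 1 := Nat.eq_one_of_mul_eq_one_right hk
    have hw1 : w = 1 := Nat.eq_one_of_mul_eq_one_left hk
    rw [hone, hk1, hw1] at hG
    simpa using hG
  by_contra hne
  set r := o.minFac with hr
  have hrp : r.Prime := Nat.minFac_prime hne
  haveI : Fact r.Prime := ⟨hrp⟩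
  have hodd : Odd o := X.odd_core
  have hr2 : r ≠ 2 := fun e => hodd.not_two_dvd_nat (e ▸ Nat.minFac_dvd o)
  -- an element of order `r` of the core and `order_eq`
  obtain ⟨y₁, hy₁⟩ := exists_prime_orderOf_dvd_card' (G := X.π.ker) r (Nat.minFac_dvd o)
  have heq := factorization_G X hr2 y₁.2 (by rw [orderOf_coe]; exact hy₁)
  rw [hC] at heq
  have hG' : (Nat.card G * w).factorization r = (85680 * (o ^ 2 * k)).factorization r := by rw [hG]
  rw [Nat.factorization_mul Nat.card_pos.ne' hw0, Nat.factorization_mul (by norm_num)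
    (mul_ne_zero (pow_ne_zero _ ho0) hk0), Nat.factorization_mul (pow_ne_zero _ ho0) hk0,
    Nat.factorization_pow] at hG'
  rw [Nat.factorization_mul (by norm_num) ho0] at heq
  simp only [Finsupp.add_apply, Finsupp.smul_apply, smul_eq_mul] at hG' heq
  have hwk : k.factorization r + w.factorization r ≤ o.factorization r := by
    have h1 := (Nat.factorization_le_iff_dvd hK0 ho0).2 hKo r
    rw [← hk, Nat.factorization_mul hk0 hw0, Finsupp.add_apply] at h1
    exact h1
  have hpos : 0 < o.factorization r := hrp.factorization_pos_of_dvd ho0 (Nat.minFac_dvd o)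
  have h240 : Nat.factorization 85680 r = Nat.factorization 240 r := by
    by_contra hne'
    have : r ∣ 85680 ∨ r ∣ 240 := by
      by_contra hc
      push Not at hc
      exact hne' (by rw [Nat.factorization_eq_zero_of_not_dvd hc.1,
        Nat.factorization_eq_zero_of_not_dvd hc.2])
    have hsub : ∀ n, n ≠ 0 → r ∣ n → r ∈ n.primeFactors := fun n hn h =>
      Nat.mem_primeFactors.2 ⟨hrp, h, hn⟩
    have hr' : r = 2 ∨ r = 3 ∨ r = 5 ∨ r = 7 ∨ r = 17 := by
      rcases this with h | h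
      · have h' : r ∣ 2 ^ 4 * 3 ^ 2 * 5 * 7 * 17 := by norm_num; exact h
        simp only [Nat.Prime.dvd_mul hrp] at h'
        rcases h' with (((h' | h') | h') | h') | h'
        · exact Or.inl ((Nat.prime_dvd_prime_iff_eq hrp Nat.prime_two).1 (hrp.dvd_of_dvd_pow h'))
        · exact Or.inr (Or.inl ((Nat.prime_dvd_prime_iff_eq hrp Nat.prime_three).1 (hrp.dvd_of_dvd_pow h')))
        · exact Or.inr (Or.inr (Or.inl ((Nat.prime_dvd_prime_iff_eq hrp Nat.prime_five).1 h')))
        · exact Or.inr (Or.inr (Or.inr (Or.inl ((Nat.prime_dvd_prime_iff_eq hrp (by norm_num)).1 h'))))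
        · exact Or.inr (Or.inr (Or.inr (Or.inr ((Nat.prime_dvd_prime_iff_eq hrp (by norm_num)).1 h'))))
      · have h' : r ∣ 2 ^ 4 * 3 * 5 := by norm_num; exact h
        simp only [Nat.Prime.dvd_mul hrp] at h'
        rcases h' with (h' | h') | h'
        · exact Or.inl ((Nat.prime_dvd_prime_iff_eq hrp Nat.prime_two).1 (hrp.dvd_of_dvd_pow h'))
        · exact Or.inr (Or.inl ((Nat.prime_dvd_prime_iff_eq hrp Nat.prime_three).1 h'))
        · exact Or.inr (Or.inr (Or.inl ((Nat.prime_dvd_prime_iff_eq hrp Nat.prime_five).1 h')))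
    have f3 : Nat.factorization 85680 3 = 2 := factorization_val 3 2 9520 Nat.prime_three (by norm_num) (by norm_num)
    have g3 : Nat.factorization 240 3 = 1 := factorization_val 3 1 80 Nat.prime_three (by norm_num) (by norm_num)
    have f5 : Nat.factorization 85680 5 = 1 := factorization_val 5 1 17136 Nat.prime_five (by norm_num) (by norm_num)
    have g5 : Nat.factorization 240 5 = 1 := factorization_val 5 1 48 Nat.prime_five (by norm_num) (by norm_num)
    have g7 : Nat.factorization 240 7 = 0 := Nat.factorization_eq_zero_of_not_dvd (by norm_num)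
    have g17 : Nat.factorization 240 17 = 0 := Nat.factorization_eq_zero_of_not_dvd (by norm_num)
    have f7 : Nat.factorization 85680 7 = 1 := factorization_val 7 1 12240 (by norm_num) (by norm_num) (by norm_num)
    have f17 : Nat.factorization 85680 17 = 1 := factorization_val 17 1 5040 (by norm_num) (by norm_num) (by norm_num)
    rcases hr' with e | e | e | e | e
    · exact hr2 e
    all_goals
      rw [e] at heq hG' hwk hpos hne'
      omega
  have hwfull : o.factorization r ≤ w.factorization r := by omega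
  -- an element of order `r` of the core centralised by `τ`
  obtain ⟨xT, hxT⟩ := exists_prime_orderOf_dvd_card' (G := T) r
    (Nat.dvd_of_factorization_pos (show w.factorization r ≠ 0 by omega))
  obtain ⟨x, hxR, hxτ⟩ := xT
  have hx : orderOf x = r := (orderOf_injective T.subtype T.subtype_injective _).trans hxT
  refine false_of_normalizer_le (y := x) ?_ hr2 (X.cyc r hrp hr2) hx
    (normalizer_y_le X (y := ⟨x, X.rker_le R hxR⟩) rfl hr2 (rker_sub_core X hxR)
      (by rw [Subgroup.orderOf_mk]; exact hx) (mem_centralizer_singleton_iff.1 hxτ))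
  have : orderOf X.K.qd.z ∣ Nat.card G := orderOf_dvd_natCard _
  rwa [X.K.qd.orderOf_z] at this

/-! ### The centraliser of an element of order three -/

theorem π_injective (ho : Nat.card X.π.ker = 1) : Function.Injective X.π :=
  (MonoidHom.ker_eq_bot_iff _).1 (eq_bot_of_card_eq _ ho)

theorem trace_neg_one {x : Matrix.SpecialLinearGroup (Fin 2) (ZMod 5)} (hx : orderOf x = 3) :
    x.1.trace = -1 := by
  by_contra hne
  have h3 : x ^ 3 = 1 := by rw [← hx, pow_orderOf_eq_one]
  have hinv : x * x = x⁻¹ := eq_inv_of_mul_eq_one_left (by rw [← pow_two, ← pow_succ]; exact h3)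
  have e1 : x.1 * x.1 = x.1.trace • 1 - x.1 := by
    rw [← CfsgLib.SL2Tori.coe_inv_eq, ← hinv]; rfl
  have e2 : x.1 * (x.1.trace • 1 - x.1) = 1 := by
    rw [← CfsgLib.SL2Tori.coe_inv_eq, ← Matrix.SpecialLinearGroup.coe_mul, mul_inv_cancel]; rfl
  rw [mul_sub, e1, mul_smul_comm, mul_one, sub_eq_iff_eq_add] at e2
  have e3 : (x.1.trace + 1) • x.1 = (x.1.trace + 1) • (1 : Matrix (Fin 2) (Fin 2) (ZMod 5)) := by
    rw [add_smul, one_smul, add_smul, one_smul, e2]
    abel
  have h0 : x.1.trace + 1 ≠ 0 := fun h => hne (eq_neg_of_add_eq_zero_left h)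
  have : x = 1 := Subtype.ext (smul_right_injective _ h0 e3)
  rw [this, orderOf_one] at hx
  norm_num at hx

theorem centralizer_three {d : ↥X.C ⧸ Cfsg.oddCore ↥X.C} (hd : orderOf d = 3) :
    Nat.card (centralizer ({d} : Set (↥X.C ⧸ Cfsg.oddCore ↥X.C))) = 12 ∧
      ∃ c, c * d = d * c ∧ c ∉ X.Q.L ∧ c * c = 1 := by
  classical
  obtain ⟨x, rfl⟩ := X.Q.odd_mem (x := d) (by rw [hd]; decide)
  rw [orderOf_injective X.Q.emb X.Q.inj] at hd
  have htr := trace_neg_one hd
  have ht : x.1.trace ^ 2 ≠ 4 := by rw [htr]; decide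
  have h6 : Nat.card (centralizer ({x} : Set (Matrix.SpecialLinearGroup (Fin 2) (ZMod 5)))) = 6 := by
    have h2 := (centralizer ({x} : Set (Matrix.SpecialLinearGroup (Fin 2) (ZMod 5)))).card_mul_index
    rw [SpecLin.SLTwo.index_centralizer_eq_ncard, SpecLin.SLTwo.card_sl_two, ZMod.card] at h2
    rcases SpecLin.SLTwo.ncard_class_semisimple (Or.inr ⟨X.Q.two_ne, ht⟩) with ⟨hr, -⟩ | ⟨-, hc⟩
    · exfalso
      have he : SpecLin.SLTwo.roots x.1.trace = ∅ := by
        refine Finset.eq_empty_of_forall_notMem fun a ha => ?_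
        simp only [SpecLin.SLTwo.roots, Finset.mem_filter, Finset.mem_univ, true_and] at ha
        rw [htr] at ha
        exact absurd ha ((show ∀ b : ZMod 5, b * (-1 - b) - 1 ≠ 0 by decide) a)
      rw [he] at hr
      simp at hr
    · rw [hc, ZMod.card] at h2
      omega
  have h12 := X.Q.card_centralizer_semisimple ht
  rw [h6] at h12
  refine ⟨h12, ?_⟩
  obtain ⟨a, ha, haL⟩ : ∃ a ∈ centralizer ({X.Q.emb x} : Set (↥X.C ⧸ Cfsg.oddCore ↥X.C)),
      a ∉ X.Q.L := by
    by_contra hc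
    push Not at hc
    have hle : centralizer ({X.Q.emb x} : Set (↥X.C ⧸ Cfsg.oddCore ↥X.C)) ≤
        (centralizer ({x} : Set _)).map X.Q.emb := by
      intro a ha
      obtain ⟨g, rfl⟩ := hc a ha
      exact ⟨g, mem_centralizer_singleton_iff.2 (X.Q.inj (by
        simpa using mem_centralizer_singleton_iff.1 ha)), rfl⟩
    have := Nat.le_of_dvd Nat.card_pos (card_dvd_of_le hle)
    rw [h12, card_map_of_injective X.Q.inj, h6] at this
    omega
  refine ⟨a ^ 3, (Commute.pow_left (mem_centralizer_singleton_iff.1 ha) 3).eq, fun h => haL ?_, ?_⟩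
  · rw [show a ^ 3 = a * a * a by rw [pow_succ, pow_two], X.Q.mul_mem_iff] at h
    exact h.1 (X.Q.sq_mem a)
  · refine X.Q.sq_eq_one_of_notMem (fun h => haL ?_) ?_
    · rw [show a ^ 3 = a * a * a by rw [pow_succ, pow_two], X.Q.mul_mem_iff] at h
      exact h.1 (X.Q.sq_mem a)
    · rw [← pow_mul]
      exact orderOf_dvd_iff_pow_eq_one.1 (h12 ▸ orderOf_dvd_natCard _ ha)

theorem card_inf (ho : Nat.card X.π.ker = 1) {t : G} (htC : t ∈ X.C) (ht : orderOf t = 3) :
    Nat.card ↥(centralizer ({t} : Set G) ⊓ X.C) = 12 ∧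
      ∃ e, e * t = t * e ∧ e ∈ X.C ∧ orderOf e = 2 ∧ e ≠ X.z := by
  have hinj := π_injective X ho
  have hd : orderOf (X.π ⟨t, htC⟩) = 3 := by
    rw [orderOf_injective X.π hinj, Subgroup.orderOf_mk, ht]
  obtain ⟨h12, c, hcd, hcL, hc2⟩ := centralizer_three X hd
  constructor
  · rw [← h12]
    have e : centralizer ({t} : Set G) ⊓ X.C =
        ((centralizer ({X.π ⟨t, htC⟩} : Set _)).comap X.π).map X.C.subtype := by
      ext g
      constructor
      · rintro ⟨hg, hgC⟩
        refine ⟨⟨g, hgC⟩, mem_comap.2 (mem_centralizer_singleton_iff.2 ?_), rfl⟩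
        rw [← map_mul, ← map_mul]
        exact congrArg X.π (Subtype.ext (mem_centralizer_singleton_iff.1 hg))
      · rintro ⟨g', hg', rfl⟩
        refine ⟨mem_centralizer_singleton_iff.2 ?_, g'.2⟩
        have h := mem_centralizer_singleton_iff.1 (mem_comap.1 hg')
        rw [← map_mul, ← map_mul] at h
        exact congrArg Subtype.val (hinj h)
    rw [e, card_map_of_injective X.C.subtype_injective]
    exact Nat.card_congr (Equiv.ofBijective (fun g => ⟨X.π g.1, g.2⟩)
      ⟨fun a b h => Subtype.ext (hinj (congrArg Subtype.val h)), fun ⟨d, hd'⟩ => by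
        obtain ⟨g, rfl⟩ := X.π_surjective d
        exact ⟨⟨g, hd'⟩, rfl⟩⟩)
  · obtain ⟨g, rfl⟩ := X.π_surjective c
    rw [← map_mul, ← map_mul] at hcd
    rw [← map_mul, ← map_one X.π] at hc2
    refine ⟨g, congrArg Subtype.val (hinj hcd), g.2, ?_, fun h => hcL ?_⟩
    · refine orderOf_eq_prime (by rw [pow_two]; exact congrArg Subtype.val (hinj hc2)) fun h => hcL ?_
      rw [show g = 1 from Subtype.ext h, map_one]
      exact one_mem _
    · rw [show g = ⟨X.z, z_mem_C X⟩ from Subtype.ext h, π_z, X.Q.z_eq]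
      exact X.Q.zD_mem

/-- All involutions are conjugate to `z`. -/
theorem involution_conj (ho : Nat.card X.π.ker = 1) {e : G} (he : orderOf e = 2) :
    ∃ g : G, g * e * g⁻¹ = X.z := by
  haveI := X.simple
  by_contra hno
  push Not at hno
  set Q₀ : Subgroup G := (X.Q.L.comap X.π).map X.C.subtype with hQ₀
  have hmem : ∀ {x : G} (hx : x ∈ X.C), x ∈ Q₀ ↔ X.π ⟨x, hx⟩ ∈ X.Q.L := fun {x} hx =>
    ⟨fun ⟨y, hy, e⟩ => by subst e; exact hy, fun h => ⟨_, h, rfl⟩⟩
  have hrel : Q₀.relIndex (X.S : Subgroup G) = 2 := by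
    refine index_eq_two_iff.2 ⟨⟨X.K.qd.τ, X.K.qd.τ_mem⟩, fun b => ?_⟩
    simp only [mem_subgroupOf, Subgroup.coe_mul]
    rw [hmem (mul_mem (X.syl_le b.2) X.τ_mem_C), hmem (X.syl_le b.2),
      show (⟨(b : G) * X.K.qd.τ, mul_mem (X.syl_le b.2) X.τ_mem_C⟩ : ↥X.C) =
        ⟨b, X.syl_le b.2⟩ * ⟨_, X.τ_mem_C⟩ from rfl, map_mul,
      show X.π ⟨_, X.τ_mem_C⟩ = X.Q.qd.τ from X.mk_τ _, X.Q.mul_mem_iff]
    have := X.Q.τ_notMem
    by_cases h : X.π ⟨(b : G), X.syl_le b.2⟩ ∈ X.Q.L <;> simp [xor_def, h, this]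
  have he2 : e ^ 2 = 1 := by rw [← he, pow_orderOf_eq_one]
  obtain ⟨M, hMn, hMi, heM⟩ := CfsgLib.Transfer.thompson_transfer X.S Q₀ hrel e he2
    fun g hg hgQ => hno g (by
      have hgC : g * e * g⁻¹ ∈ X.C := X.syl_le hg
      have h1 := (hmem hgC).1 hgQ
      have h2 : X.π ⟨_, hgC⟩ = X.Q.zD := by
        refine X.Q.eq_zD h1 ?_ fun h => ?_
        · rw [← map_mul, ← map_one X.π]
          refine congrArg X.π (Subtype.ext ?_)
          show g * e * g⁻¹ * (g * e * g⁻¹) = 1
          rw [show g * e * g⁻¹ * (g * e * g⁻¹) = g * (e * e) * g⁻¹ by group, ← pow_two, he2]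
          group
        · rw [← map_one X.π] at h
          have h' := conj_eq_one_iff.1 (congrArg Subtype.val (π_injective X ho h))
          rw [h', orderOf_one] at he
          omega
      rw [← X.Q.z_eq, ← π_z X (z_mem_C X)] at h2
      exact congrArg Subtype.val (π_injective X ho h2))
  rcases hMn.eq_bot_or_eq_top with h | h
  · rw [h, index_bot] at hMi
    have hS := card_subgroup_dvd_card (X.S : Subgroup G)
    rw [hMi, X.K.qd.card] at hS
    norm_num at hS
  · exact heM (h ▸ mem_top e)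

theorem card_inf_involution (ho : Nat.card X.π.ker = 1) {t u : G} (ht : orderOf t = 3)
    (hu : orderOf u = 2) (htu : t * u = u * t) :
    Nat.card ↥(centralizer ({t} : Set G) ⊓ centralizer ({u} : Set G)) = 12 := by
  obtain ⟨g, hg⟩ := involution_conj X ho hu
  have htC : g * t * g⁻¹ ∈ X.C := mem_centralizer_singleton_iff.2 (by
    show g * t * g⁻¹ * X.z = X.z * (g * t * g⁻¹)
    rw [← hg, show g * t * g⁻¹ * (g * u * g⁻¹) = g * (t * u) * g⁻¹ by group, htu]
    group)
  have ht' : orderOf (g * t * g⁻¹) = 3 :=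
    (orderOf_injective (MulAut.conj g).toMonoidHom (MulAut.conj g).injective t).trans ht
  rw [← (card_inf X ho htC ht').1, ← card_map_of_injective (f := (MulAut.conj g).toMonoidHom) (MulAut.conj g).injective]
  congr 2
  ext x
  show x ∈ map (MulAut.conj g).toMonoidHom _ ↔ _
  rw [mem_map_equiv]
  simp only [mem_inf, mem_centralizer_singleton_iff, MulAut.conj_symm_apply]
  show _ ↔ _ ∧ x * X.z = X.z * x
  rw [← hg]
  refine and_congr ?_ ?_ <;>
  · constructor
    · intro h
      have := congrArg (fun a => g * a * g⁻¹) h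
      simpa [mul_assoc] using this
    · intro h
      have := congrArg (fun a => g⁻¹ * a * g) h
      simpa [mul_assoc] using this

/-- The case `p = 5`: an element of order three with centraliser of order 36. -/
theorem local_three_aux (ho : Nat.card X.π.ker = 1) (hG : Nat.card G = 85680) :
    ∃ t e w : G, orderOf t = 3 ∧ t ∈ X.C ∧ orderOf e = 2 ∧ e ≠ X.z ∧ e ∈ X.C ∧
      Commute e t ∧ Commute w t ∧ w * e * w⁻¹ = X.z ∧
      Nat.card (centralizer ({t} : Set G)) = 36 := by
  haveI := X.simple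
  haveI : Fact (Nat.Prime 2) := ⟨Nat.prime_two⟩
  haveI : Fact (Nat.Prime 3) := ⟨Nat.prime_three⟩
  have hC : Nat.card X.C = 240 := by rw [X.card_C, ho]; norm_num
  obtain ⟨t₀, ht₀⟩ := exists_prime_orderOf_dvd_card' (G := X.C) 3 (by rw [hC]; norm_num)
  set t : G := (t₀ : G)
  have htC : t ∈ X.C := t₀.2
  have ht : orderOf t = 3 := by rw [orderOf_coe, ht₀]
  obtain ⟨-, e, het, heC, he2, hez⟩ := card_inf X ho htC ht
  set H := centralizer ({t} : Set G) with hH
  -- the Sylow 3-subgroup and the normal complement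
  obtain ⟨R, htR⟩ := (IsPGroup.of_card (p := 3) (G := zpowers t) (n := 1)
    (by rw [Nat.card_zpowers, ht, pow_one])).exists_le_sylow
  haveI hRc : IsCyclic R := X.cyc 3 Nat.prime_three (by norm_num) R
  have hR9 : Nat.card R = 9 := by
    rw [R.card_eq_multiplicity, hG,
      factorization_val 3 2 9520 Nat.prime_three (by norm_num) (by norm_num)]
    norm_num
  have hRH : (R : Subgroup G) ≤ H := fun x hx => mem_centralizer_singleton_iff.2 (by
    letI : CommGroup R := IsCyclic.commGroup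
    exact congrArg Subtype.val (mul_comm (⟨x, hx⟩ : R) ⟨t, htR (mem_zpowers t)⟩))
  set R' := R.subtype hRH
  haveI : IsCyclic R' :=
    isCyclic_of_surjective (subgroupOfEquivOfLe hRH).symm (MulEquiv.surjective _)
  have htH : t ∈ H := mem_centralizer_singleton_iff.2 rfl
  have hNC := normalizer_le_of_fix R' inferInstance (y := ⟨t, htH⟩)
    (by rw [Subgroup.orderOf_mk, ht]) (mem_subgroupOf.2 (htR (mem_zpowers t)))
    (fun g => Subtype.ext (mem_centralizer_singleton_iff.1 g.2))
  set K₀ := (MonoidHom.transferSylow R' hNC).ker with hK₀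
  have hcomp := MonoidHom.ker_transferSylow_isComplement' R' hNC
  set K : Subgroup G := K₀.map H.subtype with hKdef
  have hKH : K ≤ H := map_subtype_le _
  have hcardR' : Nat.card R' = 9 := by
    rw [← hR9]; exact Nat.card_congr (subgroupOfEquivOfLe hRH).toEquiv
  have hcardH : Nat.card K * 9 = Nat.card H := by
    rw [hKdef, card_map_of_injective H.subtype_injective, ← hcardR']
    exact hcomp.card_mul_card
  have h3K : ¬ 3 ∣ Nat.card K := by
    rintro ⟨j, hj⟩
    have h1 : Nat.card H ∣ 85680 := hG ▸ card_subgroup_dvd_card H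
    have h27 : 27 ∣ 85680 := dvd_trans ⟨j, by rw [← hcardH, hj]; ring⟩ h1
    norm_num at h27
  have hinvK : ∀ u ∈ H, u * u = 1 → u ∈ K := fun u hu hu2 => by
    refine ⟨⟨u, hu⟩, ?_, rfl⟩
    rw [SetLike.mem_coe, hK₀, MonoidHom.mem_ker, ← orderOf_eq_one_iff]
    refine Nat.eq_one_of_dvd_coprimes (show Nat.Coprime 2 9 by decide)
      (orderOf_dvd_of_pow_eq_one ?_) (hcardR' ▸ orderOf_dvd_natCard _)
    rw [← map_pow, pow_two, show (⟨u, hu⟩ : H) * ⟨u, hu⟩ = 1 from Subtype.ext hu2, map_one]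
  have hconjK : ∀ h ∈ H, ∀ k ∈ K, h * k * h⁻¹ ∈ K := by
    rintro h hh _ ⟨k, hk, rfl⟩
    exact ⟨_, (MonoidHom.normal_ker _).conj_mem k hk ⟨h, hh⟩, rfl⟩
  -- the four-group
  set z := X.z with hz
  have hzz : z * z = 1 := by rw [← pow_two]; exact X.z_sq
  have hz2 : orderOf z = 2 := X.K.qd.orderOf_z
  have hee : e * e = 1 := by rw [← pow_two, ← he2, pow_orderOf_eq_one]
  have hez' : e * z = z * e := mem_centralizer_singleton_iff.1 heC
  have hzt : z * t = t * z := (mem_centralizer_singleton_iff.1 htC).symm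
  have hzH : z ∈ H := mem_centralizer_singleton_iff.2 hzt
  have heH : e ∈ H := mem_centralizer_singleton_iff.2 het
  have hzK := hinvK z hzH hzz
  have heK := hinvK e heH hee
  have he1 : e ≠ 1 := fun h => by rw [h, orderOf_one] at he2; omega
  have hz1 : z ≠ 1 := fun h => by rw [h, orderOf_one] at hz2; omega
  have hez1 : e * z ≠ 1 := fun h => hez (by
    rw [eq_inv_of_mul_eq_one_left h, inv_eq_of_mul_eq_one_right hzz])
  have hez2 : e * z * (e * z) = 1 := by
    rw [show e * z * (e * z) = e * (z * e) * z by group, ← hez']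
    rw [show e * (e * z) * z = (e * e) * (z * z) by group, hee, hzz, one_mul]
  set E : Set G := {1, z, e, e * z} with hE
  have hE4 : E.ncard = 4 := by
    rw [hE, Set.ncard_insert_of_notMem (by simp [hz1.symm, he1.symm, Ne.symm hez1]),
      Set.ncard_insert_of_notMem (by
        simp only [Set.mem_insert_iff, Set.mem_singleton_iff, not_or]
        exact ⟨hez.symm, fun h => he1 (by simpa using h.symm)⟩),
      Set.ncard_insert_of_notMem (by
        simp only [Set.mem_singleton_iff]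
        exact fun h => hz1 (by simpa using h.symm)),
      Set.ncard_singleton]
  have hEcomm : ∀ a ∈ E, Commute a z ∧ Commute a e := by
    intro a ha
    rcases ha with rfl | rfl | rfl | rfl
    · exact ⟨Commute.one_left _, Commute.one_left _⟩
    · exact ⟨Commute.refl _, hez'.symm⟩
    · exact ⟨hez', Commute.refl _⟩
    · exact ⟨Commute.mul_left hez' (Commute.refl _), Commute.mul_left (Commute.refl _) hez'.symm⟩
  have hEsq : ∀ a ∈ E, a * a = 1 := by
    intro a ha
    rcases ha with rfl | rfl | rfl | rfl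
    exacts [one_mul 1, hzz, hee, hez2]
  have hCK : ∀ u : G, u = z ∨ u = e ∨ u = e * z →
      ((K ⊓ centralizer ({u} : Set G) : Subgroup G) : Set G) = E := by
    intro u hu
    have huH : u ∈ H := by
      rcases hu with rfl | rfl | rfl
      exacts [hzH, heH, mul_mem heH hzH]
    have hu2 : orderOf u = 2 := by
      rcases hu with rfl | rfl | rfl
      exacts [hz2, he2, orderOf_eq_prime (by rw [pow_two, hez2]) hez1]
    have h12 := card_inf_involution X ho ht hu2 (mem_centralizer_singleton_iff.1 huH).symm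
    have hd : Nat.card ↥(K ⊓ centralizer ({u} : Set G)) ∣ 3 * 4 := by
      rw [show 3 * 4 = 12 from rfl, ← h12]
      exact card_dvd_of_le (inf_le_inf_right _ hKH)
    have h4 : Nat.card ↥(K ⊓ centralizer ({u} : Set G)) ∣ 4 := Nat.Coprime.dvd_of_dvd_mul_left
      ((Nat.prime_three.coprime_iff_not_dvd.2
        fun h => h3K (h.trans (card_dvd_of_le inf_le_left))).symm) hd
    refine (Set.eq_of_subset_of_ncard_le (fun a ha => ?_) ?_ (Set.toFinite _)).symm
    · refine ⟨?_, mem_centralizer_singleton_iff.2 ?_⟩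
      · rcases ha with rfl | rfl | rfl | rfl
        exacts [one_mem _, hzK, heK, mul_mem heK hzK]
      · rcases hu with rfl | rfl | rfl
        exacts [(hEcomm a ha).1.eq, (hEcomm a ha).2.eq,
          ((hEcomm a ha).2.mul_right (hEcomm a ha).1).eq]
    · rw [hE4, ← Nat.card_coe_set_eq]
      exact Nat.le_of_dvd (by norm_num) h4
  set E' : Subgroup K := (K ⊓ centralizer ({z} : Set G)).subgroupOf K with hE'
  have hE'mem : ∀ x : K, x ∈ E' ↔ (x : G) ∈ E := fun x => by
    rw [hE', mem_subgroupOf, ← hCK z (Or.inl rfl)]; rfl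
  have hE'card : Nat.card E' = 4 := by
    rw [Nat.card_congr (subgroupOfEquivOfLe inf_le_left).toEquiv, ← hE4, ← hCK z (Or.inl rfl)]
    rfl
  obtain ⟨P, hP⟩ := (IsPGroup.of_card (p := 2) (G := E') (n := 2)
    (by rw [hE'card]; norm_num)).exists_le_sylow
  have hzP : (⟨z, hzK⟩ : K) ∈ (P : Subgroup K) := hP ((hE'mem _).2 (by simp [hE]))
  have hPE : (P : Subgroup K) = E' := by
    refine le_antisymm ?_ hP
    haveI : Nontrivial (P : Subgroup K) :=
      ⟨⟨_, hzP⟩, 1, fun h => hz1 (congrArg (fun a : (P : Subgroup K) => ((a : K) : G)) h)⟩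
    have hP2 : IsPGroup 2 (P : Subgroup K) := P.2
    haveI := hP2.center_nontrivial
    have h2 := (hP2.to_subgroup (center (P : Subgroup K))).card_eq_or_dvd.resolve_left
      (Finite.one_lt_card).ne'
    obtain ⟨⟨c, hc⟩, hc2⟩ := exists_prime_orderOf_dvd_card' 2 h2
    rw [Subgroup.orderOf_mk, ← orderOf_coe, ← orderOf_coe] at hc2
    have hcm : ∀ x ∈ (P : Subgroup K), ((c : K) : G) * x = (x : G) * (c : K) := fun x hx =>
      (congrArg (fun a : (P : Subgroup K) => ((a : K) : G)) (mem_center_iff.1 hc ⟨x, hx⟩)).symm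
    have hcE : ((c : K) : G) ∈ E := by
      rw [← hCK z (Or.inl rfl)]
      exact ⟨(c : K).2, mem_centralizer_singleton_iff.2 (hcm _ hzP)⟩
    intro x hx
    rw [hE'mem]
    rcases hcE with h | h | h | h
    · rw [h, orderOf_one] at hc2; omega
    all_goals
      rw [← hCK ((c : K) : G) (by rw [h]; simp)]
      exact ⟨x.2, mem_centralizer_singleton_iff.2 (hcm x hx).symm⟩
  have hPmem : ∀ x : K, x ∈ (P : Subgroup K) ↔ (x : G) ∈ E := fun x => hPE ▸ hE'mem x
  have hNP : normalizer ((P : Subgroup K) : Set K) ≤ centralizer ((P : Subgroup K) : Set K) := by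
    intro n hn
    have hiff : ∀ x : K, (MulAut.toPerm K (MulAut.conj n)) x ∈ (P : Subgroup K) ↔
        x ∈ (P : Subgroup K) := fun x => (mem_normalizer_iff.1 hn x).symm
    set σ := (MulAut.toPerm K (MulAut.conj n)).subtypePerm hiff
    have hcard : Nat.card (Equiv.Perm (P : Subgroup K)) = 24 := by
      rw [Nat.card_perm, hPE, hE'card]; rfl
    have hσ : σ ^ 24 = 1 := hcard ▸ pow_card_eq_one'
    have hn24 : ∀ x ∈ (P : Subgroup K), n ^ 24 * x * (n ^ 24)⁻¹ = x := fun x hx => by
      have h1 : (σ ^ 24) ⟨x, hx⟩ = ⟨x, hx⟩ := by rw [hσ]; rfl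
      rw [Equiv.Perm.subtypePerm_pow] at h1
      have h2 := congrArg Subtype.val h1
      rw [Equiv.Perm.subtypePerm_apply] at h2
      have h3 : ((MulAut.toPerm K (MulAut.conj n)) ^ 24) x = x := h2
      rw [← map_pow, ← map_pow] at h3
      exact h3
    have hn24E : ((n ^ 24 : K) : G) ∈ E := by
      rw [← hCK z (Or.inl rfl)]
      exact ⟨(n ^ 24 : K).2, mem_centralizer_singleton_iff.2
        (congrArg Subtype.val (mul_inv_eq_iff_eq_mul.1 (hn24 _ hzP)))⟩
    have h48 : n ^ 48 = 1 := Subtype.ext (by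
      rw [show (48 : ℕ) = 24 + 24 from rfl, pow_add]
      exact hEsq _ hn24E)
    have h16 : orderOf n ∣ 16 := Nat.Coprime.dvd_of_dvd_mul_left
      ((Nat.prime_three.coprime_iff_not_dvd.2 fun h => h3K (h.trans (orderOf_dvd_natCard n))).symm)
      (show orderOf n ∣ 3 * 16 from orderOf_dvd_of_pow_eq_one h48)
    obtain ⟨i, -, hi⟩ := (Nat.dvd_prime_pow Nat.prime_two).1 (show orderOf n ∣ 2 ^ 4 from h16)
    have hpn : IsPGroup 2 (zpowers n) := IsPGroup.of_card (n := i) (by rw [Nat.card_zpowers, hi])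
    have hnP : n ∈ (P : Subgroup K) := by
      have h := (hpn.inf_normalizer_sylow P).le ⟨mem_zpowers n, hn⟩
      exact h.2
    refine mem_centralizer_iff.2 fun x hx => Subtype.ext ?_
    have ha := (hPmem n).1 hnP
    rw [← hCK z (Or.inl rfl)] at ha
    have hxE := (hPmem x).1 hx
    rcases (hPmem n).1 hnP with h | h | h | h
    · show (x : G) * n = n * x; rw [h]; simp
    · show (x : G) * n = n * x; rw [h]; exact (hEcomm _ hxE).1.eq
    · show (x : G) * n = n * x; rw [h]; exact (hEcomm _ hxE).2.eq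
    · show (x : G) * n = n * x; rw [h]; exact ((hEcomm _ hxE).2.mul_right (hEcomm _ hxE).1).eq
  set M := (MonoidHom.transferSylow P hNP).ker with hM
  have hMc := MonoidHom.ker_transferSylow_isComplement' P hNP
  have hModd : Odd (Nat.card M) := by
    rw [← Nat.not_even_iff_odd, even_iff_two_dvd, ← hMc.index_eq_card]
    exact P.not_dvd_index
  have hinv : ∀ u : G, u = z ∨ u = e → ∀ huK : u ∈ K, ∀ m : M, u * ((m : K) : G) * u⁻¹ =
      (((m : K) : G))⁻¹ := by
    intro u hu huK m
    have huu : u * u = 1 := by rcases hu with rfl | rfl; exacts [hzz, hee]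
    let φ : M →* M := (MulAut.conjNormal (H := M) (⟨u, huK⟩ : K)).toMonoidHom
    have hfpf : MonoidHom.FixedPointFree φ := fun a ha => by
      have h := congrArg (fun b : M => ((b : K) : G)) ha
      simp only [φ, MulEquiv.coe_toMonoidHom, MulAut.conjNormal_apply, Subgroup.coe_mul,
        InvMemClass.coe_inv] at h
      have hm : ((a : K) : G) ∈ E := by
        rw [← hCK u (by tauto)]
        exact ⟨(a : K).2, mem_centralizer_singleton_iff.2 (mul_inv_eq_iff_eq_mul.1 h).symm⟩
      rw [← orderOf_eq_one_iff]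
      refine Nat.eq_one_of_dvd_coprimes (Nat.coprime_two_left.2 hModd)
        (orderOf_dvd_of_pow_eq_one ?_) (orderOf_dvd_natCard a)
      rw [pow_two]
      exact Subtype.ext (Subtype.ext (hEsq _ hm))
    have hinv2 : Function.Involutive φ := fun a => by
      refine Subtype.ext (Subtype.ext ?_)
      simp only [φ, MulEquiv.coe_toMonoidHom, MulAut.conjNormal_apply, Subgroup.coe_mul,
        InvMemClass.coe_inv]
      rw [show u * (u * ((a : K) : G) * u⁻¹) * u⁻¹ = (u * u) * ((a : K) : G) * (u * u)⁻¹ by group,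
        huu]
      group
    have h := congrArg (fun b : M => ((b : K) : G))
      (congrFun (hfpf.coe_eq_inv_of_involutive hinv2) m)
    simpa [φ, MulAut.conjNormal_apply] using h
  have hM1 : Nat.card M = 1 := by
    rw [Subgroup.card_eq_one, eq_bot_iff_forall]
    intro a ha
    have h1 := hinv z (Or.inl rfl) hzK ⟨a, ha⟩
    have h2 := hinv e (Or.inr rfl) heK ⟨a, ha⟩
    simp only at h1 h2
    have h3 : e * z * (a : G) * (e * z)⁻¹ = a := by
      rw [show e * z * (a : G) * (e * z)⁻¹ = e * (z * a * z⁻¹) * e⁻¹ by group, h1, ← conj_inv, h2,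
        inv_inv]
    have hm : (a : G) ∈ E := by
      rw [← hCK (e * z) (by tauto)]
      exact ⟨a.2, mem_centralizer_singleton_iff.2 (mul_inv_eq_iff_eq_mul.1 h3).symm⟩
    rw [← orderOf_eq_one_iff]
    refine Nat.eq_one_of_dvd_coprimes (Nat.coprime_two_left.2 hModd)
      (orderOf_dvd_of_pow_eq_one ?_) (orderOf_dvd_natCard M ha)
    rw [pow_two]
    exact Subtype.ext (hEsq _ hm)
  have hK4 : Nat.card K = 4 := by
    rw [← hMc.card_mul_card, hM1, one_mul, hPE, hE'card]
  have hH36 : Nat.card H = 36 := by rw [← hcardH, hK4]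
  have hKC : K ≤ centralizer ({z} : Set G) := fun x hx => by
    have : (P : Subgroup K) = ⊤ := eq_top_of_card_eq _ (by rw [hPE, hE'card, hK4])
    have h := (hPmem ⟨x, hx⟩).1 (this ▸ mem_top _)
    exact mem_centralizer_singleton_iff.2 (hEcomm _ h).1.eq
  -- an element of order nine moves `z`
  obtain ⟨⟨w, hwR⟩, hw⟩ := hRc.exists_generator
  have hw9 : orderOf w = 9 := by
    rw [← hR9, ← orderOf_eq_card_of_forall_mem_zpowers hw, Subgroup.orderOf_mk]
  have hwC : w ∉ X.C := fun h => by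
    have := orderOf_dvd_natCard X.C h
    rw [hC, hw9] at this
    norm_num at this
  have hwH : w ∈ H := hRH hwR
  have he'H : w⁻¹ * z * w ∈ H := mul_mem (mul_mem (inv_mem hwH) hzH) hwH
  have he'2 : w⁻¹ * z * w * (w⁻¹ * z * w) = 1 := by
    rw [show w⁻¹ * z * w * (w⁻¹ * z * w) = w⁻¹ * (z * z) * w by group, hzz]; group
  refine ⟨t, w⁻¹ * z * w, w, ht, htC, ?_, fun h => hwC ?_, hKC (hinvK _ he'H he'2),
    mem_centralizer_singleton_iff.1 he'H, mem_centralizer_singleton_iff.1 hwH, by group, hH36⟩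
  · exact ((orderOf_injective (MulAut.conj w⁻¹).toMonoidHom (MulAut.conj w⁻¹).injective z).symm.trans
      (by simp)).symm.trans hz2
  · refine mem_centralizer_singleton_iff.2 ?_
    have := congrArg (fun a => w * a) h
    simpa [mul_assoc] using this.symm

end Five

/-- The case `p = 5`: the odd core of `C(z)` is trivial and `|G| = 85680`. -/
theorem core_trivial {G : Type u} [Group G] [Fintype G] (X : Ctx G 5 2) (R : Ret X.K)
    (hord : Nat.card G * Nat.card R.π.ker * 1600 = 2 * Nat.card X.C ^ 2 * kj R ^ 2 * 1190) :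
    Nat.card X.π.ker = 1 ∧ Nat.card G = 85680 :=
  core_trivial_of X R (kj R) (kj_eq R) hord

/-- The case `p = 5`: the centraliser of an element of order three. -/
theorem local_three {G : Type u} [Group G] [Fintype G] (X : Ctx G 5 2)
    (ho : Nat.card X.π.ker = 1) (hG : Nat.card G = 85680) :
    ∃ t e w : G, orderOf t = 3 ∧ t ∈ X.C ∧ orderOf e = 2 ∧ e ≠ X.z ∧ e ∈ X.C ∧
      Commute e t ∧ Commute w t ∧ w * e * w⁻¹ = X.z ∧
      Nat.card (Subgroup.centralizer ({t} : Set G)) = 36 :=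
  local_three_aux X ho hG

end CfsgLib.SDCyclic
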