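import Cfsg.Agent.Lib.SDCyclic.Model
import Cfsg.Agent.Lib.GWCons.QDNormalSL
import Cfsg.Agent.S1213

/-!
The frame of the semidihedral gap: in a simple group with semidihedral Sylow 2-subgroups and cyclic
Sylow subgroups of odd order, the involution centraliser modulo its odd core is `SL₂(p)` extended
by two.
-/

set_option autoImplicit false
set_option linter.unusedSectionVars false
set_option linter.style.haveILetI false

namespace CfsgLib.SDCyclic

open Matrix CfsgLib.QuatDefect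

universe u

theorem isCyclic_of_le {H : Type*} [Group H] {A B : Subgroup H} (h : A ≤ B) [IsCyclic B] :
    IsCyclic A :=
  isCyclic_of_injective (Subgroup.inclusion h) (Subgroup.inclusion_injective h)

/-- The Sylow subgroups of a subquotient of a group with cyclic Sylow subgroups are cyclic. -/
theorem isCyclic_sub {G : Type*} [Group G] [Finite G] {r : ℕ} [Fact r.Prime]
    (hcyc : ∀ R : Sylow r G, IsCyclic R) (C : Subgroup G) {H : Type*} [Group H] (π : C →* H)
    (hπ : Function.Surjective π) {U : Subgroup H} (hU : IsPGroup r U) : IsCyclic U := by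
  obtain ⟨P, hP⟩ := hU.exists_le_sylow
  obtain ⟨P₀, hP₀⟩ := Sylow.mapSurjective_surjective hπ r P
  obtain ⟨R, hR⟩ := (P₀.isPGroup'.map C.subtype).exists_le_sylow
  haveI := hcyc R
  haveI : IsCyclic ((P₀ : Subgroup C).map C.subtype) := isCyclic_of_le hR
  haveI : IsCyclic (P₀ : Subgroup C) :=
    isCyclic_of_surjective _ ((P₀ : Subgroup C).equivMapOfInjective _
      C.subtype_injective).symm.surjective
  haveI : IsCyclic ((P₀ : Subgroup C).map π) :=
    isCyclic_of_surjective _ (π.subgroupMap_surjective (P₀ : Subgroup C))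
  haveI : IsCyclic (P : Subgroup H) := by
    rw [← hP₀]; rw [Sylow.coe_mapSurjective]; infer_instance
  exact isCyclic_of_le hP

/-- The unitriangular subgroup as a homomorphism. -/
def upperHom (F : Type*) [Field F] : Multiplicative F →* Matrix.SpecialLinearGroup (Fin 2) F where
  toFun t := CfsgLib.PLocal.SLTwo.upper t.toAdd
  map_one' := by apply CfsgLib.PLocal.SLTwo.ext_entries <;> simp [CfsgLib.PLocal.SLTwo.upper]
  map_mul' a b := by rw [upper_mul, toAdd_mul]

theorem upperHom_injective (F : Type*) [Field F] : Function.Injective (upperHom F) :=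
  fun a b h => Multiplicative.toAdd.injective
    (congrArg (fun x : Matrix.SpecialLinearGroup (Fin 2) F => x.1 0 1) h :)

/-- `SL₂` along an isomorphism of fields. -/
noncomputable def slFieldEquiv {F K : Type*} [Field F] [Field K] (e : F ≃+* K) :
    Matrix.SpecialLinearGroup (Fin 2) F ≃* Matrix.SpecialLinearGroup (Fin 2) K :=
  MonoidHom.toMulEquiv (Matrix.SpecialLinearGroup.map e.toRingHom)
    (Matrix.SpecialLinearGroup.map e.symm.toRingHom)
    (MonoidHom.ext fun _ => Subtype.ext <| Matrix.ext fun _ _ => e.symm_apply_apply _)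
    (MonoidHom.ext fun _ => Subtype.ext <| Matrix.ext fun _ _ => e.apply_symm_apply _)

/-- A cyclic unitriangular subgroup means a prime field. -/
theorem exists_prime_field {F : Type} [Field F] [Fintype F] (hodd : Odd (Fintype.card F))
    (hU : ∀ r : ℕ, r.Prime → r ≠ 2 → IsPGroup r (upperHom F).range → IsCyclic (upperHom F).range) :
    ∃ p : ℕ, p.Prime ∧ p ≠ 2 ∧ Nonempty (ZMod p ≃+* F) := by
  obtain ⟨p, hc⟩ := CharP.exists F
  obtain ⟨k, hp, hk⟩ := FiniteField.card F p
  haveI : Fact p.Prime := ⟨hp⟩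
  have hp2 : p ≠ 2 := by
    rintro rfl
    rw [hk] at hodd
    exact Nat.not_even_iff_odd.2 hodd ((Nat.even_pow' (k.ne_zero)).2 even_two)
  have hcard : Nat.card (upperHom F).range = p ^ (k : ℕ) := by
    rw [← Nat.card_congr (MonoidHom.ofInjective (upperHom_injective F)).toEquiv,
      Nat.card_congr Multiplicative.toAdd, Nat.card_eq_fintype_card, hk]
  haveI := hU p hp hp2 (IsPGroup.of_card hcard)
  have hexp : Monoid.exponent (upperHom F).range ∣ p := by
    refine Monoid.exponent_dvd_of_forall_pow_eq_one fun x => Subtype.ext ?_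
    obtain ⟨t, ht⟩ := x.2
    rw [Subgroup.coe_pow, ← ht, ← map_pow, show t ^ p = 1 from Multiplicative.toAdd.injective (by
      rw [toAdd_pow, toAdd_one, nsmul_eq_mul, CharP.cast_eq_zero, zero_mul]), map_one]
    rfl
  rw [IsCyclic.exponent_eq_card, hcard] at hexp
  have hk1 : (k : ℕ) = 1 := by
    have h : (k : ℕ) ≤ 1 := (Nat.pow_dvd_pow_iff_le_right hp.one_lt).1 (by rwa [pow_one])
    have := k.pos
    omega
  exact ⟨p, hp, hp2, ⟨ZMod.ringEquivOfPrime F hp (by rw [hk, hk1, pow_one])⟩⟩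

variable {H : Type u} [Group H] [Finite H] {p : ℕ} [Fact p.Prime]

local notation "SL" => Matrix.SpecialLinearGroup (Fin 2) (ZMod p)

/-- An element of the Sylow subgroup centralising a nonabelian subgroup of it is central. -/
theorem eq_one_or_z {m : ℕ} {S : Subgroup H} (q : QD S m) (ha : q.a = 2 ^ m - 1) (hm : 2 ≤ m)
    {K : Subgroup H} (hK : K ≤ S) (hnc : ¬ IsMulCommutative K) {t : H} (ht : t ∈ S)
    (hc : ∀ x ∈ K, x * t = t * x) : t = 1 ∨ t = q.z := by
  -- a rotation fixed by `τ` is killed by two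
  have key : ∀ r : ZMod (2 * 2 ^ m), q.τ * q.rot r = q.rot r * q.τ → q.rot r = 1 ∨ q.rot r = q.z := by
    intro r hr
    rw [← mul_inv_eq_iff_eq_mul, q.τ_conj] at hr
    have h := q.rot_inj hr
    rw [ha] at h
    push_cast at h
    obtain ⟨l, hl⟩ : ∃ l, m = l + 2 := ⟨m - 2, by omega⟩
    have hN : ((2 * 2 ^ m : ℕ) : ZMod (2 * 2 ^ m)) = 0 := ZMod.natCast_self _
    push_cast at hN
    have h2 : (2 : ZMod (2 * 2 ^ m)) ^ m = 4 * 2 ^ l := by
      rw [hl, pow_add]; ring
    -- `(2^m - 2) r = 0` gives `2 r = 0`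
    rw [h2] at h hN
    have h0 : r + r = 0 := by
      linear_combination (-1 : ZMod (2 * 2 ^ m)) * (1 + 2 * 2 ^ l) * h + r * (2 : ZMod (2 * 2 ^ m)) ^ l * hN
    rcases QD.two_torsion h0 with e | e <;> rw [e]
    · exact Or.inl q.rot_zero
    · exact Or.inr rfl
  have key' : ∀ r s : ZMod (2 * 2 ^ m),
      q.rot r * (q.rot s * q.τ) = (q.rot s * q.τ) * q.rot r → q.rot r = 1 ∨ q.rot r = q.z := by
    intro r s h
    refine key r (mul_left_cancel (a := q.rot s) ?_)
    rw [← mul_assoc, ← h, ← mul_assoc, ← mul_assoc, q.rot_comm]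
  obtain ⟨r, hr | hr⟩ := q.exists_elem ht
  · subst hr
    by_cases hrot : ∀ x ∈ K, x ∈ Subgroup.zpowers q.σ
    · refine absurd ⟨⟨fun a b => Subtype.ext ?_⟩⟩ hnc
      obtain ⟨i, hi⟩ := q.exists_rot (hrot a a.2)
      obtain ⟨j, hj⟩ := q.exists_rot (hrot b b.2)
      show (a : H) * b = b * a
      rw [hi, hj, q.rot_comm]
    · push Not at hrot
      obtain ⟨x, hx, hxr⟩ := hrot
      obtain ⟨s, hs | hs⟩ := q.exists_elem (hK hx)
      · exact absurd (hs ▸ q.rot_mem_zpowers s) hxr
      · exact key' r s (by rw [← hs]; exact (hc x hx).symm)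
  · exfalso
    subst hr
    -- all of `K` lies in an abelian set
    have hall : ∀ x ∈ K, x = 1 ∨ x = q.z ∨ x = (q.rot r * q.τ)⁻¹ ∨ x = q.z * (q.rot r * q.τ)⁻¹ := by
      intro x hx
      obtain ⟨s, hs | hs⟩ := q.exists_elem (hK hx)
      · rcases key' s r (by rw [← hs]; exact hc x hx) with e | e
        · exact Or.inl (hs.trans e)
        · exact Or.inr (Or.inl (hs.trans e))
      · obtain ⟨u, hu⟩ : ∃ u, x * (q.rot r * q.τ) = q.rot u := by
          obtain ⟨u, hu | hu⟩ := q.exists_elem (S.mul_mem (hK hx) ht)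
          · exact ⟨u, hu⟩
          · exfalso
            have h1 := mul_right_cancel (show x * q.rot r * q.τ = q.rot u * q.τ by rwa [mul_assoc])
            rw [hs, mul_assoc, mul_inv_eq_iff_eq_mul.1 (q.τ_conj r), ← mul_assoc, ← q.rot_add] at h1
            exact q.rot_ne_τ u (s + (q.a : ZMod (2 * 2 ^ m)) * r) h1.symm
        rcases key' u r (by
            rw [← hu]
            conv_lhs => rw [hc x hx]
            group) with e | e
        · exact Or.inr (Or.inr (Or.inl (by rw [eq_inv_iff_mul_eq_one, hu, e])))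
        · exact Or.inr (Or.inr (Or.inr (by rw [eq_mul_inv_iff_mul_eq, hu, e])))
    have hz : Commute (q.rot r * q.τ) q.z := q.z_comm ht
    refine hnc ⟨⟨fun a b => Subtype.ext ?_⟩⟩
    show Commute (a : H) b
    have hpair : ∀ w : H, w = 1 ∨ w = q.z ∨ w = (q.rot r * q.τ)⁻¹ ∨ w = q.z * (q.rot r * q.τ)⁻¹ →
        Commute q.z w ∧ Commute (q.rot r * q.τ)⁻¹ w := by
      rintro w (rfl | rfl | rfl | rfl)
      · exact ⟨Commute.one_right _, Commute.one_right _⟩
      · exact ⟨Commute.refl _, hz.inv_left⟩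
      · exact ⟨hz.inv_left.symm, Commute.refl _⟩
      · exact ⟨(Commute.refl _).mul_right hz.inv_left.symm, hz.inv_left.mul_right (Commute.refl _)⟩
    obtain ⟨hzb, htb⟩ := hpair b (hall b b.2)
    rcases hall a a.2 with e | e | e | e <;> rw [e]
    · exact Commute.one_left _
    · exact hzb
    · exact htb
    · exact hzb.mul_left htb

/-- A normal `SL₂(p)` under a semidihedral Sylow subgroup has index two, the odd core being trivial. -/
theorem card_eq_two_mul (hp2 : p ≠ 2) (emb : SL →* H) (hinj : Function.Injective emb)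
    (hn : emb.range.Normal) {m : ℕ} (S : Sylow 2 H) (q : QD (S : Subgroup H) m)
    (ha : q.a = 2 ^ m - 1) (hm : 2 ≤ m) (hτ : q.τ * q.τ = 1) (hz : ∀ c : H, c * q.z = q.z * c)
    (hO : Cfsg.oddCore H = ⊥) : Nat.card H = 2 * (p * (p ^ 2 - 1)) := by
  classical
  haveI : Fact (Nat.Prime 2) := ⟨Nat.prime_two⟩
  haveI := hn
  have h2 : (2 : ZMod p) ≠ 0 := fun e => hp2 ((Nat.prime_dvd_prime_iff_eq (Fact.out : p.Prime)
    Nat.prime_two).1 ((CharP.cast_eq_zero_iff (ZMod p) p 2).1 (by exact_mod_cast e)))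
  set L := emb.range
  set Cc : Subgroup H := Subgroup.centralizer (L : Set H)
  -- a nonabelian 2-subgroup of `L` inside `S`
  obtain ⟨Q₀, hQ₀, hQ₀nc⟩ := CfsgLib.ClassicalGroups.SL2.exists_pGroup_not_commutative
    (F := ZMod p) h2
  obtain ⟨P₀, hP₀⟩ := (hQ₀.map emb).exists_le_sylow
  obtain ⟨g, hg⟩ := MulAction.exists_smul_eq H P₀ S
  set φ : H →* H := (MulAut.conj g).toMonoidHom
  set K := (Q₀.map emb).map φ with hKdef
  have hKS : K ≤ (S : Subgroup H) := by
    rw [← hg, Sylow.coe_subgroup_smul]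
    rintro _ ⟨x, hx, rfl⟩
    exact Subgroup.smul_mem_pointwise_smul _ _ _ (hP₀ hx)
  have hKL : K ≤ L := by
    rintro _ ⟨_, ⟨x, -, rfl⟩, rfl⟩
    exact hn.conj_mem _ ⟨x, rfl⟩ g
  have hKnc : ¬ IsMulCommutative K := fun h => hQ₀nc ⟨⟨fun a b => Subtype.ext (hinj
    ((MulAut.conj g).injective (by
      have := congrArg Subtype.val (h.is_comm.comm
        (⟨φ (emb a), Subgroup.mem_map_of_mem _ (Subgroup.mem_map_of_mem _ a.2)⟩ : K)
        ⟨φ (emb b), Subgroup.mem_map_of_mem _ (Subgroup.mem_map_of_mem _ b.2)⟩)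
      simpa [φ] using this)))⟩⟩
  have hzC : q.z ∈ Cc := Subgroup.mem_centralizer_iff.2 fun x _ => hz x
  set Z : Subgroup H := Subgroup.zpowers q.z
  have hzz : q.z * q.z = 1 := by
    have := pow_orderOf_eq_one q.z
    rwa [q.orderOf_z, pow_two] at this
  -- the 2-elements centralising `L`
  have htwo : ∀ x ∈ Cc, IsPGroup 2 (Subgroup.zpowers x) → x ∈ Z := by
    intro x hx hxp
    obtain ⟨P₁, hP₁⟩ := hxp.exists_le_sylow
    obtain ⟨h, hh⟩ := MulAction.exists_smul_eq H P₁ S
    have hS : h * x * h⁻¹ ∈ (S : Subgroup H) := by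
      rw [← hh, Sylow.coe_subgroup_smul]
      exact Subgroup.smul_mem_pointwise_smul _ _ _ (hP₁ (Subgroup.mem_zpowers x))
    have hC : h * x * h⁻¹ ∈ Cc := Subgroup.Normal.conj_mem inferInstance x hx h
    rcases eq_one_or_z q ha hm hKS hKnc hS
      (fun y hy => Subgroup.mem_centralizer_iff.1 hC y (hKL hy)) with e | e
    · rw [conj_eq_one_iff.1 e]; exact Z.one_mem
    · have : x = q.z := by
        have e' : h⁻¹ * (h * x * h⁻¹) * h = h⁻¹ * q.z * h := by rw [e]
        simpa [mul_assoc, hz] using e'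
      rw [this]; exact Subgroup.mem_zpowers _
  have hZC : Z ≤ Cc := Subgroup.zpowers_le.2 hzC
  -- hence `Cc = Z`
  have hCc : Cc = Z := by
    refine le_antisymm ?_ hZC
    haveI : Z.Normal := ⟨fun x hx c => by
      obtain ⟨i, rfl⟩ := Subgroup.mem_zpowers_iff.1 hx
      rw [((show Commute c q.z from hz c).zpow_right i).eq, mul_inv_cancel_right]
      exact Z.zpow_mem (Subgroup.mem_zpowers _) _⟩
    have hZcard : Nat.card (Z.subgroupOf Cc) = 2 := by
      rw [Nat.card_congr (Subgroup.subgroupOfEquivOfLe hZC).toEquiv, Nat.card_zpowers, q.orderOf_z]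
    obtain ⟨P⟩ : Nonempty (Sylow 2 Cc) := inferInstance
    have hP : (P : Subgroup Cc) ≤ Z.subgroupOf Cc := fun x hx => by
      refine htwo x x.2 ?_
      obtain ⟨k, hk⟩ := IsPGroup.iff_orderOf.1 P.isPGroup' ⟨x, hx⟩
      refine IsPGroup.of_card (n := k) ?_
      rw [Nat.card_zpowers, ← hk]
      simp
    have hidx : ¬ 2 ∣ (Z.subgroupOf Cc).index := fun h =>
      P.not_dvd_index (h.trans (Subgroup.index_dvd_of_le hP))
    obtain ⟨W, hW⟩ := Subgroup.exists_right_complement'_of_coprime (N := Z.subgroupOf Cc) (by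
      rw [hZcard]; exact Nat.prime_two.coprime_iff_not_dvd.2 hidx)
    have hWodd : ¬ 2 ∣ Nat.card W := by rwa [hW.symm.index_eq_card] at hidx
    haveI hWn : W.Normal := by
      rw [← Subgroup.normalizer_eq_top_iff, eq_top_iff, ← hW.sup_eq_top, sup_le_iff]
      refine ⟨fun x hx => Subgroup.mem_normalizer_iff.2 fun w => ?_, Subgroup.le_normalizer⟩
      obtain ⟨i, hi⟩ := Subgroup.mem_zpowers_iff.1 (Subgroup.mem_subgroupOf.1 hx)
      have hcen : x * w = w * x := Subtype.ext (by
        rw [Subgroup.coe_mul, Subgroup.coe_mul, ← hi]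
        exact ((show Commute (w : H) q.z from hz w).zpow_right i).eq.symm)
      rw [hcen, mul_inv_cancel_right]
    have hWbot : W = ⊥ := by
      rw [eq_bot_iff, ← CfsgLib.PCore.pPrimeCore_eq_bot_of_normal Cc hO]
      exact CfsgLib.PCore.le_pPrimeCore_of_not_dvd hWn hWodd
    intro x hx
    have htop := hW.sup_eq_top
    rw [hWbot, sup_bot_eq] at htop
    exact Subgroup.mem_subgroupOf.1 (htop ▸ Subgroup.mem_top (⟨x, hx⟩ : Cc))
  -- every element of `Z` is in `L`
  have hzL : q.z ∈ L := by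
    have hneg : (-1 : SL) * -1 = 1 := Subtype.ext (by simp)
    have hcen : emb (-1) ∈ Cc := Subgroup.mem_centralizer_iff.2 (by
      rintro _ ⟨y, rfl⟩
      rw [← map_mul, ← map_mul]
      congr 1
      exact Subtype.ext (by simp))
    rw [hCc, Subgroup.mem_zpowers_iff] at hcen
    obtain ⟨i, hi⟩ := hcen
    rcases Int.even_or_odd i with ⟨j, rfl⟩ | ⟨j, rfl⟩
    · exfalso
      rw [← two_mul, _root_.zpow_mul, zpow_two, hzz, _root_.one_zpow] at hi
      exact CfsgLib.SL2Char.neg_one_ne_one h2 (hinj (by rw [map_one, hi]))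
    · rw [_root_.zpow_add_one, _root_.zpow_mul, zpow_two, hzz, _root_.one_zpow, one_mul] at hi
      exact ⟨-1, hi.symm⟩
  -- intertwiners
  have hmat : ∀ c : H, ∃ A : Matrix (Fin 2) (Fin 2) (ZMod p), A.det ≠ 0 ∧
      ∀ x x' : SL, c * emb x * c⁻¹ = emb x' → A * x.1 = x'.1 * A := by
    intro c
    let e := MonoidHom.ofInjective hinj
    have hmem : ∀ x, c * emb x * c⁻¹ ∈ L := fun x => hn.conj_mem _ ⟨x, rfl⟩ c
    let ψ : SL →* SL :=
      { toFun := fun x => e.symm ⟨_, hmem x⟩
        map_one' := by simp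
        map_mul' := fun a b => by
          rw [← map_mul]; congr 1; exact Subtype.ext (by simp [mul_assoc]) }
    have hψ : ∀ x, emb (ψ x) = c * emb x * c⁻¹ := fun x => by
      show ((e (e.symm ⟨_, hmem x⟩) : L) : H) = _
      rw [MulEquiv.apply_symm_apply]
    have hinj' : Function.Injective ψ := fun a b h => hinj (by
      have h' := congrArg emb h
      rwa [hψ, hψ, mul_left_inj, mul_right_inj] at h')
    obtain ⟨A, hA, hA'⟩ := exists_intertwiner hp2 ψ hinj'
    exact ⟨A, hA, fun x x' h => by rw [hA', show ψ x = x' from hinj (by rw [hψ, h])]⟩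
  choose A hA hA' using hmat
  have hconj : ∀ (c : H) (x : SL), ∃ x', c * emb x * c⁻¹ = emb x' := fun c x => by
    obtain ⟨x', hx⟩ := hn.conj_mem _ ⟨x, rfl⟩ c
    exact ⟨x', hx.symm⟩
  have hmem : ∀ (c : H) (M : Matrix (Fin 2) (Fin 2) (ZMod p)), M.det ≠ 0 → IsSquare M.det →
      (∀ x x' : SL, c * emb x * c⁻¹ = emb x' → M * x.1 = x'.1 * M) → c ∈ L := by
    intro c M hM hMsq hM'
    obtain ⟨r, hr⟩ := hMsq
    have hr0 : r ≠ 0 := fun h => hM (by rw [hr, h, mul_zero])
    let B : SL := ⟨r⁻¹ • M, by rw [Matrix.det_smul, Fintype.card_fin, hr]; field_simp⟩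
    have hc : (emb B)⁻¹ * c ∈ Cc := by
      refine Subgroup.mem_centralizer_iff.2 ?_
      rintro _ ⟨x, rfl⟩
      obtain ⟨x', hx'⟩ := hconj c x
      have hB : B * x = x' * B := Subtype.ext (by
        show r⁻¹ • M * x.1 = x'.1 * (r⁻¹ • M)
        rw [smul_mul_assoc, mul_smul_comm, hM' x x' hx'])
      have e := congrArg emb hB
      rw [map_mul, map_mul] at e
      refine Eq.symm ?_
      calc (emb B)⁻¹ * c * emb x = (emb B)⁻¹ * (emb x' * emb B) * (emb B)⁻¹ * c := by
            rw [mul_assoc, mul_inv_eq_iff_eq_mul.1 hx']; group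
        _ = (emb B)⁻¹ * (emb B * emb x) * (emb B)⁻¹ * c := by rw [e]
        _ = _ := by group
    rw [hCc] at hc
    have h := L.mul_mem ⟨B, rfl⟩ ((Subgroup.zpowers_le.2 hzL) hc)
    rwa [mul_inv_cancel_left] at h
  have hτL : q.τ ∉ L := by
    rintro ⟨x, hx⟩
    obtain ⟨w, hw⟩ := hzL
    have h1 : x * x = 1 := hinj (by rw [map_mul, hx, hτ, map_one])
    have hx1 : x ≠ 1 := fun h => q.notMem (by rw [← hx, h, map_one]; exact Subgroup.one_mem _)
    have hw1 : w ≠ 1 := fun h => by
      have := q.orderOf_z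
      rw [← hw, h, map_one, orderOf_one] at this
      omega
    have hw2 : w * w = 1 := hinj (by rw [map_mul, hw, hzz, map_one])
    have : q.τ = q.z := by
      rw [← hx, ← hw, CfsgLib.InvChar.eq_neg_one_of_sq h2 hx1 h1,
        CfsgLib.InvChar.eq_neg_one_of_sq h2 hw1 hw2]
    exact q.notMem (this ▸ q.rot_mem_zpowers _)
  have hidx : L.index = 2 := by
    refine Subgroup.index_eq_two_iff.2 ⟨q.τ, fun b => ?_⟩
    by_cases hb : IsSquare (A b).det
    · have hbL := hmem b _ (hA b) hb (hA' b)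
      refine Or.inr ⟨hbL, fun h => hτL ?_⟩
      simpa using L.mul_mem (L.inv_mem hbL) h
    · have hτ' : ¬ IsSquare (A q.τ).det := fun h => hτL (hmem _ _ (hA _) h (hA' _))
      have hprod : IsSquare ((A b).det * (A q.τ).det) := by
        rw [← quadraticChar_one_iff_isSquare (mul_ne_zero (hA b) (hA q.τ)), map_mul,
          quadraticChar_neg_one_iff_not_isSquare.2 hb,
          quadraticChar_neg_one_iff_not_isSquare.2 hτ']
        rfl
      have hbτ : b * q.τ ∈ L := by
        refine hmem _ (A b * A q.τ) (by rw [Matrix.det_mul]; exact mul_ne_zero (hA b) (hA q.τ))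
          (by rwa [Matrix.det_mul]) fun x x'' h => ?_
        obtain ⟨x', hx'⟩ := hconj q.τ x
        have h' : b * emb x' * b⁻¹ = emb x'' := by rw [← hx', ← h]; group
        rw [mul_assoc (A b), hA' _ x x' hx', ← mul_assoc (A b), hA' _ x' x'' h', mul_assoc x''.1]
      refine Or.inl ⟨hbτ, fun h => hτL ?_⟩
      simpa using L.mul_mem (L.inv_mem h) hbτ
  have h := L.card_mul_index
  rw [hidx, ← Nat.card_congr (MonoidHom.ofInjective hinj).toEquiv, SpecLin.SLTwo.card_sl_two,
    ZMod.card] at h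
  omega

theorem exists_frame {G : Type u} [Group G] [Finite G] [IsSimpleGroup G]
    (hGW : CfsgLib.GWCons.RankOneCover.DihedralClassification.{u}) (S : Sylow 2 G)
    (hS : Cfsg.IsQuasiDihedral (S : Subgroup G))
    (hodd : ∀ r : ℕ, r.Prime → r ≠ 2 → ∀ R : Sylow r G, IsCyclic R) :
    ∃ (m p : ℕ) (_ : Fact p.Prime) (qd : QuatDefect.QD (S : Subgroup G) m), qd.a = 2 ^ m - 1 ∧
      qd.τ * qd.τ = 1 ∧ 2 ≤ m ∧
      ∃ Q : Model (↥(Subgroup.centralizer ({qd.z} : Set G)) ⧸
          Cfsg.oddCore ↥(Subgroup.centralizer ({qd.z} : Set G))) p m,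
        (∀ h : qd.σ ∈ Subgroup.centralizer ({qd.z} : Set G),
          QuotientGroup.mk ⟨qd.σ, h⟩ = Q.qd.σ) ∧
        (∀ h : qd.τ ∈ Subgroup.centralizer ({qd.z} : Set G),
          QuotientGroup.mk ⟨qd.τ, h⟩ = Q.qd.τ) := by
  haveI : Fact (Nat.Prime 2) := ⟨Nat.prime_two⟩
  obtain ⟨n, hn, hcard, x, y, hx, hy, hrel⟩ := id hS
  obtain ⟨m, hm, rfl⟩ : ∃ m, 2 ≤ m ∧ n = m + 1 := ⟨n - 1, by omega, by omega⟩
  simp only [Nat.add_sub_cancel] at hrel
  have hx' : orderOf x = 2 * 2 ^ m := by rw [hx, pow_succ']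
  have h4 : 4 ≤ 2 ^ m := le_trans (by norm_num) (Nat.pow_le_pow_right two_pos hm)
  have hy1 : y * y = 1 := by
    have := pow_orderOf_eq_one y
    rwa [hy, sq] at this
  have hrel' : y * x * y⁻¹ = x ^ ((2 : ℤ) ^ m - 1) := by
    rw [hrel, ← zpow_natCast, Nat.cast_sub (by omega)]
    push_cast
    rfl
  have hcne : y * x * y⁻¹ ≠ x := fun hc => by
    rw [hrel] at hc
    have h1 := pow_eq_pow_iff_modEq.1 (show x ^ (2 ^ m - 1) = x ^ 1 by rw [hc, pow_one])
    rw [hx', Nat.ModEq, Nat.mod_eq_of_lt (by omega), Nat.mod_eq_of_lt (by omega)] at h1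
    omega
  have hnot : y ∉ Subgroup.zpowers x := by
    intro h
    obtain ⟨i, hi⟩ := Subgroup.mem_zpowers_iff.1 h
    exact hcne (by rw [← hi, ((Commute.refl x).zpow_left i).eq, mul_inv_cancel_right])
  let qd : QD (S : Subgroup G) m :=
    { σ := x
      τ := y
      a := 2 ^ m - 1
      one_le := by omega
      a_eq := Or.inr ⟨hm, rfl⟩
      σ_mem := x.2
      τ_mem := y.2
      ord := by rw [Subgroup.orderOf_coe]; exact hx'
      rel := by simpa using congrArg Subtype.val hrel'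
      τ_sq := Or.inl (by simpa using congrArg Subtype.val hy1)
      notMem := fun h => hnot (by
        obtain ⟨i, hi⟩ := Subgroup.mem_zpowers_iff.1 h
        exact Subgroup.mem_zpowers_iff.2 ⟨i, Subtype.ext (by simpa using hi)⟩)
      card := by rw [hcard, pow_succ', pow_succ']; ring }
  -- no subgroup of index two
  have hG2 : ∀ H : Subgroup G, H.index ≠ 2 := by
    intro H hH
    haveI := Subgroup.normal_of_index_eq_two hH
    rcases Subgroup.Normal.eq_bot_or_eq_top (H := H) inferInstance with h | h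
    · rw [h, Subgroup.index_bot] at hH
      have hd := (S : Subgroup G).card_subgroup_dvd_card
      rw [hcard, hH] at hd
      have := Nat.le_of_dvd two_pos hd
      rw [pow_succ', pow_succ'] at this
      omega
    · rw [h, Subgroup.index_top] at hH
      omega
  set C := Subgroup.centralizer ({qd.z} : Set G)
  have hle : (S : Subgroup G) ≤ C := fun _ hg =>
    Subgroup.mem_centralizer_singleton_iff.2 (qd.z_comm hg)
  obtain ⟨-, -, ⟨K, hKn, ⟨a, ha⟩, hK2, hKq⟩, -⟩ :=
    Cfsg.Agent.S1213.result S (Or.inl hS) hG2 qd.z qd.orderOf_z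
  haveI := hKn
  set O := Cfsg.oddCore ↥C
  set π : ↥C →* ↥C ⧸ O := QuotientGroup.mk' O with hπdef
  have hπ : Function.Surjective π := QuotientGroup.mk'_surjective O
  have hker : π.ker = O := QuotientGroup.ker_mk' O
  have hinjOn : ∀ {A : Subgroup ↥C}, IsPGroup 2 A → Function.Injective (π.comp A.subtype) := by
    intro A hA
    rw [injective_iff_map_eq_one]
    intro s hs
    have h : (s : ↥C) ∈ A ⊓ O := ⟨s.2, hker ▸ hs⟩
    rw [CfsgLib.PCore.inf_eq_bot_of_isPGroup_coprime hA CfsgLib.PCore.pPrimeCore_coprime,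
      Subgroup.mem_bot] at h
    exact Subtype.ext h
  set SC : Sylow 2 ↥C := S.subtype hle
  set S' : Sylow 2 (↥C ⧸ O) := SC.mapSurjective hπ with hS'def
  let eS : (S : Subgroup G) ≃* (S' : Subgroup (↥C ⧸ O)) :=
    ((Subgroup.subgroupOfEquivOfLe hle).symm.trans (MonoidHom.ofInjective
      (hinjOn SC.isPGroup'))).trans (MulEquiv.subgroupCongr (by
        rw [MonoidHom.range_comp]
        exact congrArg (Subgroup.map π) (Subgroup.range_subtype _)))
  have heS : ∀ s : (S : Subgroup G), ((eS s : (S' : Subgroup (↥C ⧸ O))) : ↥C ⧸ O) =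
      π ⟨s, hle s.2⟩ := fun s => rfl
  let q' : QD (S' : Subgroup (↥C ⧸ O)) m :=
    { σ := π ⟨qd.σ, hle qd.σ_mem⟩
      τ := π ⟨qd.τ, hle qd.τ_mem⟩
      a := qd.a
      one_le := qd.one_le
      a_eq := qd.a_eq
      σ_mem := ⟨_, qd.σ_mem, rfl⟩
      τ_mem := ⟨_, qd.τ_mem, rfl⟩
      ord := by
        rw [← heS ⟨qd.σ, qd.σ_mem⟩, Subgroup.orderOf_coe, MulEquiv.orderOf_eq,
          Subgroup.orderOf_mk]
        exact qd.ord
      rel := by
        rw [← map_inv, ← map_mul, ← map_mul, ← map_zpow]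
        exact congrArg π (Subtype.ext (by simpa using qd.rel))
      τ_sq := Or.inl (by
        rw [← map_mul, ← map_one π]
        exact congrArg π (Subtype.ext (by simpa using congrArg Subtype.val hy1)))
      notMem := fun h => by
        obtain ⟨i, hi⟩ := Subgroup.mem_zpowers_iff.1 h
        rw [← heS ⟨qd.σ, qd.σ_mem⟩, ← heS ⟨qd.τ, qd.τ_mem⟩, ← Subgroup.coe_zpow, ← map_zpow] at hi
        exact qd.notMem (Subgroup.mem_zpowers_iff.2 ⟨i, by
          simpa using congrArg Subtype.val (eS.injective (Subtype.ext hi))⟩)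
      card := by rw [← Nat.card_congr eS.toEquiv]; exact qd.card }
  have hzq : q'.z = π ⟨qd.z, hle qd.z_mem⟩ := by
    show π ⟨qd.σ, hle qd.σ_mem⟩ ^ _ = _
    rw [← map_pow]
    rfl
  have hqz : ∀ c : ↥C ⧸ O, c * q'.z = q'.z * c := by
    intro c
    obtain ⟨c, rfl⟩ := hπ c
    rw [hzq, ← map_mul, ← map_mul]
    exact congrArg π (Subtype.ext (Subgroup.mem_centralizer_singleton_iff.1 c.2))
  have hO : Cfsg.oddCore (↥C ⧸ O) = ⊥ := CfsgLib.PCore.pPrimeCore_quotient_pPrimeCore
  have hS'qd : Cfsg.IsQuasiDihedral (S' : Subgroup (↥C ⧸ O)) :=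
    ⟨m + 1, hn, by rw [← Nat.card_congr eS.toEquiv]; exact hcard, eS x, eS y,
      by rw [MulEquiv.orderOf_eq]; exact hx, by rw [MulEquiv.orderOf_eq]; exact hy,
      by rw [Nat.add_sub_cancel, ← map_inv, ← map_mul, ← map_mul, ← map_pow, hrel]⟩
  -- the normal subgroup with quaternion Sylow subgroups
  set K' := K.map π
  haveI : K'.Normal := hKn.map π hπ
  obtain ⟨a', -, ha'⟩ := (Nat.dvd_prime_pow Nat.prime_two).1
    (ha ▸ (Subgroup.index_map_dvd K hπ : K'.index ∣ K.index))
  set ρ := π.subgroupMap K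
  have hρ : Function.Surjective ρ := π.subgroupMap_surjective K
  have hK2' : ∀ M : Subgroup ↥K', M.index ≠ 2 := fun M hM =>
    hK2 (M.comap ρ) (by rw [Subgroup.index_comap_of_surjective M hρ, hM])
  have hKq' : ∀ P : Sylow 2 ↥K', ∃ k : ℕ, 1 ≤ k ∧
      Nonempty ((P : Subgroup ↥K') ≃* QuaternionGroup (2 ^ k)) := by
    intro P
    obtain ⟨P₀, hP₀⟩ := Sylow.mapSurjective_surjective hρ 2 P
    obtain ⟨k, hk, ⟨e⟩⟩ := hKq P₀
    have hi : Function.Injective (ρ.comp (P₀ : Subgroup ↥K).subtype) := by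
      rw [injective_iff_map_eq_one]
      intro s hs
      have h := congrArg Subtype.val hs
      have hp : IsPGroup 2 ((P₀ : Subgroup ↥K).map K.subtype) := P₀.isPGroup'.map _
      have := (injective_iff_map_eq_one _).1 (hinjOn hp)
        ⟨_, Subgroup.mem_map_of_mem K.subtype s.2⟩ h
      exact Subtype.ext (Subtype.ext (congrArg (fun t => (t : ↥C)) (congrArg Subtype.val this :)))
    refine ⟨k, hk, ⟨(((MonoidHom.ofInjective hi).trans (MulEquiv.subgroupCongr ?_)).symm).trans e⟩⟩
    rw [MonoidHom.range_comp, Subgroup.range_subtype, ← hP₀, Sylow.coe_mapSurjective]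
  obtain ⟨L₀, hL₀, ⟨F, _, _, hFodd, ⟨eF⟩⟩, -⟩ :=
    CfsgLib.GWCons.QDNormalSL.main hGW S' (Or.inl hS'qd) hO K' ha' hK2' hKq'
  obtain ⟨p, hp, hp2, ⟨ef⟩⟩ := exists_prime_field hFodd (fun r hr hr2 hU => by
    haveI : Fact r.Prime := ⟨hr⟩
    set j : Matrix.SpecialLinearGroup (Fin 2) F →* ↥C ⧸ O :=
      L₀.subtype.comp eF.symm.toMonoidHom
    have hj : Function.Injective j := L₀.subtype_injective.comp eF.symm.injective
    haveI := isCyclic_sub (hodd r hr hr2) C π hπ (hU.map j)
    exact isCyclic_of_surjective _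
      ((upperHom F).range.equivMapOfInjective j hj).symm.surjective)
  haveI : Fact p.Prime := ⟨hp⟩
  set emb : Matrix.SpecialLinearGroup (Fin 2) (ZMod p) →* ↥C ⧸ O :=
    L₀.subtype.comp ((slFieldEquiv ef).trans eF.symm).toMonoidHom
  have hrange : emb.range = L₀ := by
    rw [MonoidHom.range_comp, MonoidHom.range_eq_top.2 ((slFieldEquiv ef).trans eF.symm).surjective,
      ← MonoidHom.range_eq_map, Subgroup.range_subtype]
  have hinj : Function.Injective emb :=
    L₀.subtype_injective.comp ((slFieldEquiv ef).trans eF.symm).injective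
  have hτ2 : q'.τ * q'.τ = 1 := by
    rw [← map_mul, ← map_one π]
    exact congrArg π (Subtype.ext (by simpa using congrArg Subtype.val hy1))
  refine ⟨m, p, ⟨hp⟩, qd, rfl, by simpa using congrArg Subtype.val hy1, hm,
    { emb := emb
      inj := hinj
      normal := hrange ▸ hL₀
      S := S'
      qd := q'
      a_eq := rfl
      τ_sq := hτ2
      two_le := hm
      p_ne := hp2
      sylow := ?_
      card := card_eq_two_mul hp2 emb hinj (hrange ▸ hL₀) S' q' rfl hm hτ2 hqz hO }, ?_, ?_⟩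
  · refine Nat.pow_right_injective le_rfl (?_ : (2 : ℕ) ^ _ = 2 ^ _)
    rw [← S'.card_eq_multiplicity, q'.card, pow_add]
    ring
  · exact fun h => rfl
  · exact fun h => rfl

end CfsgLib.SDCyclic
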