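import Cfsg.Agent.Lib.SDCyclic.Columns
import Cfsg.Agent.Lib.SDCyclic.Five
import Cfsg.Agent.Lib.Chars17.Constituents

/-!
The last case of the semidihedral gap: `p = 5` with a group of order 85680.
-/

set_option autoImplicit false
set_option linter.unusedSectionVars false
set_option linter.style.haveILetI false
set_option maxHeartbeats 800000

namespace CfsgLib.SDCyclic

open Cfsg CfsgLib.QuatDefect CfsgLib.Characters CfsgLib.Blocks
open scoped ComplexConjugate Classical

universe u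

local instance factPrimeFiveLast : Fact (Nat.Prime 5) := ⟨by norm_num⟩

local notation "SL5" => Matrix.SpecialLinearGroup (Fin 2) (ZMod 5)

/-! ### General facts -/

/-- The squared norms of a combination of columns at pairwise non-conjugate elements. -/
theorem sum_comb_norm {A : Type*} [Group A] [Fintype A] {ι : Type*} [Fintype ι] (g : ι → A)
    (hg : ∀ i j, i ≠ j → ¬ IsConj (g i) (g j)) (c : ι → ℝ) :
    ∑ χ : IrrCharacter A, ‖∑ i, (c i : ℂ) * (χ : A → ℂ) (g i)‖ ^ 2 =
      ∑ i, c i ^ 2 * (Nat.card (Subgroup.centralizer ({g i} : Set A)) : ℝ) := by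
  apply Complex.ofReal_injective
  push_cast
  simp only [← Complex.mul_conj', map_sum, map_mul, Complex.conj_ofReal, Finset.sum_mul_sum]
  rw [Finset.sum_comm]
  refine Finset.sum_congr rfl fun i _ => ?_
  rw [Finset.sum_comm, Finset.sum_eq_single i]
  · rw [Finset.sum_congr rfl fun (χ : IrrCharacter A) _ => show
      (c i : ℂ) * (χ : A → ℂ) (g i) * ((c i : ℂ) * conj ((χ : A → ℂ) (g i))) =
        (c i : ℂ) ^ 2 * ((χ : A → ℂ) (g i) * conj ((χ : A → ℂ) (g i))) by ring,
      ← Finset.mul_sum, column_orth, if_pos (IsConj.refl _)]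
  · intro j _ hj
    rw [Finset.sum_congr rfl fun (χ : IrrCharacter A) _ => show
      (c i : ℂ) * (χ : A → ℂ) (g i) * ((c j : ℂ) * conj ((χ : A → ℂ) (g j))) =
        (c i : ℂ) * (c j : ℂ) * ((χ : A → ℂ) (g i) * conj ((χ : A → ℂ) (g j))) by ring,
      ← Finset.mul_sum, column_orth, if_neg (hg i j (Ne.symm hj)), mul_zero]
  · exact fun h => absurd (Finset.mem_univ i) h

/-- A relation between columns of the principal block carries to the section. -/
theorem section_comb_zero {G : Type u} [Group G] [Fintype G] {p : ℕ} [Fact p.Prime]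
    {M : Ideal AlgInt} (hM : IsPModular p M) {z : G} (hz : ∃ k : ℕ, orderOf z = p ^ k)
    {ι : Type} [Fintype ι] (y : ι → Subgroup.centralizer ({z} : Set G))
    (hy : ∀ i, ¬ p ∣ orderOf (y i)) (c : ι → ℝ)
    (h : ∀ χ ∈ principalBlock M (Subgroup.centralizer ({z} : Set G)),
      ∑ i, (c i : ℂ) * (χ : Subgroup.centralizer ({z} : Set G) → ℂ) (y i) = 0)
    {ζ : IrrCharacter G} (hζ : ζ ∈ principalBlock M G) :
    ∑ i, (c i : ℂ) * (ζ : G → ℂ) (z * (y i : G)) = 0 := by
  have hsum : ∑ ζ ∈ Finset.univ.filter (· ∈ principalBlock M G),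
      ‖∑ i, (c i : ℂ) * (ζ : G → ℂ) (z * (y i : G))‖ ^ 2 = 0 := by
    apply Complex.ofReal_injective
    push_cast
    simp only [← Complex.conj_mul', map_sum, map_mul, Complex.conj_ofReal, Finset.sum_mul_sum]
    rw [Finset.sum_comm]
    calc _ = ∑ i, ∑ j, (c i : ℂ) * c j * ∑ χ ∈ Finset.univ.filter
          (· ∈ principalBlock M (Subgroup.centralizer ({z} : Set G))),
          conj ((χ : Subgroup.centralizer ({z} : Set G) → ℂ) (y i)) *
            (χ : Subgroup.centralizer ({z} : Set G) → ℂ) (y j) := by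
          refine Finset.sum_congr rfl fun i _ => ?_
          rw [Finset.sum_comm]
          refine Finset.sum_congr rfl fun j _ => ?_
          rw [← principal_section_inner hM hz (hy i) (hy j), Finset.mul_sum]
          exact Finset.sum_congr rfl fun ζ _ => by ring
      _ = ∑ χ ∈ Finset.univ.filter (· ∈ principalBlock M (Subgroup.centralizer ({z} : Set G))),
          conj (∑ i, (c i : ℂ) * (χ : Subgroup.centralizer ({z} : Set G) → ℂ) (y i)) *
            ∑ j, (c j : ℂ) * (χ : Subgroup.centralizer ({z} : Set G) → ℂ) (y j) := by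
          simp only [Finset.mul_sum]
          rw [Finset.sum_comm]
          refine Eq.trans (Finset.sum_congr rfl fun j _ => Finset.sum_comm) ?_
          rw [Finset.sum_comm]
          refine Finset.sum_congr rfl fun χ _ => ?_
          refine Finset.sum_congr rfl fun j _ => ?_
          rw [map_sum, Finset.sum_mul]
          exact Finset.sum_congr rfl fun i _ => by rw [map_mul, Complex.conj_ofReal]; ring
      _ = 0 := Finset.sum_eq_zero fun χ hχ => by
          rw [h χ (Finset.mem_filter.1 hχ).2, mul_zero]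
  have h0 := (Finset.sum_eq_zero_iff_of_nonneg fun _ _ => sq_nonneg _).1 hsum ζ
    (Finset.mem_filter.2 ⟨Finset.mem_univ _, hζ⟩)
  simpa using h0

theorem univ_zpowers_two {A : Type*} [Group A] [Fintype A] {z : A} (hz : orderOf z = 2) :
    (1 : Subgroup.zpowers z) ≠ ⟨z, Subgroup.mem_zpowers z⟩ ∧
      (Finset.univ : Finset (Subgroup.zpowers z)) = {1, ⟨z, Subgroup.mem_zpowers z⟩} := by
  have hne : (1 : Subgroup.zpowers z) ≠ ⟨z, Subgroup.mem_zpowers z⟩ := fun e => by
    rw [← show (1 : A) = z from congrArg Subtype.val e, orderOf_one] at hz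
    omega
  refine ⟨hne, (Finset.eq_univ_of_card _ ?_).symm⟩
  rw [Finset.card_pair hne, ← Nat.card_eq_fintype_card, Nat.card_zpowers, hz]

theorem sum_zpowers_three {A : Type*} [Group A] [Fintype A] {t : A} (ht : orderOf t = 3)
    {B : Type*} [AddCommMonoid B] (f : Subgroup.zpowers t → B) :
    ∑ x, f x = f 1 + f ⟨t, Subgroup.mem_zpowers t⟩ +
      f ⟨t, Subgroup.mem_zpowers t⟩⁻¹ := by
  set s : Subgroup.zpowers t := ⟨t, Subgroup.mem_zpowers t⟩
  have hs : orderOf s = 3 := by rw [Subgroup.orderOf_mk, ht]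
  have h1 : (1 : Subgroup.zpowers t) ≠ s := fun e => by
    rw [← e, orderOf_one] at hs; omega
  have h2 : (1 : Subgroup.zpowers t) ≠ s⁻¹ := fun e => h1 (inv_injective (by rw [inv_one, ← e]))
  have h3 : s ≠ s⁻¹ := fun e => by
    have h : s ^ 2 = 1 := by
      rw [pow_two]
      nth_rewrite 1 [e]
      exact inv_mul_cancel s
    have := Nat.le_of_dvd two_pos (orderOf_dvd_of_pow_eq_one h)
    omega
  have hu : (Finset.univ : Finset (Subgroup.zpowers t)) = {1, s, s⁻¹} := by
    refine (Finset.eq_univ_of_card _ ?_).symm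
    rw [Finset.card_insert_of_notMem (by simp [h1, h2]), Finset.card_pair h3,
      ← Nat.card_eq_fintype_card, Nat.card_zpowers, ht]
  rw [hu, Finset.sum_insert (by simp [h1, h2]), Finset.sum_pair h3, add_assoc]

/-- A value at an element of order three that is conjugate to its inverse. -/
theorem exists_int_three {A : Type u} [Group A] [Fintype A] (χ : IrrCharacter A) {t : A}
    (ht : orderOf t = 3) (hc : IsConj t t⁻¹) {d : ℕ} (hd : (χ : A → ℂ) 1 = d) :
    ∃ k : ℤ, (χ : A → ℂ) t = k ∧ (3 : ℤ) ∣ k - d := by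
  obtain ⟨n, hn⟩ := exists_int_sum (Subgroup.zpowers t).subtype χ
  rw [sum_zpowers_three ht, Nat.card_zpowers, ht] at hn
  simp only [Subgroup.coe_subtype, OneMemClass.coe_one, InvMemClass.coe_inv, hd,
    ← classFunction_eq_of_isConj (irr_isClassFunction χ) hc] at hn
  obtain ⟨k, hk, hk2⟩ := exists_int_of_mul (isIntegral_irr χ t) (a := 3 * (n : ℤ) - d) two_ne_zero
    (by push_cast at hn ⊢; linear_combination hn)
  exact ⟨k, hk, by omega⟩

/-- The sum over the translates of an element of order three by a four-group. -/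
theorem four_congr {A : Type u} [Group A] [Fintype A] (χ : IrrCharacter A) {z e t : A}
    (hz : orderOf z = 2) (he : orderOf e = 2) (ht : orderOf t = 3) (hze : Commute z e)
    (hzt : Commute z t) (het : Commute e t)
    (h1 : (χ : A → ℂ) t⁻¹ = (χ : A → ℂ) t) (h2 : (χ : A → ℂ) (z * t⁻¹) = (χ : A → ℂ) (z * t))
    (h3 : (χ : A → ℂ) (e * t⁻¹) = (χ : A → ℂ) (e * t))
    (h4 : (χ : A → ℂ) (z * e * t⁻¹) = (χ : A → ℂ) (z * e * t)) :
    ∃ k : ℤ, (χ : A → ℂ) t + (χ : A → ℂ) (z * t) + (χ : A → ℂ) (e * t) + (χ : A → ℂ) (z * e * t) =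
      4 * k := by
  obtain ⟨hz1, hzu⟩ := univ_zpowers_two hz
  obtain ⟨he1, heu⟩ := univ_zpowers_two he
  set V := Subgroup.zpowers z × Subgroup.zpowers e
  let φV : V →* A := (Subgroup.zpowers z).subtype.noncommCoprod (Subgroup.zpowers e).subtype
    fun a b => by
      obtain ⟨i, hi⟩ := Subgroup.mem_zpowers_iff.1 a.2
      obtain ⟨j, hj⟩ := Subgroup.mem_zpowers_iff.1 b.2
      show Commute (a : A) (b : A)
      rw [← hi, ← hj]
      exact (hze.zpow_left i).zpow_right j
  let φ : V × Subgroup.zpowers t →* A := φV.noncommCoprod (Subgroup.zpowers t).subtype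
    fun a b => by
      obtain ⟨i, hi⟩ := Subgroup.mem_zpowers_iff.1 a.1.2
      obtain ⟨j, hj⟩ := Subgroup.mem_zpowers_iff.1 a.2.2
      obtain ⟨l, hl⟩ := Subgroup.mem_zpowers_iff.1 b.2
      show Commute ((a.1 : A) * (a.2 : A)) (b : A)
      rw [← hi, ← hj, ← hl]
      exact Commute.mul_left ((hzt.zpow_left i).zpow_right l) ((het.zpow_left j).zpow_right l)
  have hφ : ∀ (a : Subgroup.zpowers z) (b : Subgroup.zpowers e) (w : Subgroup.zpowers t),
      φ ((a, b), w) = (a : A) * (b : A) * (w : A) := fun _ _ _ => rfl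
  have hφV : ∀ (a : Subgroup.zpowers z) (b : Subgroup.zpowers e),
      φV (a, b) = (a : A) * (b : A) := fun _ _ => rfl
  obtain ⟨n', hn'⟩ := exists_int_sum φV χ
  haveI : Nontrivial (Subgroup.zpowers t) := by
    refine Finite.one_lt_card_iff_nontrivial.1 ?_
    rw [Nat.card_zpowers, ht]; norm_num
  haveI : IsMulCommutative (Subgroup.zpowers t) := inferInstance
  obtain ⟨l, hl⟩ := Chars17.exists_nontrivial_irr (G := Subgroup.zpowers t)
  have hl1 : (l : Subgroup.zpowers t → ℂ) 1 = 1 := CharIto.degree_one_of_comm l.2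
  set s : Subgroup.zpowers t := ⟨t, Subgroup.mem_zpowers t⟩
  have hlsum : conj ((l : Subgroup.zpowers t → ℂ) s) + conj ((l : Subgroup.zpowers t → ℂ) s⁻¹) = -1 := by
    have h := classInner_irr (principalIrr (Subgroup.zpowers t)) l
    rw [if_neg (Ne.symm hl), classInner, sum_zpowers_three ht] at h
    simp only [principalIrr_apply, one_mul, hl1, map_one, mul_eq_zero, inv_eq_zero,
      Nat.cast_eq_zero, Nat.card_pos.ne', false_or] at h
    linear_combination h
  obtain ⟨nω, hnω⟩ := classInner_char_nat (CharGalois.isCharacter_comp (irr_isCharacter χ) φ)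
    (CharGalois.isCharacter_comp (irr_isCharacter l) (MonoidHom.snd V (Subgroup.zpowers t)))
  rw [classInner, inv_mul_eq_iff_eq_mul₀ (Nat.cast_ne_zero.2 Nat.card_pos.ne'), Fintype.sum_prod_type,
    Nat.card_prod, Nat.card_prod, Nat.card_zpowers, Nat.card_zpowers, Nat.card_zpowers, hz, he, ht]
    at hnω
  simp only [sum_zpowers_three ht, MonoidHom.coe_snd] at hnω
  rw [Fintype.sum_prod_type, hzu, Finset.sum_pair hz1, heu, Finset.sum_pair he1,
    Finset.sum_pair he1] at hnω hn'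
  rw [Nat.card_prod, Nat.card_zpowers, Nat.card_zpowers, hz, he] at hn'
  simp only [hφ, hφV, OneMemClass.coe_one,
    InvMemClass.coe_inv, one_mul, mul_one, hl1, map_one, h1, h2, h3, h4, s] at hnω hn'
  refine ⟨(n' : ℤ) - 3 * nω, ?_⟩
  push_cast at hnω hn' ⊢
  linear_combination -hnω + hn' +
    ((χ : A → ℂ) t + (χ : A → ℂ) (z * t) + (χ : A → ℂ) (e * t) + (χ : A → ℂ) (z * e * t)) * hlsum

/-! ### The group `SL₂(5)` -/

theorem isConj_three {x y : SL5} (hx : orderOf x = 3) (hy : orderOf y = 3) : IsConj x y := by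
  have hns : ∀ w : SL5, orderOf w = 3 → ∀ s : ZMod 5, w.1 ≠ s • 1 := by
    intro w hw s hs
    rcases CfsgLib.SL2Tori.scalar_cases hs with e | e
    · rw [show w = 1 from Subtype.ext e, orderOf_one] at hw
      omega
    · have h2 : w ^ 2 = 1 := by
        rw [show w = -1 from Subtype.ext (by simpa using e), neg_one_sq]
      have := Nat.le_of_dvd two_pos (orderOf_dvd_of_pow_eq_one h2)
      omega
  refine SpecLin.SLTwo.isConj_of_trace_eq (Or.inr ?_) (hns x hx) (hns y hy)
    ((trace_neg_one hx).trans (trace_neg_one hy).symm)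
  rw [trace_neg_one hx]; decide

/-- The family of degree four takes the value one at the elements of order three. -/
theorem exists_family_five : ∃ Y : Finset (IrrCharacter SL5), Y.card = 2 ∧ IsFam 5 (-1) Y ∧
    ∀ ξ ∈ Y, ∀ x : SL5, orderOf x = 3 → (ξ : SL5 → ℂ) x = 1 := by
  obtain ⟨Y, hY, hY'⟩ := exists_family (p := 5) (by norm_num) (-1) (Or.inr rfl)
  refine ⟨Y, ?_, fun ξ hξ => ?_, fun ξ hξ x hx => ?_⟩
  · rw [show ((5 : ℕ) : ℤ) - (-1) = 6 by norm_num, show (6 : ℤ).natAbs = 2 * 3 from rfl,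
      Nat.factorization_mul two_ne_zero (by norm_num), Finsupp.add_apply,
      Nat.prime_two.factorization_self,
      Nat.factorization_eq_zero_of_not_dvd (by norm_num : ¬ 2 ∣ 3)] at hY
    omega
  · obtain ⟨h1, h2, t, -, ht, hi, l, hl, hk, hv⟩ := hY' ξ hξ
    exact ⟨by rw [h1]; push_cast; ring, h2, t, ht, hi, l, hl, hk, hv⟩
  obtain ⟨h1, -, t, hto, httr, hi, l, hl, ⟨k, hk, hlk⟩, hv⟩ := hY' ξ hξ
  have ht : orderOf t = 3 := by
    have h6 : Nat.card (Subgroup.centralizer ({t} : Set SL5)) = 6 := by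
      have h := (Subgroup.centralizer ({t} : Set SL5)).card_mul_index
      have hi' : (Subgroup.centralizer ({t} : Set SL5)).index = 20 := by
        have : ((Subgroup.centralizer ({t} : Set SL5)).index : ℤ) = 20 := by rw [hi]; norm_num
        exact_mod_cast this
      rw [hi', SpecLin.SLTwo.card_sl_two, ZMod.card] at h
      omega
    have hd : orderOf t ∣ 6 := h6 ▸ Subgroup.orderOf_dvd_natCard _ (Subgroup.mem_centralizer_singleton_iff.2 rfl)
    have hne : orderOf t ≠ 1 := fun e => httr (by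
      rw [orderOf_eq_one_iff.1 e, Matrix.SpecialLinearGroup.coe_one, Matrix.trace_one, Fintype.card_fin]
      norm_num)
    have := Nat.odd_iff.1 hto
    have := Nat.le_of_dvd (by norm_num) hd
    interval_cases h : orderOf t <;> omega
  obtain ⟨n, hn, hn3⟩ := exists_int_three ξ ht (isConj_three ht (by rw [orderOf_inv, ht])) (d := 4)
    (by rw [h1]; push_cast; norm_num)
  rw [classFunction_eq_of_isConj (irr_isClassFunction ξ) (isConj_three hx ht), hn]
  rw [hn] at hv
  push_cast at hv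
  have hlu : ‖l‖ = 1 := Complex.norm_eq_one_of_pow_eq_one hlk hk.pos.ne'
  have hbound : |(n : ℝ)| ≤ 2 := by
    calc |(n : ℝ)| = ‖((n : ℂ))‖ := by rw [Complex.norm_intCast]
      _ ≤ ‖l‖ + ‖l⁻¹‖ := by
          rw [hv, show (-1 : ℂ) * (l + l⁻¹) = -(l + l⁻¹) by ring, norm_neg]
          exact norm_add_le _ _
      _ = 2 := by rw [norm_inv, hlu]; norm_num
  have hb := abs_le.1 hbound
  have hb1 : n ≤ 2 := by exact_mod_cast hb.2
  have hb2 : -2 ≤ n := by exact_mod_cast hb.1
  have hne : n ≠ -2 := fun e => hl (by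
    have hl0 : l ≠ 0 := fun h => by rw [h, _root_.norm_zero] at hlu; exact one_ne_zero hlu.symm
    rw [e] at hv
    field_simp at hv
    push_cast at hv
    exact sub_eq_zero.1 (mul_self_eq_zero.1 (show (l - 1) * (l - 1) = 0 by linear_combination hv)))
  obtain rfl : n = 1 := by omega
  exact Int.cast_one

/-! ### The context -/

variable {G : Type u} [Group G] [Fintype G] (X : Ctx G 5 2) {M : Ideal AlgInt}

/-- The relation on the columns of the involution centraliser. -/
theorem comb_zero_C (hM : IsPModular 2 M) {u : SL5} (hu : orderOf u = 5) {v x : X.C}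
    (hv : X.π v = X.Q.emb u) (hx : orderOf (X.π x) = 3) {χ : IrrCharacter X.C}
    (hχ : χ ∈ principalBlock M X.C) :
    ∑ i, ((![1, -6, 5] i : ℝ) : ℂ) * (χ : X.C → ℂ) (![1, v, x] i) = 0 := by
  obtain ⟨ξx, hξx⟩ := X.Q.odd_mem (x := X.π x) (by rw [hx]; decide)
  have hox : orderOf ξx = 3 := by rw [← orderOf_injective X.Q.emb X.Q.inj, hξx, hx]
  obtain ⟨Y, hYc, hY, hY3⟩ := exists_family_five
  let g : Fin 3 → ↥X.C ⧸ Cfsg.oddCore ↥X.C := ![1, X.π v, X.π x]
  let c : Fin 3 → ℝ := ![1, -6, 5]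
  let f : IrrCharacter (↥X.C ⧸ Cfsg.oddCore ↥X.C) → ℝ := fun ψ =>
    ‖∑ i, (c i : ℂ) * (ψ : ↥X.C ⧸ Cfsg.oddCore ↥X.C → ℂ) (g i)‖ ^ 2
  have hog : ∀ i, orderOf (g i) = ![1, 5, 3] i := by
    intro i
    fin_cases i
    · exact orderOf_one
    · show orderOf (X.π v) = 5
      rw [hv, orderOf_injective X.Q.emb X.Q.inj, hu]
    · exact hx
  have hg : ∀ i j, i ≠ j → ¬ IsConj (g i) (g j) := by
    intro i j hij h
    obtain ⟨w, hw⟩ := isConj_iff.1 h
    have e : orderOf (g i) = orderOf (g j) := by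
      rw [← hw, show w * g i * w⁻¹ = MulAut.conj w (g i) from rfl, MulEquiv.orderOf_eq]
    rw [hog, hog] at e
    revert e hij
    fin_cases i <;> fin_cases j <;> simp
  have htot : ∑ ψ, f ψ = 900 := by
    rw [sum_comb_norm g hg c, Fin.sum_univ_three]
    have e0 : Nat.card (Subgroup.centralizer ({g 0} : Set (↥X.C ⧸ Cfsg.oddCore ↥X.C))) = 240 := by
      rw [show g 0 = 1 from rfl, show Subgroup.centralizer ({(1 : ↥X.C ⧸ Cfsg.oddCore ↥X.C)} : Set _) = ⊤
        from eq_top_iff.2 fun y _ => Subgroup.mem_centralizer_singleton_iff.2 (by rw [mul_one, one_mul]),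
        Subgroup.card_top, X.Q.card]
      all_goals norm_num
    have e1 : Nat.card (Subgroup.centralizer ({g 1} : Set (↥X.C ⧸ Cfsg.oddCore ↥X.C))) = 10 := by
      rw [show g 1 = X.Q.emb u from hv, X.Q.card_centralizer_p hu]
    have e2 : Nat.card (Subgroup.centralizer ({g 2} : Set (↥X.C ⧸ Cfsg.oddCore ↥X.C))) = 12 :=
      (centralizer_three X hx).1
    rw [e0, e1, e2]
    simp [c]; norm_num
  have hover : ∀ ψ ∈ X.Q.liesOver Y, f ψ * 16 =
      225 * ‖(ψ : ↥X.C ⧸ Cfsg.oddCore ↥X.C → ℂ) 1‖ ^ 2 := by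
    intro ψ hψ
    obtain ⟨-, ξ, hξ, hne⟩ := Finset.mem_filter.1 hψ
    obtain ⟨K, -, hres⟩ := X.Q.exists_res hne
    obtain ⟨h1, h5, -⟩ := hY ξ hξ
    have hsame : ∀ w w' : SL5, IsConj (X.Q.emb w) (X.Q.emb w') → orderOf w' = orderOf w := by
      intro w w' h
      obtain ⟨d, hd⟩ := isConj_iff.1 h
      rw [← orderOf_injective X.Q.emb X.Q.inj, ← hd,
        show d * X.Q.emb w * d⁻¹ = MulAut.conj d (X.Q.emb w) from rfl, MulEquiv.orderOf_eq,
        orderOf_injective X.Q.emb X.Q.inj]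
    have a1 := hres 1 fun x' hx' => by
      rw [orderOf_eq_one_iff.1 ((hsame 1 x' hx').trans orderOf_one)]
    have a5 := hres u fun x' hx' => by rw [h5 x' ((hsame u x' hx').trans hu), h5 u hu]
    have a3 := hres ξx fun x' hx' => by
      rw [hY3 ξ hξ x' ((hsame ξx x' hx').trans hox), hY3 ξ hξ ξx hox]
    rw [map_one, h1] at a1
    rw [h5 u hu, ← hv] at a5
    rw [hY3 ξ hξ ξx hox, hξx] at a3
    simp only [f, g, c, Fin.sum_univ_three, Matrix.cons_val_zero, Matrix.cons_val_one,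
      Matrix.cons_val_two, Matrix.cons_val, Matrix.tail_cons, Matrix.head_cons, a1, a5, a3]
    push_cast
    norm_num only
    rw [show (1 : ℂ) * ((K : ℂ) * 4) + -6 * ((K : ℂ) * -1) + 5 * ((K : ℂ) * 1) =
      ((15 * K : ℕ) : ℂ) by push_cast; ring, show (K : ℂ) * 4 = ((4 * K : ℕ) : ℂ) by
        push_cast; ring, Complex.norm_natCast, Complex.norm_natCast]
    push_cast
    ring
  have hlow : 900 ≤ ∑ ψ ∈ X.Q.liesOver Y, f ψ := by
    have h := X.Q.card_over_le (δ := -1) (by norm_num) hY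
    have h' : (∑ ψ ∈ X.Q.liesOver Y, f ψ) * 16 =
        225 * ∑ ψ ∈ X.Q.liesOver Y, ‖(ψ : ↥X.C ⧸ Cfsg.oddCore ↥X.C → ℂ) 1‖ ^ 2 := by
      rw [Finset.sum_mul, Finset.mul_sum]; exact Finset.sum_congr rfl hover
    rw [hYc] at h
    norm_num at h
    linarith
  have hzero : ∀ ψ, ψ ∉ X.Q.liesOver Y → f ψ = 0 := by
    intro ψ hψ
    have h := Finset.sum_le_sum_of_subset_of_nonneg (f := f) (Finset.subset_univ
      (insert ψ (X.Q.liesOver Y))) fun ψ' _ _ => sq_nonneg _
    rw [Finset.sum_insert hψ, htot] at h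
    have : 0 ≤ f ψ := sq_nonneg _
    linarith
  obtain ⟨ψ, hψ, e⟩ := PF.Nine.exists_descend X.π X.π_surjective χ.2 fun y hy =>
    principalBlock_kernel hM hχ (fun e => (Nat.not_even_iff_odd.2 X.ker_odd) (even_iff_two_dvd.2 e))
      (MonoidHom.mem_ker.2 hy)
  have hnot : (⟨ψ, hψ⟩ : IrrCharacter (↥X.C ⧸ Cfsg.oddCore ↥X.C)) ∉ X.Q.liesOver Y := fun h =>
    X.Q.over_notMem X.π X.π_surjective X.ker_odd hM (Or.inr rfl) hY h hχ e
  have h0 := hzero _ hnot
  simp only [f, sq_eq_zero_iff, norm_eq_zero] at h0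
  rw [← h0]
  refine Finset.sum_congr rfl fun i _ => ?_
  fin_cases i <;> simp [g, c, e]

/-- The values at the products of the involution with elements of order three. -/
theorem value_z_three (hM : IsPModular 2 M) (ho : Nat.card X.π.ker = 1) {u : SL5}
    (hu : orderOf u = 5) {v : X.C} (hv : X.π v = X.Q.emb u) (hvo : Odd (orderOf v)) {s : G}
    (hs : orderOf s = 3) (hsC : s ∈ X.C) {χ : IrrCharacter G} (hχ : χ ∈ principalBlock M G) :
    5 * (χ : G → ℂ) (X.z * s) = 6 * (χ : G → ℂ) (X.z * (v : G)) - (χ : G → ℂ) X.z := by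
  haveI : Fact (Nat.Prime 2) := ⟨Nat.prime_two⟩
  have hx : orderOf (X.π ⟨s, hsC⟩) = 3 := by
    rw [orderOf_injective X.π (π_injective X ho), Subgroup.orderOf_mk, hs]
  have h := section_comb_zero hM X.hz_pow ![1, v, ⟨s, hsC⟩] (fun i => ?_) ![1, -6, 5]
    (fun χ' hχ' => comb_zero_C X hM hu hv hx hχ') hχ
  · simp [Fin.sum_univ_three] at h
    linear_combination h
  · fin_cases i
    · simp
    · exact fun e => (Nat.not_even_iff_odd.2 hvo) (even_iff_two_dvd.2 e)
    · show ¬ 2 ∣ orderOf (⟨s, hsC⟩ : X.C)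
      rw [Subgroup.orderOf_mk, hs]; norm_num

/-- The case `p = 5` does not occur. -/
theorem no_five (ho : Nat.card X.π.ker = 1) (hG : Nat.card G = 85680) (hM : IsPModular 2 M)
    {u : SL5} (hu : orderOf u = 5) {v : X.C} (hv : X.π v = X.Q.emb u) (hvo : Odd (orderOf v))
    (χ χ' : IrrCharacter G) (hχ : χ ∈ principalBlock M G) (hχ' : χ' ∈ principalBlock M G)
    (h1 : (χ : G → ℂ) 1 = 35) (hz : (χ : G → ℂ) X.z = -5)
    (hzv : (χ : G → ℂ) (X.z * (v : G)) = 0) (h1' : (χ' : G → ℂ) 1 = 34)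
    (hz' : (χ' : G → ℂ) X.z = -6) (hzv' : (χ' : G → ℂ) (X.z * (v : G)) = -1) : False := by
  obtain ⟨t, e, -, ht, htC, he, hez, heC, het, -, -, h36⟩ := local_three X ho hG
  -- all translates by involutions have the same value
  have key : ∀ {ψ : IrrCharacter G}, ψ ∈ principalBlock M G → ∀ {c : ℂ},
      6 * (ψ : G → ℂ) (X.z * (v : G)) - (ψ : G → ℂ) X.z = 5 * c →
      ∀ {a s : G}, orderOf a = 2 → orderOf s = 3 → Commute a s → (ψ : G → ℂ) (a * s) = c := by
    intro ψ hψ c hc a s ha hs has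
    obtain ⟨g, hg⟩ := involution_conj X ho ha
    have hsC : g * s * g⁻¹ ∈ X.C := Subgroup.mem_centralizer_singleton_iff.2 (by
      show g * s * g⁻¹ * X.z = X.z * (g * s * g⁻¹)
      rw [← hg, show g * s * g⁻¹ * (g * a * g⁻¹) = g * (s * a) * g⁻¹ by group, ← has.eq]
      group)
    have h := value_z_three X hM ho hu hv hvo (s := g * s * g⁻¹)
      (by rw [show g * s * g⁻¹ = MulAut.conj g s from rfl, MulEquiv.orderOf_eq, hs]) hsC hψ
    rw [show (ψ : G → ℂ) (a * s) = (ψ : G → ℂ) (X.z * (g * s * g⁻¹)) by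
      rw [← hg, ← irr_isClassFunction ψ (a * s) g]; congr 1; group]
    linear_combination (h + hc) / 5
  -- `t` is conjugate to its inverse
  have hinv : IsConj t t⁻¹ := by
    have hinj := π_injective X ho
    have hd : orderOf (X.π ⟨t, htC⟩) = 3 := by
      rw [orderOf_injective X.π hinj, Subgroup.orderOf_mk, ht]
    obtain ⟨a, ha⟩ := X.Q.odd_mem (x := X.π ⟨t, htC⟩) (by rw [hd]; decide)
    have hoa : orderOf a = 3 := by rw [← orderOf_injective X.Q.emb X.Q.inj, ha, hd]
    obtain ⟨w, hw⟩ := isConj_iff.1 (X.Q.emb.map_isConj (isConj_three hoa (by rw [orderOf_inv, hoa] :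
      orderOf a⁻¹ = 3)))
    obtain ⟨g, rfl⟩ := X.π_surjective w
    rw [map_inv, ha, ← map_inv, ← map_mul, ← map_inv, ← map_mul] at hw
    exact isConj_iff.2 ⟨g, congrArg Subtype.val (hinj hw)⟩
  have htinv : orderOf t⁻¹ = 3 := by rw [orderOf_inv, ht]
  have hzt : Commute X.z t := (Subgroup.mem_centralizer_singleton_iff.1 htC).symm
  have hze : Commute X.z e := (Subgroup.mem_centralizer_singleton_iff.1 heC).symm
  have hze2 : orderOf (X.z * e) = 2 := by
    refine orderOf_eq_prime ?_ fun h => hez ?_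
    · rw [hze.mul_pow, orderOf_dvd_iff_pow_eq_one.1 (dvd_of_eq X.z_two),
        orderOf_dvd_iff_pow_eq_one.1 (dvd_of_eq he), mul_one]
    · have hzz : X.z * X.z = 1 := by
        rw [← pow_two]; exact orderOf_dvd_iff_pow_eq_one.1 (dvd_of_eq X.z_two)
      rw [eq_inv_of_mul_eq_one_right h, inv_eq_of_mul_eq_one_right hzz]
  -- the congruence at `t`
  have main : ∀ {ψ : IrrCharacter G}, ψ ∈ principalBlock M G → ∀ {d : ℕ} {c : ℤ},
      (ψ : G → ℂ) 1 = d → 6 * (ψ : G → ℂ) (X.z * (v : G)) - (ψ : G → ℂ) X.z = 5 * (c : ℂ) →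
      ∃ k : ℤ, (ψ : G → ℂ) t = k ∧ (3 : ℤ) ∣ k - d ∧ (4 : ℤ) ∣ k + 3 * c := by
    intro ψ hψ d c hd hc
    obtain ⟨k, hk, hk3⟩ := exists_int_three ψ ht hinv hd
    refine ⟨k, hk, hk3, ?_⟩
    have kz := @key ψ hψ (c : ℂ) hc
    obtain ⟨j, hj⟩ := four_congr ψ X.z_two he ht hze hzt het
      (classFunction_eq_of_isConj (irr_isClassFunction ψ) hinv).symm
      (by rw [kz X.z_two htinv hzt.inv_right, kz X.z_two ht hzt])
      (by rw [kz he htinv het.inv_right, kz he ht het])
      (by rw [kz hze2 htinv (hzt.mul_left het).inv_right, kz hze2 ht (hzt.mul_left het)])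
    rw [hk, kz X.z_two ht hzt, kz he ht het, kz hze2 ht (hzt.mul_left het)] at hj
    refine ⟨j, ?_⟩
    apply Int.cast_injective (α := ℂ)
    push_cast
    linear_combination hj
  obtain ⟨k, hk, k3, k4⟩ := main hχ (d := 35) (c := 1) (by rw [h1]; norm_num)
    (by rw [hz, hzv]; norm_num)
  obtain ⟨k', hk', k3', k4'⟩ := main hχ' (d := 34) (c := 0) (by rw [h1']; norm_num)
    (by rw [hz', hzv']; norm_num)
  have hb : 25 ≤ k ^ 2 := by
    have : 5 ≤ k ∨ k ≤ -5 := by omega
    rcases this with h | h <;> nlinarith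
  have hb' : 16 ≤ k' ^ 2 := by
    have : 4 ≤ k' ∨ k' ≤ -4 := by omega
    rcases this with h | h <;> nlinarith
  have horth := sum_comb_norm (fun _ : Unit => t) (fun i j h => absurd (Subsingleton.elim i j) h)
    (fun _ => (1 : ℝ))
  simp only [Fintype.univ_ofSubsingleton, Finset.sum_singleton, Complex.ofReal_one, one_mul,
    one_pow, h36] at horth
  have ne1 : ∀ {ψ : IrrCharacter G} {d : ℕ}, (ψ : G → ℂ) 1 = d → d ≠ 1 → principalIrr G ≠ ψ :=
    fun hd hd1 e => hd1 (by rw [← e, principalIrr_apply] at hd; exact_mod_cast hd.symm)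
  have n1 := @ne1 χ 35 (by rw [h1]; norm_num) (by norm_num)
  have n2 := @ne1 χ' 34 (by rw [h1']; norm_num) (by norm_num)
  have n3 : χ ≠ χ' := fun e => by rw [e, h1'] at h1; norm_num at h1
  have hle := Finset.sum_le_sum_of_subset_of_nonneg
    (f := fun ψ : IrrCharacter G => ‖(ψ : G → ℂ) t‖ ^ 2)
    (Finset.subset_univ ({principalIrr G, χ, χ'} : Finset (IrrCharacter G))) fun _ _ _ => sq_nonneg _
  rw [horth, Finset.sum_insert (by simp [n1, n2]), Finset.sum_pair n3, principalIrr_apply, hk, hk',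
    Complex.norm_intCast, Complex.norm_intCast, sq_abs, sq_abs, norm_one, one_pow] at hle
  have hb_ : (25 : ℝ) ≤ (k : ℝ) ^ 2 := by exact_mod_cast hb
  have hb_' : (16 : ℝ) ≤ (k' : ℝ) ^ 2 := by exact_mod_cast hb'
  push_cast at hle
  linarith

end CfsgLib.SDCyclic
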