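import Cfsg.Agent.Lib.SDCyclic.Ctx
import Cfsg.Agent.Lib.SDCyclic.Count
import Cfsg.Agent.Lib.BSW.ClassSum
import Cfsg.Agent.Lib.Suborbit3.SDLocal.Fusion

/-!
The structure constant of the involutions, weighted by an exceptional character.
-/

set_option autoImplicit false
set_option linter.unusedSectionVars false
set_option linter.style.haveILetI false

namespace CfsgLib.SDCyclic

open Cfsg CfsgLib.QuatDefect CfsgLib.Characters
open scoped Classical

universe u

variable {G : Type u} [Group G] {S : Sylow 2 G} {m : ℕ} {K : Sd G S m}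

/-- The generators in the normal form of the semidihedral fusion lemmas. -/
theorem sd_form [Finite G] (K : Sd G S m) :
    CfsgLib.TwoGroups.SD.SD (S : Subgroup G) (2 ^ (m - 2)) ⟨K.qd.σ, K.qd.σ_mem⟩
      ⟨K.qd.τ, K.qd.τ_mem⟩ := by
  have h4 : 2 ^ m = 4 * 2 ^ (m - 2) := by
    rw [show (4 : ℕ) = 2 ^ 2 from rfl, ← pow_add, Nat.add_sub_cancel' K.two_le]
  refine ⟨⟨m - 2, rfl⟩, ?_, ?_, ?_, ?_, fun g => ?_, ?_⟩
  · rw [Subgroup.orderOf_mk, K.qd.ord, h4]; ring
  · rw [Subgroup.orderOf_mk]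
    refine orderOf_eq_prime (by rw [pow_two]; exact K.τ_sq) fun h => K.qd.notMem ?_
    rw [h]; exact one_mem _
  · refine Subtype.ext ?_
    push_cast
    rw [K.qd.rel, K.a_eq]
    congr 1
    have h4' : ((2 ^ m : ℕ) : ℤ) = 4 * (2 ^ (m - 2) : ℕ) := by exact_mod_cast h4
    push_cast at h4' ⊢
    linarith
  · rw [K.qd.card, h4]; ring
  · obtain ⟨s, hs | hs⟩ := K.qd.exists_elem g.2
    · exact ⟨(s.val : ℕ), Or.inl (Subtype.ext (by rw [hs, QD.rot, zpow_natCast, Subgroup.coe_pow]))⟩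
    · exact ⟨(s.val : ℕ), Or.inr (Subtype.ext (by rw [hs, QD.rot, zpow_natCast, Subgroup.coe_mul, Subgroup.coe_pow]))⟩
  · intro h
    obtain ⟨k, hk⟩ := h
    exact K.qd.notMem ⟨k, by simpa using congrArg Subtype.val hk⟩

/-- All involutions are conjugate to the central involution of the Sylow subgroup. -/
theorem isConj_z [Finite G] [IsSimpleGroup G] (K : Sd G S m) {a : G} (ha : orderOf a = 2) :
    IsConj K.qd.z a := by
  have h := Suborbit3.SDLocal.isConj_J (sd_form K) (a := a)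
    (by rw [← pow_two, ← ha, pow_orderOf_eq_one]) (fun h => by rw [h, orderOf_one] at ha; omega)
  have hJ : Suborbit3.SDLocal.J (2 ^ (m - 2)) (⟨K.qd.σ, K.qd.σ_mem⟩ : (S : Subgroup G)) =
      K.qd.z := by
    rw [QD.z, QD.rot_natCast, Suborbit3.SDLocal.J]
    push_cast
    rw [← zpow_natCast]
    congr 1
    rw [show (4 : ℤ) = 2 ^ 2 by norm_num, ← pow_add, Nat.add_sub_cancel' K.two_le]
    push_cast
    rfl
  rwa [hJ] at h

theorem filter_orderOf_two [Fintype G] [IsSimpleGroup G] (K : Sd G S m) :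
    Finset.univ.filter (fun g : G => orderOf g = 2) = Finset.univ.filter (IsConj K.qd.z) := by
  ext g
  simp only [Finset.mem_filter, Finset.mem_univ, true_and]
  exact ⟨isConj_z K, fun h => by
    obtain ⟨c, rfl⟩ := isConj_iff.1 h
    rw [← MulAut.conj_apply, MulEquiv.orderOf_eq, K.qd.orderOf_z]⟩

/-- The normaliser of `⟨y⟩` is an extension of the kernel of the retraction by the Sylow
subgroup. -/
theorem card_H [Finite G] (R : Ret K) :
    Nat.card K.qd.H = Nat.card R.π.ker * (4 * 2 ^ m) := by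
  have hr : R.π.range = (S : Subgroup G) := by
    refine le_antisymm ?_ fun g hg => ⟨⟨g, K.qd.D_le hg⟩, R.fix _ hg⟩
    rintro _ ⟨h, rfl⟩
    exact R.mem h
  rw [← R.π.ker.card_mul_index, Subgroup.index_ker, hr, K.qd.card]

theorem sum_even (v : ℕ → ℤ) (hper : ∀ i, v (i + 4) = v i) (F : G → ℂ)
    (hrot : ∀ s, F (K.qd.rot s) = (v s.val : ℂ)) :
    (∑ s ∈ (Finset.univ : Finset (ZMod (2 * 2 ^ m))).filter (fun s => Even s.val),
      F (K.qd.rot s)) = ((2 ^ (m - 1) * (v 0 + v 2) : ℤ) : ℂ) := by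
  haveI : NeZero (2 * 2 ^ m) := ⟨by positivity⟩
  rw [Finset.sum_filter]
  have h := sum_zmod (m := m) (fun i => if i % 2 = 0 then v i else 0)
    (fun i => by simp [hper, Nat.add_mod]) K.two_le
  simp only [Nat.zero_mod, if_pos, one_ne_zero, if_false, Nat.mod_self,
    show (3 : ℕ) % 2 = 1 from rfl, add_zero] at h
  rw [← h, Int.cast_sum]
  refine Finset.sum_congr rfl fun s _ => ?_
  rw [hrot]
  simp only [Nat.even_iff]
  split_ifs <;> simp

theorem sum_even_theta :
    (∑ s ∈ (Finset.univ : Finset (ZMod (2 * 2 ^ m))).filter (fun s => Even s.val),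
      thetaFun K (K.qd.rot s)) = ((2 ^ (m + 1) : ℕ) : ℂ) := by
  rw [sum_even vTheta vTheta_add (thetaFun K) (thetaFun_rot K)]
  have h : (2 : ℤ) ^ (m - 1) * (vTheta 0 + vTheta 2) = 2 ^ (m + 1) := by
    rw [show vTheta 0 + vTheta 2 = 2 ^ 2 from rfl, ← pow_add]
    congr 1
    have := K.two_le
    omega
  rw [h]
  push_cast
  rfl

theorem sum_even_zero :
    (∑ s ∈ (Finset.univ : Finset (ZMod (2 * 2 ^ m))).filter (fun s => Even s.val),
      thetaZero K (K.qd.rot s)) = 0 := by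
  rw [sum_even vZero vZero_add (thetaZero K) (thetaZero_rot K),
    show vZero 0 + vZero 2 = 0 from rfl, mul_zero, Int.cast_zero]

namespace Ctx

variable [Fintype G] {p : ℕ} [Fact p.Prime] (X : Ctx G p m)

/-- The structure constant in terms of the coefficients of an exceptional character. -/
theorem struct_eq (R : Ret X.K) {f : G → ℂ} (hf : RotFun X.K f) {ι : Type} [Fintype ι]
    (χ : ι → IrrCharacter G) (a : ι → ℂ)
    (hθ : indRot R f = fun g => ∑ i, a i * (χ i : G → ℂ) g) :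
    (Nat.card G : ℂ) * (Nat.card R.π.ker : ℂ) * 4 *
        ∑ i, a i * ((χ i : G → ℂ) X.z ^ 2 / (χ i : G → ℂ) 1) =
      (Nat.card X.C : ℂ) ^ 2 * (kj R : ℂ) ^ 2 *
        ∑ s ∈ (Finset.univ : Finset (ZMod (2 * 2 ^ m))).filter (fun s => Even s.val),
          f (X.K.qd.rot s) := by
  haveI := X.simple
  have hmain := class_product_sum R hf
  have hind : indFun X.K.qd.H (fun h => f (R.π h)) = indRot R f := rfl
  rw [hind, hθ, filter_orderOf_two X.K] at hmain
  set k : ℂ := (Nat.card {x : G // IsConj X.z x} : ℂ) with hk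
  have hlhs : (∑ x ∈ Finset.univ.filter (IsConj X.K.qd.z),
      ∑ y ∈ Finset.univ.filter (IsConj X.K.qd.z), ∑ i, a i * (χ i : G → ℂ) (x * y)) =
      k ^ 2 * ∑ i, a i * ((χ i : G → ℂ) X.z ^ 2 / (χ i : G → ℂ) 1) := by
    rw [Finset.sum_congr rfl fun x _ => Finset.sum_comm, Finset.sum_comm, Finset.mul_sum]
    refine Finset.sum_congr rfl fun i _ => ?_
    simp only [← Finset.mul_sum]
    rw [BSW.sum_class_product, mul_left_comm]
  rw [hlhs, card_H R] at hmain
  have hkC : k * (Nat.card X.C : ℂ) = (Nat.card G : ℂ) := by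
    rw [hk, ← Nat.cast_mul, card_isConj_mul_card_centralizer]
  have hG : (Nat.card G : ℂ) ≠ 0 := Nat.cast_ne_zero.2 Nat.card_pos.ne'
  have h2 : (2 : ℂ) ^ m ≠ 0 := pow_ne_zero _ two_ne_zero
  push_cast at hmain
  refine mul_left_cancel₀ h2 (mul_left_cancel₀ hG ?_)
  linear_combination (Nat.card X.C : ℂ) ^ 2 * hmain -
    ((Nat.card R.π.ker : ℂ) * 4 * 2 ^ m *
      (∑ i, a i * ((χ i : G → ℂ) X.z ^ 2 / (χ i : G → ℂ) 1)) *
        (k * (Nat.card X.C : ℂ) + (Nat.card G : ℂ))) * hkC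

end Ctx

end CfsgLib.SDCyclic
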