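import Cfsg.Agent.Lib.SDCyclic.Columns
import Cfsg.Agent.Lib.SDCyclic.Five
import Cfsg.Agent.Lib.SDCyclic.Count

/-!
The valuations of the orders of the groups of the semidihedral gap.
-/

set_option autoImplicit false
set_option linter.unusedSectionVars false
set_option linter.style.haveILetI false
set_option maxHeartbeats 800000

namespace CfsgLib.SDCyclic

open Cfsg CfsgLib.QuatDefect Subgroup
open scoped Classical commutatorElement

universe u

namespace Ctx

variable {G : Type u} [Group G] [Fintype G] {p m : ℕ} [Fact p.Prime] (X : Ctx G p m)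

theorem natAbs_q_one : 2 * (X.q + 1).natAbs =
    Nat.card (centralizer ({X.Q.qd.y} : Set (↥X.C ⧸ Cfsg.oddCore ↥X.C))) := by
  rw [X.Q.card_centralizer_y]
  have := (Fact.out : p.Prime).two_le
  rcases X.q_cases with ⟨h, e⟩ | ⟨h, e⟩
  · rw [if_pos h, e]; omega
  · rw [if_neg (by omega), e]; omega

theorem two_elt_core {g : ↥X.C} (hk : g ∈ X.π.ker) {k : ℕ} (h2 : g ^ 2 ^ k = 1) : g = 1 := by
  rw [← orderOf_eq_one_iff]
  exact Nat.eq_one_of_dvd_coprimes (Nat.Coprime.pow_left k (Nat.coprime_two_left.2 X.odd_core))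
    (orderOf_dvd_of_pow_eq_one h2) (Subgroup.orderOf_dvd_natCard X.π.ker hk)

theorem QD_sq_gen {a : G} (ha : a ∈ (X.S : Subgroup G)) (h4 : orderOf a = 4) : a * a = X.z := by
  have hne : a * a ≠ 1 := fun e => by
    have := Nat.le_of_dvd two_pos (orderOf_dvd_of_pow_eq_one (by rw [pow_two, e]) : orderOf a ∣ 2)
    omega
  obtain ⟨s, rfl | rfl⟩ := X.K.qd.exists_elem ha
  · have h : X.K.qd.rot (4 * s) = 1 := by rw [← QD.rot_pow_four, ← h4, pow_orderOf_eq_one]
    rw [QD.rot_eq_one_iff] at h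
    rw [← QD.rot_add] at hne ⊢
    rcases QD.two_torsion (s := s + s) (by rw [← h]; ring) with e | e
    · exact absurd (by rw [e, QD.rot_zero]) hne
    · rw [e]; rfl
  · exact (X.K.qd.sq_outside s).resolve_left hne

theorem z_mem : X.z ∈ X.C := X.syl_le X.K.qd.z_mem

theorem π_z' : X.π ⟨X.z, X.z_mem⟩ = X.Q.zD := by
  have hy : X.K.qd.y ∈ X.C := X.y_mem_C
  rw [show (⟨X.z, X.z_mem⟩ : ↥X.C) = ⟨X.K.qd.y, hy⟩ * ⟨X.K.qd.y, hy⟩ from Subtype.ext (QD.z_eq_y_sq X.K.qd),
    map_mul, X.π_y, X.Q.y_sq]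

/-- Lifting elements that commute with the image of `y`. -/
theorem exists_lift_comm {d : ↥X.C ⧸ Cfsg.oddCore ↥X.C} (hd : d * X.Q.qd.y = X.Q.qd.y * d) :
    ∃ c : ↥X.C, X.π c = d ∧ (c : G) * X.K.qd.y = X.K.qd.y * c := by
  haveI : Fact (Nat.Prime 2) := ⟨Nat.prime_two⟩
  set y : ↥X.C := ⟨X.K.qd.y, X.y_mem_C⟩
  set P := zpowers y
  have hP : IsPGroup 2 P := (X.S.2.to_le (show zpowers X.K.qd.y ≤ (X.S : Subgroup G) from
    zpowers_le.2 (X.K.qd.rot_mem _))).of_injective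
    ((X.C.subtype.comp P.subtype).codRestrict (zpowers X.K.qd.y) fun a => by
      obtain ⟨i, hi⟩ := mem_zpowers_iff.1 a.2
      exact mem_zpowers_iff.2 ⟨i, by rw [← SetLike.coe_eq_coe, coe_zpow] at hi; exact hi⟩)
    fun a b e => Subtype.ext (Subtype.ext (congrArg (fun t : zpowers X.K.qd.y => (t : G)) e :))
  set F := {c : ↥X.C // X.π c = d}
  have hfix : ∀ a : P, X.π a * d * (X.π a)⁻¹ = d := fun a => by
    obtain ⟨i, hi⟩ := mem_zpowers_iff.1 a.2
    rw [mul_inv_eq_iff_eq_mul, ← hi, map_zpow, X.π_y]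
    exact ((show Commute d X.Q.qd.y from hd).zpow_right i).symm
  let act : MulAction P F :=
    { smul := fun a c => ⟨(a : ↥X.C) * c.1 * (a : ↥X.C)⁻¹, by
        rw [map_mul, map_mul, map_inv, c.2, hfix]⟩
      one_smul := fun c => Subtype.ext (show (1 : ↥X.C) * c.1 * (1 : ↥X.C)⁻¹ = c.1 by group)
      mul_smul := fun a b c => Subtype.ext (show ((a : ↥X.C) * b) * c.1 * ((a : ↥X.C) * b)⁻¹ =
        (a : ↥X.C) * ((b : ↥X.C) * c.1 * (b : ↥X.C)⁻¹) * (a : ↥X.C)⁻¹ by group) }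
  obtain ⟨c0, hc0⟩ := X.π_surjective d
  have hF : Nat.card F = Nat.card X.π.ker := Nat.card_congr
    { toFun := fun c => ⟨c0⁻¹ * c.1, by rw [MonoidHom.mem_ker, map_mul, map_inv, hc0, c.2, inv_mul_cancel]⟩
      invFun := fun o => ⟨c0 * o.1, by rw [map_mul, hc0, MonoidHom.mem_ker.1 o.2, mul_one]⟩
      left_inv := fun c => Subtype.ext (mul_inv_cancel_left _ _)
      right_inv := fun o => Subtype.ext (inv_mul_cancel_left _ _) }
  obtain ⟨⟨c, hc⟩, hcfix⟩ := hP.nonempty_fixed_point_of_prime_not_dvd_card F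
    (by rw [hF]; exact fun h => (Nat.not_even_iff_odd.2 X.odd_core) (even_iff_two_dvd.2 h))
  refine ⟨c, hc, ?_⟩
  have h := mul_inv_eq_iff_eq_mul.1 (congrArg Subtype.val (hcfix ⟨y, mem_zpowers y⟩))
  exact (congrArg (Subtype.val : ↥X.C → G) h).symm

theorem mem_commutator_y : X.Q.qd.y ∈ commutator (↥X.C ⧸ Cfsg.oddCore ↥X.C) := by
  obtain ⟨k, rfl⟩ : ∃ k, m = k + 2 := ⟨m - 2, by have := X.Q.two_le; omega⟩
  set s : ZMod (2 * 2 ^ (k + 2)) := -((2 ^ k : ℕ) : ZMod (2 * 2 ^ (k + 2))) * (1 + (2 ^ (k + 1) : ℕ))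
  have h : ⁅X.Q.qd.τ, X.Q.qd.rot s⁆ = X.Q.qd.y := by
    rw [commutatorElement_def, QD.τ_conj, mul_inv_eq_iff_eq_mul, QD.y, ← QD.rot_add]
    congr 1
    have h0 : ((2 * 2 ^ (k + 2) : ℕ) : ZMod (2 * 2 ^ (k + 2))) = 0 := ZMod.natCast_self _
    rw [X.Q.a_eq, show k + 2 - 1 = k + 1 by omega]
    simp only [s]
    push_cast at h0 ⊢
    simp only [pow_succ] at h0 ⊢
    linear_combination (-((2 : ZMod _) ^ k) ^ 2) * h0
  rw [← h, _root_.commutator_def]
  exact commutator_mem_commutator (mem_top _) (mem_top _)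

/-- The centraliser of an element of prime order in the core covers the derived group. -/
theorem commutator_le_map {r : ℕ} [Fact r.Prime] (hr : r ≠ 2) {y : ↥X.C} (hyO : y ∈ X.π.ker)
    (hy : orderOf y = r) :
    commutator (↥X.C ⧸ Cfsg.oddCore ↥X.C) ≤ (centralizer ({y} : Set ↥X.C)).map X.π := by
  have hrp : r.Prime := Fact.out
  obtain ⟨P, hP⟩ := (IsPGroup.of_card (p := r) (G := zpowers (⟨y, hyO⟩ : X.π.ker)) (n := 1)
    (by rw [Nat.card_zpowers, Subgroup.orderOf_mk, hy, pow_one])).exists_le_sylow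
  set Q : Subgroup ↥X.C := (P : Subgroup X.π.ker).map X.π.ker.subtype with hQ
  obtain ⟨R, hR⟩ := ((P.2.map X.π.ker.subtype).map X.C.subtype).exists_le_sylow
  haveI := X.cyc r hrp hr R
  haveI : IsCyclic (Q.map X.C.subtype) := Subgroup.isCyclic_of_le hR
  have hQc : IsCyclic Q := isCyclic_of_surjective
    (Q.equivMapOfInjective X.C.subtype X.C.subtype_injective).symm (MulEquiv.surjective _)
  have hyQ : zpowers y ≤ Q := zpowers_le.2 ⟨_, hP (mem_zpowers _), rfl⟩
  set N := normalizer ((zpowers y : Subgroup ↥X.C) : Set ↥X.C)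
  have htop : N.map X.π = ⊤ := by
    refine (eq_top_iff' _).2 fun d => ?_
    obtain ⟨c, rfl⟩ := X.π_surjective d
    have h1 : c ∈ normalizer (Q : Set ↥X.C) ⊔ X.π.ker := by
      rw [hQ, Sylow.normalizer_sup_eq_top P]; exact mem_top c
    obtain ⟨a, ha, b, hb, rfl⟩ := (mem_sup_of_normal_right).1 h1
    exact ⟨a, normalizer_le_of_cyclic hQc hyQ ha, by
      rw [map_mul, MonoidHom.mem_ker.1 hb, mul_one]⟩
  rw [_root_.commutator_def, commutator_le]
  intro u _ v _
  obtain ⟨a, ha, rfl⟩ := htop.ge (mem_top u)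
  obtain ⟨b, hb, rfl⟩ := htop.ge (mem_top v)
  refine ⟨⁅a, b⁆, mem_centralizer_singleton_iff.2 (mul_inv_eq_iff_eq_mul.1 ?_), by
    rw [map_commutatorElement]⟩
  obtain ⟨i, hi⟩ := mem_zpowers_iff.1 ((mem_normalizer_iff.1 ha y).1 (mem_zpowers y))
  obtain ⟨j, hj⟩ := mem_zpowers_iff.1 ((mem_normalizer_iff.1 hb y).1 (mem_zpowers y))
  have e1 : (a * b) * y * (a * b)⁻¹ = y ^ (i * j) := by
    calc (a * b) * y * (a * b)⁻¹ = a * (b * y * b⁻¹) * a⁻¹ := by group
      _ = _ := by rw [← hj, ← conj_zpow, ← hi, zpow_mul]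
  have e2 : (b * a) * y * (b * a)⁻¹ = y ^ (i * j) := by
    calc (b * a) * y * (b * a)⁻¹ = b * (a * y * a⁻¹) * b⁻¹ := by group
      _ = _ := by rw [← hi, ← conj_zpow, ← hj, ← zpow_mul, mul_comm]
  calc ⁅a, b⁆ * y * ⁅a, b⁆⁻¹
      = (a * b) * ((b * a)⁻¹ * y * (b * a)) * (a * b)⁻¹ := by rw [commutatorElement_def]; group
    _ = _ := ?_
  obtain ⟨i', hi'⟩ := mem_zpowers_iff.1 ((mem_normalizer_iff.1
    (inv_mem (mul_mem hb ha)) y).1 (mem_zpowers y))
  rw [inv_inv] at hi'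
  rw [← hi', ← conj_zpow, e1, ← e2, conj_zpow, hi']
  group

/-- An element of odd prime order in the core commutes with some square root of `z`. -/
theorem exists_root' {r : ℕ} [Fact r.Prime] (hr : r ≠ 2) {y : ↥X.C} (hyO : y ∈ X.π.ker)
    (hy : orderOf y = r) : ∃ w : G, w * y = y * w ∧ w * w = X.z := by
  obtain ⟨c, hc, hcy⟩ := X.commutator_le_map hr hyO hy X.mem_commutator_y
  have hc4 : c ^ 4 ∈ X.π.ker := by
    rw [MonoidHom.mem_ker, map_pow, hcy]
    exact orderOf_dvd_iff_pow_eq_one.1 (dvd_of_eq X.Q.orderOf_y)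
  set j := orderOf (c ^ 4) with hj
  obtain ⟨l, hl⟩ : Odd j := X.odd_core.of_dvd_nat (Subgroup.orderOf_dvd_natCard X.π.ker hc4)
  have hw4 : (c ^ j) ^ 4 = 1 := by
    rw [← pow_mul, mul_comm, pow_mul, hj, pow_orderOf_eq_one]
  have hz2 : (⟨X.z, X.z_mem⟩ : ↥X.C) ^ 2 = 1 := Subtype.ext X.z_sq
  have hzc : Commute (c ^ j * c ^ j) (⟨X.z, X.z_mem⟩ : ↥X.C) :=
    Subtype.ext (mem_centralizer_singleton_iff.1 (c ^ j * c ^ j : ↥X.C).2)
  have h1 : c ^ j * c ^ j * ⟨X.z, X.z_mem⟩ = 1 := by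
    refine X.two_elt_core (k := 1) ?_ ?_
    · rw [MonoidHom.mem_ker, map_mul, X.π_z', ← pow_add, map_pow, hcy,
        show j + j = 4 * l + 2 by omega, pow_add, pow_mul,
        orderOf_dvd_iff_pow_eq_one.1 (dvd_of_eq X.Q.orderOf_y), one_pow, one_mul, pow_two, X.Q.y_sq,
        ← pow_two]
      exact orderOf_dvd_iff_pow_eq_one.1 (dvd_of_eq X.Q.orderOf_zD)
    · rw [pow_one, hzc.mul_pow, hz2, mul_one, ← pow_two, ← pow_mul, hw4]
  refine ⟨(c ^ j : ↥X.C), congrArg Subtype.val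
    ((Commute.pow_left (mem_centralizer_singleton_iff.1 hc) j).eq), ?_⟩
  have h2 : c ^ j * c ^ j = ⟨X.z, X.z_mem⟩ := by
    rw [eq_inv_of_mul_eq_one_left h1]
    exact inv_eq_of_mul_eq_one_right (by rw [← pow_two]; exact hz2)
  exact congrArg Subtype.val h2

theorem exists_pow_prime_order {A : Type u} [Group A] [Finite A] {r : ℕ} {c : A} (h : r ∣ orderOf c) :
    ∃ k : ℕ, orderOf (c ^ k) = r :=
  ⟨orderOf c / r, by
    have hc := orderOf_pos c
    have hk : orderOf c / r ∣ orderOf c := Nat.div_dvd_of_dvd h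
    have hk0 : orderOf c / r ≠ 0 := (Nat.pos_of_dvd_of_pos hk hc).ne'
    rw [orderOf_pow_of_dvd hk0 hk, Nat.div_div_self h hc.ne']⟩

theorem val_G {r : ℕ} (hr : r.Prime) (h2 : r ≠ 2) (h : r ∣ (X.q + 1).natAbs ∨ r = p) :
    (Nat.card G).factorization r = (Nat.card X.C).factorization r := by
  haveI : Fact r.Prime := ⟨hr⟩
  haveI : Fact (Nat.Prime 2) := ⟨Nat.prime_two⟩
  have fin : ∀ {y : G}, orderOf y = r → y * X.z = X.z * y →
      ((∃ w, w * y = y * w ∧ w * w = X.z) ∨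
        (∀ w, w * y = y * w → w * X.z = X.z * w → (∃ k, orderOf w = 2 ^ k) → w ∈ zpowers X.z)) →
      (Nat.card G).factorization r = (Nat.card X.C).factorization r := fun hy hz hT =>
    order_eq X.S X.K.qd.orderOf_z X.K.qd.z_mem X.syl_le (fun _ ha h4 => X.QD_sq_gen ha h4) h2
      (X.cyc r hr h2) hy hz hT
  rcases h with h | rfl
  · obtain ⟨d, hd⟩ := exists_prime_orderOf_dvd_card'
      (G := centralizer ({X.Q.qd.y} : Set (↥X.C ⧸ Cfsg.oddCore ↥X.C))) r
      (by rw [← X.natAbs_q_one]; exact dvd_mul_of_dvd_right h _)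
    obtain ⟨c, hc, hcy⟩ := X.exists_lift_comm (mem_centralizer_singleton_iff.1 d.2)
    obtain ⟨k, hk⟩ := exists_pow_prime_order (c := c) (r := r) (by
      rw [← hd, ← orderOf_coe, ← hc]; exact orderOf_map_dvd X.π c)
    refine fin (y := ((c ^ k : ↥X.C) : G)) (by rw [orderOf_coe, hk])
      (mem_centralizer_singleton_iff.1 (c ^ k).2) (Or.inl ⟨X.K.qd.y, ?_, (QD.z_eq_y_sq X.K.qd).symm⟩)
    rw [SubmonoidClass.coe_pow]
    exact ((show Commute X.K.qd.y (c : G) from hcy.symm).pow_right k).eq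
  · obtain ⟨c, hc⟩ := exists_prime_orderOf_dvd_card' (G := X.C) r (by
      rw [X.card_C]; exact dvd_mul_of_dvd_right (dvd_mul_of_dvd_right (dvd_mul_right _ _) _) _)
    refine fin (y := (c : G)) (by rw [orderOf_coe, hc]) (mem_centralizer_singleton_iff.1 c.2) ?_
    by_cases hk : c ∈ X.π.ker
    · exact Or.inl (X.exists_root' h2 hk hc)
    right
    intro w hwc hwz hw2
    have hπc : orderOf (X.π c) = r :=
      ((Nat.dvd_prime hr).1 ((orderOf_map_dvd X.π c).trans (dvd_of_eq hc))).resolve_left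
        fun e => hk (MonoidHom.mem_ker.2 (orderOf_eq_one_iff.1 e))
    obtain ⟨u, hu⟩ := X.Q.odd_mem (x := X.π c) (by rw [hπc]; exact hr.odd_of_ne_two h2)
    have hou : orderOf u = r := by rw [← orderOf_injective X.Q.emb X.Q.inj, hu, hπc]
    set w' : ↥X.C := ⟨w, mem_centralizer_singleton_iff.2 hwz⟩ with hw'
    obtain ⟨k, hw2⟩ := hw2
    have hwk : w' ^ 2 ^ k = 1 := Subtype.ext (by
      rw [SubmonoidClass.coe_pow, ← hw2]; exact pow_orderOf_eq_one w)
    have hmem : X.π w' ∈ centralizer ({X.π c} : Set (↥X.C ⧸ Cfsg.oddCore ↥X.C)) := by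
      refine mem_centralizer_singleton_iff.2 ?_
      rw [← map_mul, ← map_mul]
      exact congrArg X.π (Subtype.ext hwc)
    have hcard : Nat.card (centralizer ({X.π c} : Set (↥X.C ⧸ Cfsg.oddCore ↥X.C))) = 2 * r := by
      rw [← hu, X.Q.card_centralizer_p hou]
    have hd2 : X.π w' * X.π w' = 1 := by
      rw [← pow_two]
      refine orderOf_dvd_iff_pow_eq_one.1 (Nat.Coprime.dvd_of_dvd_mul_right ?_
        (hcard ▸ Subgroup.orderOf_dvd_natCard _ hmem))
      obtain ⟨i, -, hi⟩ := (Nat.dvd_prime_pow Nat.prime_two).1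
        (show orderOf (X.π w') ∣ 2 ^ k from orderOf_dvd_of_pow_eq_one (by rw [← map_pow, hwk, map_one]))
      rw [hi]
      exact Nat.Coprime.pow_left i (Nat.coprime_two_left.2 (hr.odd_of_ne_two h2))
    have hcases : X.π w' = 1 ∨ X.π w' = X.Q.zD := by
      refine or_iff_not_imp_left.2 fun hne => X.Q.eq_zD ?_ hd2 hne
      -- the centraliser is cyclic, inside `L`
      have hcm : Commute X.Q.zD (X.π c) := (X.Q.zD_central _).symm
      have ho : orderOf (X.Q.zD * X.π c) = 2 * r := by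
        rw [hcm.orderOf_mul_eq_mul_orderOf_of_coprime
          (by rw [X.Q.orderOf_zD, hπc]; exact Nat.coprime_two_left.2 (hr.odd_of_ne_two h2)),
          X.Q.orderOf_zD, hπc]
      have hT : zpowers (X.Q.zD * X.π c) =
          centralizer ({X.π c} : Set (↥X.C ⧸ Cfsg.oddCore ↥X.C)) := by
        refine eq_of_le_of_card_ge (zpowers_le.2 (mem_centralizer_singleton_iff.2 ?_)) ?_
        · exact (hcm.mul_left (Commute.refl _)).eq
        · rw [Nat.card_zpowers, ho, hcard]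
      exact zpowers_le.2 (X.Q.L.mul_mem X.Q.zD_mem ⟨u, hu⟩) (hT.ge hmem)
    rcases hcases with e | e
    · have : w' = 1 := X.two_elt_core (MonoidHom.mem_ker.2 e) hwk
      rw [show w = 1 from congrArg Subtype.val this]; exact one_mem _
    · have hcz : Commute w' (⟨X.z, X.z_mem⟩ : ↥X.C) := Subtype.ext hwz
      have hz2 : (⟨X.z, X.z_mem⟩ : ↥X.C) ^ 2 = 1 := Subtype.ext X.z_sq
      have h1 : w' * ⟨X.z, X.z_mem⟩ = 1 := by
        refine X.two_elt_core (k := k + 1) ?_ ?_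
        · rw [MonoidHom.mem_ker, map_mul, e, X.π_z', ← pow_two]
          exact orderOf_dvd_iff_pow_eq_one.1 (dvd_of_eq X.Q.orderOf_zD)
        · rw [hcz.mul_pow, pow_succ, pow_mul, hwk, one_pow, one_mul, ← pow_succ, pow_succ', pow_mul,
            hz2, one_pow]
      have := congrArg Subtype.val (eq_inv_of_mul_eq_one_left h1)
      rw [show w = X.z⁻¹ from this]
      exact inv_mem (mem_zpowers _)

theorem val_C_p : (Nat.card X.C).factorization p = 1 + (Nat.card X.π.ker).factorization p := by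
  have hp := (Fact.out : p.Prime)
  have hp2 := hp.two_le
  have hpo := X.p_odd
  have hsq : ¬ p ∣ p ^ 2 - 1 := fun h => by
    have h4 : 1 ≤ p ^ 2 := Nat.one_le_pow _ _ hp.pos
    have := Nat.dvd_sub (dvd_pow_self p two_ne_zero) h
    rw [Nat.sub_sub_self h4] at this
    exact hp.ne_one (Nat.dvd_one.1 this)
  have hne := X.Q.card_pos'.ne'
  have hne' : p ^ 2 - 1 ≠ 0 := fun e => hne (by rw [e, mul_zero])
  rw [X.card_C, Nat.factorization_mul Nat.card_pos.ne' (Nat.mul_ne_zero two_ne_zero hne),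
    Finsupp.add_apply, Nat.factorization_mul two_ne_zero hne, Finsupp.add_apply,
    Nat.factorization_mul hp.ne_zero hne', Finsupp.add_apply, hp.factorization_self,
    Nat.factorization_eq_zero_of_not_dvd hsq,
    Nat.factorization_eq_zero_of_not_dvd (n := 2) (fun h => by have := Nat.le_of_dvd two_pos h; omega)]
  omega

/-- The map on the kernel of a retraction. -/
def rmap (R : Ret X.K) : ↥(X.rker R) →* ↥X.C ⧸ Cfsg.oddCore ↥X.C :=
  X.π.comp (inclusion (X.rker_le R))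

theorem rmap_range_le (R : Ret X.K) :
    (X.rmap R).range ≤ centralizer ({X.Q.qd.y} : Set (↥X.C ⧸ Cfsg.oddCore ↥X.C)) := by
  rintro _ ⟨x, rfl⟩
  refine mem_centralizer_singleton_iff.2 ?_
  show X.π (inclusion (X.rker_le R) x) * _ = _ * X.π (inclusion (X.rker_le R) x)
  rw [← X.π_y X.y_mem_C, ← map_mul, ← map_mul]
  exact congrArg X.π (Subtype.ext (X.rker_y x.2))

theorem rmap_card (R : Ret X.K) : Nat.card R.π.ker =
    Nat.card (X.rmap R).ker * Nat.card (X.rmap R).range := by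
  rw [← X.card_rker R, ← (X.rmap R).ker.card_mul_index, index_ker]

theorem rmap_ker_dvd (R : Ret X.K) : Nat.card (X.rmap R).ker ∣ Nat.card X.π.ker := by
  rw [← card_map_of_injective (K := (X.rmap R).ker) (inclusion_injective (X.rker_le R))]
  exact card_dvd_of_le (by rintro _ ⟨a, ha, rfl⟩; exact ha)

theorem val_ker_p (R : Ret X.K) :
    (Nat.card R.π.ker).factorization p ≤ (Nat.card X.π.ker).factorization p := by
  have hp := (Fact.out : p.Prime)
  have h1 := card_dvd_of_le (X.rmap_range_le R)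
  rw [← X.natAbs_q_one] at h1
  have h0 : ¬ p ∣ Nat.card (X.rmap R).range := fun h => by
    rcases (Nat.Prime.dvd_mul hp).1 (h.trans h1) with h' | h'
    · exact X.Q.p_ne ((Nat.prime_dvd_prime_iff_eq hp Nat.prime_two).1 h')
    · have h'' : (p : ℤ) ∣ X.q + 1 := Int.natCast_dvd.2 h'
      rcases X.q_cases with ⟨-, e⟩ | ⟨-, e⟩
      · rw [e] at h''
        exact hp.ne_one (Nat.dvd_one.1 (by exact_mod_cast (dvd_add_right (dvd_refl _)).1 h''))
      · rw [e] at h''
        exact hp.ne_one (Nat.dvd_one.1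
          (by exact_mod_cast (dvd_add_right ((dvd_refl (p : ℤ)).neg_right)).1 h''))
  rw [X.rmap_card R, Nat.factorization_mul Nat.card_pos.ne' Nat.card_pos.ne', Finsupp.add_apply,
    Nat.factorization_eq_zero_of_not_dvd h0, add_zero]
  exact (Nat.factorization_le_iff_dvd Nat.card_pos.ne' Nat.card_pos.ne').2 (X.rmap_ker_dvd R) p

theorem mem_rker_of_odd (R : Ret X.K) {x : G} (hxy : x * X.K.qd.y = X.K.qd.y * x)
    (hodd : Odd (orderOf x)) : x ∈ X.rker R := by
  haveI : Fact (Nat.Prime 2) := ⟨Nat.prime_two⟩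
  set h : X.K.qd.H := ⟨x, X.K.qd.centralizer_y_le (mem_centralizer_singleton_iff.2 hxy)⟩
  refine ⟨h, MonoidHom.mem_ker.2 ?_, rfl⟩
  obtain ⟨k, hk⟩ := IsPGroup.iff_orderOf.1 X.S.2 (⟨R.π h, R.mem h⟩ : (X.S : Subgroup G))
  rw [Subgroup.orderOf_mk] at hk
  have hd : orderOf (R.π h) ∣ orderOf h := orderOf_map_dvd R.π h
  rw [hk, ← orderOf_coe] at hd
  rcases k with _ | k
  · rwa [pow_zero, orderOf_eq_one_iff] at hk
  · exact absurd ((dvd_pow_self 2 k.succ_ne_zero).trans hd)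
      (fun e => (Nat.not_even_iff_odd.2 hodd) (even_iff_two_dvd.2 e))

theorem val_kj (R : Ret X.K) {r : ℕ} (hr : r.Prime) (h2 : r ≠ 2) :
    (X.q + 1).natAbs.factorization r ≤ (kj R).factorization r := by
  haveI : Fact r.Prime := ⟨hr⟩
  haveI : Fact (Nat.Prime 2) := ⟨Nat.prime_two⟩
  set T := centralizer ({X.Q.qd.y} : Set (↥X.C ⧸ Cfsg.oddCore ↥X.C))
  -- the Sylow subgroup of the centraliser is in the range
  obtain ⟨P⟩ : Nonempty (Sylow r T) := inferInstance
  have hle : (P : Subgroup T).map T.subtype ≤ (X.rmap R).range := by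
    rintro _ ⟨d, hd, rfl⟩
    obtain ⟨c, hc, hcy⟩ := X.exists_lift_comm (mem_centralizer_singleton_iff.1 d.2)
    obtain ⟨k, hk⟩ := IsPGroup.iff_orderOf.1 P.2 ⟨d, hd⟩
    rw [Subgroup.orderOf_mk, ← orderOf_coe] at hk
    -- the odd part of the lift
    set a := (orderOf c).factorization 2
    have hodd : Odd (orderOf (c ^ 2 ^ a)) := by
      rw [orderOf_pow_of_dvd (pow_ne_zero _ two_ne_zero) (Nat.ordProj_dvd _ 2), Nat.odd_iff]
      have := Nat.not_dvd_ordCompl Nat.prime_two (orderOf_pos c).ne'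
      omega
    have hmem : (((c ^ 2 ^ a : ↥X.C)) : G) ∈ X.rker R := by
      refine X.mem_rker_of_odd R ?_ (by rw [orderOf_coe]; exact hodd)
      rw [SubmonoidClass.coe_pow]
      exact ((show Commute (c : G) X.K.qd.y from hcy).pow_left _).eq
    have hgen : (d : ↥X.C ⧸ Cfsg.oddCore ↥X.C) ∈ zpowers (X.π (c ^ 2 ^ a)) := by
      rw [map_pow, hc]
      obtain ⟨i, hi⟩ := exists_pow_eq_self_of_coprime (x := (d : ↥X.C ⧸ Cfsg.oddCore ↥X.C))
        (show Nat.Coprime (2 ^ a) (orderOf (d : ↥X.C ⧸ Cfsg.oddCore ↥X.C)) by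
          rw [hk]; exact Nat.Coprime.pow _ _ (Nat.coprime_two_left.2 (hr.odd_of_ne_two h2)))
      exact mem_zpowers_iff.2 ⟨i, by rw [zpow_natCast]; exact hi⟩
    refine zpowers_le.2 ?_ hgen
    exact ⟨⟨_, hmem⟩, rfl⟩
  have hPr : r ^ (Nat.card T).factorization r ∣ Nat.card (X.rmap R).range := by
    rw [← P.card_eq_multiplicity, ← card_map_of_injective T.subtype_injective]
    exact card_dvd_of_le hle
  have hTq : (Nat.card T).factorization r = (X.q + 1).natAbs.factorization r := by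
    have hne : (X.q + 1).natAbs ≠ 0 := Int.natAbs_ne_zero.2 (show X.q + 1 ≠ 0 from fun e => by have := X.natAbs_q; have := (Fact.out : p.Prime).two_le; omega)
    rw [← X.natAbs_q_one, Nat.factorization_mul two_ne_zero hne, Finsupp.add_apply,
      Nat.factorization_eq_zero_of_not_dvd (n := 2) (fun h => h2
        ((Nat.prime_dvd_prime_iff_eq hr Nat.prime_two).1 h)), zero_add]
  rw [hTq, hr.pow_dvd_iff_le_factorization Nat.card_pos.ne'] at hPr
  -- the fixed points of `τ` lie in the kernel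
  have hfix : Nat.card {h : R.π.ker // ((h : X.K.qd.H) : G) * X.K.qd.τ =
      X.K.qd.τ * ((h : X.K.qd.H) : G)} ≤ Nat.card (X.rmap R).ker ∧
      Nat.card {h : R.π.ker // ((h : X.K.qd.H) : G) * X.K.qd.τ =
        X.K.qd.τ * ((h : X.K.qd.H) : G)} ∣ Nat.card (X.rmap R).ker := by
    set T' : Subgroup ↥(X.rker R) := (centralizer ({X.K.qd.τ} : Set G)).subgroupOf (X.rker R)
    have hT' : T' ≤ (X.rmap R).ker := by
      rintro ⟨x, hx⟩ hxτ
      rw [mem_subgroupOf, mem_centralizer_singleton_iff] at hxτ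
      rw [MonoidHom.mem_ker]
      set d := X.rmap R ⟨x, hx⟩
      have hd : Odd (orderOf d) := by
        refine Odd.of_dvd_nat (R.ker_odd) ?_
        rw [← X.card_rker R]
        exact (orderOf_map_dvd _ _).trans (orderOf_dvd_natCard _)
      have hinv := X.Q.τ_inverts hd (mem_centralizer_singleton_iff.1 (X.rmap_range_le R ⟨_, rfl⟩))
      have hcomm : X.Q.qd.τ * d * X.Q.qd.τ⁻¹ = d := by
        rw [mul_inv_eq_iff_eq_mul, ← X.mk_τ X.τ_mem_C]
        show X.π ⟨_, X.τ_mem_C⟩ * X.π (inclusion (X.rker_le R) ⟨x, hx⟩) =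
          X.π (inclusion (X.rker_le R) ⟨x, hx⟩) * X.π ⟨_, X.τ_mem_C⟩
        rw [← map_mul, ← map_mul]
        exact congrArg X.π (Subtype.ext hxτ.symm)
      rw [hcomm] at hinv
      rw [← orderOf_eq_one_iff]
      exact Nat.eq_one_of_dvd_coprimes (Nat.coprime_two_left.2 hd)
        (orderOf_dvd_of_pow_eq_one (by rw [pow_two]; nth_rewrite 1 [hinv]; exact inv_mul_cancel d))
        dvd_rfl
    have e : Nat.card {h : R.π.ker // ((h : X.K.qd.H) : G) * X.K.qd.τ =
        X.K.qd.τ * ((h : X.K.qd.H) : G)} = Nat.card T' := by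
      refine Nat.card_eq_of_bijective (fun h => ⟨⟨(h.1.1 : G), mem_map_of_mem X.K.qd.H.subtype h.1.2⟩,
        mem_subgroupOf.2 (mem_centralizer_singleton_iff.2 h.2)⟩) ⟨fun a b e => ?_, ?_⟩
      · exact Subtype.ext (Subtype.ext (Subtype.ext
          (congrArg (fun t : T' => ((t : ↥(X.rker R)) : G)) e)))
      · rintro ⟨⟨x, h, hh, rfl⟩, hc⟩
        exact ⟨⟨⟨h, hh⟩, mem_centralizer_singleton_iff.1 (mem_subgroupOf.1 hc)⟩, rfl⟩
    rw [e]
    exact ⟨Nat.le_of_dvd Nat.card_pos (card_dvd_of_le hT'), card_dvd_of_le hT'⟩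
  have hk := kj_eq R
  rw [X.rmap_card R] at hk
  obtain ⟨-, hdvd⟩ := hfix
  set w := Nat.card {h : R.π.ker // ((h : X.K.qd.H) : G) * X.K.qd.τ =
      X.K.qd.τ * ((h : X.K.qd.H) : G)}
  have hw0 : w ≠ 0 := fun e => by rw [e, mul_zero] at hk; exact (Nat.mul_pos Nat.card_pos Nat.card_pos).ne hk
  have hk0 : kj R ≠ 0 := fun e => by rw [e, zero_mul] at hk; exact (Nat.mul_pos Nat.card_pos Nat.card_pos).ne hk
  have hv := congrArg (fun n => n.factorization r) hk
  simp only [Nat.factorization_mul hk0 hw0, Nat.factorization_mul Nat.card_pos.ne' Nat.card_pos.ne',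
    Finsupp.add_apply] at hv
  have := (Nat.factorization_le_iff_dvd hw0 Nat.card_pos.ne').2 hdvd r
  omega

theorem val_two : (Nat.card G).factorization 2 = m + 2 ∧ (Nat.card X.C).factorization 2 = m + 2 ∧
    (X.q + 1).natAbs.factorization 2 = m := by
  haveI : Fact (Nat.Prime 2) := ⟨Nat.prime_two⟩
  have hv : (Nat.card G).factorization 2 = m + 2 := by
    have h := X.S.card_eq_multiplicity
    rw [X.K.qd.card, show 4 * 2 ^ m = 2 ^ (m + 2) by rw [pow_add]; ring] at h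
    exact (Nat.pow_right_injective le_rfl h).symm
  refine ⟨hv, le_antisymm ?_ ?_, ?_⟩
  · rw [← hv]
    exact (Nat.factorization_le_iff_dvd Nat.card_pos.ne' Nat.card_pos.ne').2
      (card_subgroup_dvd_card X.C) 2
  · rw [← Nat.prime_two.pow_dvd_iff_le_factorization Nat.card_pos.ne',
      show 2 ^ (m + 2) = Nat.card (X.S : Subgroup G) by rw [X.K.qd.card, pow_add]; ring]
    exact card_dvd_of_le X.syl_le
  · rcases X.q_cases with ⟨h, e⟩ | ⟨h, e⟩
    · rw [e, show ((p : ℤ) + 1).natAbs = p + 1 by omega]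
      exact ((X.factorization_near).1 h).2
    · have := (Fact.out : p.Prime).two_le
      rw [e, show (-(p : ℤ) + 1).natAbs = p - 1 by omega]
      exact ((X.factorization_near).2 h).2

theorem ker_dvd (R : Ret X.K) : Nat.card R.π.ker ∣ Nat.card X.C :=
  X.card_rker R ▸ card_dvd_of_le (X.rker_le R)

end Ctx

end CfsgLib.SDCyclic
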