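import Cfsg.Agent.Lib.SDCyclic.Columns
import Cfsg.Agent.Lib.SDCyclic.Vals
import Cfsg.Agent.Lib.SDCyclic.Struct
import Cfsg.Agent.Lib.SDCyclic.EndVals
import Cfsg.Agent.Lib.SDCyclic.Cases
import Cfsg.Agent.Lib.SDCyclic.Last
import Cfsg.Agent.Lib.SDCyclic.Frame
import Cfsg.Agent.Lib.Recog.DegreeMultisetBasic

/-!
No simple group has semidihedral Sylow 2-subgroups and cyclic Sylow subgroups of odd order.
-/

set_option autoImplicit false
set_option linter.unusedSectionVars false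
set_option linter.style.haveILetI false

namespace CfsgLib.SDCyclic

open Cfsg CfsgLib.QuatDefect CfsgLib.Characters CfsgLib.Blocks
open scoped Classical commutatorElement

universe u

theorem sign_mul_div {e : ℤ} (he : e = 1 ∨ e = -1) (a d : ℂ) :
    (e : ℂ) * (a ^ 2 / d) = ((e : ℂ) * a) ^ 2 / ((e : ℂ) * d) := by
  rcases he with rfl | rfl <;> push_cast <;> ring

namespace Ctx

variable {G : Type u} [Group G] [Fintype G] {p m : ℕ} [Fact p.Prime] (X : Ctx G p m)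

include X in
/-- The context is contradictory. -/
theorem false_of_ctx (hnc : ∀ χ : IrrCharacter G, (χ : G → ℂ) 1 = 1 → χ = principalIrr G) : False := by
  haveI := X.simple
  haveI : Fact (Nat.Prime 2) := ⟨Nat.prime_two⟩
  obtain ⟨M, hM⟩ := CfsgLib.BlockCover.exists_isPModular Nat.prime_two
  obtain ⟨R⟩ := exists_ret X.K
  obtain ⟨u, v, hu, hv, hvo⟩ := X.exists_lift_p
  obtain ⟨χ, e, d, -, hχ, hθ, hθ0, hd0odd, -, -, -, hs1, hs2, hcase⟩ :=
    X.exists_cases hnc hM R hu hv hvo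
  have he : ∀ i, e i = 1 ∨ e i = -1 := fun i => (hχ i).2.2.1
  have hd : ∀ i, (χ i : G → ℂ) 1 = d i := fun i => (hχ i).2.2.2
  have hdne : ∀ i, d i ≠ 0 := fun i h => irr_one_ne_zero (χ i) (by rw [hd, h, Nat.cast_zero])
  have hd1 : ∀ i, d i ≠ 1 := fun i h => (hχ i).1 (hnc _ (by rw [hd, h, Nat.cast_one]))
  have hdG : ∀ i, d i ∣ Nat.card G := fun i => by
    obtain ⟨n, hn, -, hnG⟩ := irr_degree_dvd_card (χ i)
    rwa [Nat.cast_inj.1 ((hd i).symm.trans hn)]
  have hene : ∀ i, e i * (d i : ℤ) ≠ 0 := fun i => by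
    have := hdne i
    rcases he i with h | h <;> rw [h] <;> omega
  obtain ⟨hvG, hvC, hvq⟩ := X.val_two
  set oj := Nat.card R.π.ker with hoj
  set C := Nat.card X.C with hC
  set k := kj R with hk
  have hoj0 : oj ≠ 0 := Nat.card_pos.ne'
  have hC0 : C ≠ 0 := Nat.card_pos.ne'
  have hk0 : k ≠ 0 := fun h => by
    have := kj_eq R
    rw [← hk, h, zero_mul] at this
    exact hoj0 this.symm
  have hojo : ¬ 2 ∣ oj := fun h => (Nat.not_even_iff_odd.2 R.ker_odd) (even_iff_two_dvd.2 h)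
  have hm := X.K.two_le
  -- the two equations
  have hA := X.struct_eq R (rotFun_theta X.K) ![principalIrr G, χ 0, χ 1] ![1, (e 0 : ℂ), (e 1 : ℂ)]
    (by rw [hθ]; funext g; simp [Fin.sum_univ_three])
  have hB := X.struct_eq R (rotFun_zero X.K) ![principalIrr G, χ 0, χ 2, χ 3]
    ![1, (e 0 : ℂ), (e 2 : ℂ), (e 3 : ℂ)] (by rw [hθ0]; funext g; simp [Fin.sum_univ_four])
  rw [sum_even_theta, Fin.sum_univ_three] at hA
  rw [sum_even_zero, Fin.sum_univ_four, mul_zero] at hB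
  simp only [Matrix.cons_val_zero, Matrix.cons_val_one, Matrix.cons_val_two, Matrix.cons_val_three,
    Matrix.head_cons, Matrix.tail_cons, Matrix.head_fin_const, Matrix.cons_val,
    principalIrr_apply, one_pow, div_one, one_mul, sign_mul_div (he _), hd, ← hC, ← hk, ← hoj] at hA hB
  obtain ⟨A0, hA0⟩ : ∃ a, e 0 * (d 0 : ℤ) = a := ⟨_, rfl⟩
  obtain ⟨A1, hA1⟩ : ∃ a, e 1 * (d 1 : ℤ) = a := ⟨_, rfl⟩
  obtain ⟨A2, hA2⟩ : ∃ a, e 2 * (d 2 : ℤ) = a := ⟨_, rfl⟩
  obtain ⟨A3, hA3⟩ : ∃ a, e 3 * (d 3 : ℤ) = a := ⟨_, rfl⟩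
  have n0 : A0 ≠ 0 := hA0 ▸ hene 0
  have n1 : A1 ≠ 0 := hA1 ▸ hene 1
  have n2 : A2 ≠ 0 := hA2 ▸ hene 2
  have n3 : A3 ≠ 0 := hA3 ▸ hene 3
  rw [hA0, hA1] at hs1
  rw [hA0, hA2, hA3] at hs2
  have c0 : (e 0 : ℂ) * (d 0 : ℂ) = (A0 : ℂ) := by exact_mod_cast hA0
  have c1 : (e 1 : ℂ) * (d 1 : ℂ) = (A1 : ℂ) := by exact_mod_cast hA1
  have c2 : (e 2 : ℂ) * (d 2 : ℂ) = (A2 : ℂ) := by exact_mod_cast hA2
  have c3 : (e 3 : ℂ) * (d 3 : ℂ) = (A3 : ℂ) := by exact_mod_cast hA3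
  rw [c0, c1] at hA
  rw [c0, c2, c3] at hB
  have n0' : (A0 : ℂ) ≠ 0 := Int.cast_ne_zero.2 n0
  have n1' : (A1 : ℂ) ≠ 0 := Int.cast_ne_zero.2 n1
  have n2' : (A2 : ℂ) ≠ 0 := Int.cast_ne_zero.2 n2
  have n3' : (A3 : ℂ) ≠ 0 := Int.cast_ne_zero.2 n3
  have hpow : (2 : ℂ) ^ (m + 1) = 2 ^ (m - 1) * 4 := by
    rw [show (4 : ℂ) = 2 ^ 2 by norm_num, ← pow_add]; congr 1; omega
  push_cast at hA
  rw [hpow] at hA
  rcases hcase with ⟨x0, x1⟩ | ⟨x0, x1, x2, x3, v0, v1⟩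
  · rw [x0, x1] at hA
    simp only [mul_zero, ne_eq, OfNat.ofNat_ne_zero, not_false_eq_true, zero_pow, zero_div, add_zero] at hA
    field_simp at hA
    refine Arith.no_zero hm Nat.card_pos.ne' hC0 hk0 hoj0 hojo (hdne 1) (hdG 1) (X := A0) ?_ ?_
      hvG hvC ?_
    · rw [show A0 + 1 = -A1 by linarith, abs_neg, ← hA1]
      rcases he 1 with h | h <;> simp [h]
    · rw [← hA0]
      rcases he 0 with h | h <;> rw [h] <;> omega
    · apply Int.cast_injective (α := ℂ)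
      push_cast
      linear_combination hA
  · rw [x0, x1] at hA
    rw [x0, x2, x3] at hB
    have e1 : (A1 : ℂ) = -1 - (A0 : ℂ) := by
      rw [show A1 = -1 - A0 by linarith]; push_cast; ring
    have hne1 : A0 + 1 ≠ 0 := by omega
    have hne1' : -1 - (A0 : ℂ) ≠ 0 := e1 ▸ n1'
    rw [e1] at hA
    field_simp at hA
    have hI : (Nat.card G : ℤ) * (A0 + X.q) ^ 2 * oj =
        ((2 ^ (m - 1) : ℕ) : ℤ) * (C : ℤ) ^ 2 * (k : ℤ) ^ 2 * (A0 * (A0 + 1)) := by
      apply Int.cast_injective (α := ℂ)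
      push_cast
      linear_combination -hA
    have hne : A0 + X.q ≠ 0 := fun h => by
      rw [h, zero_pow two_ne_zero, mul_zero, zero_mul, eq_comm] at hI
      simp [n0, hne1, hC0, hk0] at hI
    have hB' : (1 : ℂ) + (X.q : ℂ) ^ 2 / A0 + (X.q : ℂ) ^ 2 / A2 + 1 / A3 = 0 := by
      rcases mul_eq_zero.1 hB with h | h
      · exact absurd h (by simp [hoj0, Nat.card_pos.ne'])
      · linear_combination h
    field_simp at hB'
    have hB2 : A0 * A2 * A3 + X.q * X.q * (A2 * A3) + X.q * X.q * (A0 * A3) + A0 * A2 = 0 := by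
      apply Int.cast_injective (α := ℂ)
      push_cast
      linear_combination hB'
    have hne02 : A0 + A2 ≠ 0 := fun h => hd1 3 (by
      have h3 : A3 = -1 := by linarith
      rw [← hA3] at h3
      rcases he 3 with h' | h' <;> rw [h'] at h3 <;> omega)
    obtain ⟨hq, hX⟩ := Arith.case_one (Fact.out : p.Prime) X.natAbs_q X.q_mod hm Nat.card_pos.ne' hC0
      hk0 hoj0 hojo (X.ker_dvd R) n0 hne1 hne hI
      (Arith.shifted (by linarith) hne02 hB2) hvG hvC hvq (fun r hr h2 h => X.val_G hr h2 h)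
      (fun r hr h2 => X.val_kj R hr h2) X.val_C_p (X.val_ker_p R)
    obtain rfl : p = 5 := by rw [← X.natAbs_q, hq]; rfl
    obtain rfl : m = 2 := by
      rw [← hvq, hq, show ((-5 : ℤ) + 1).natAbs = 2 ^ 2 from rfl, Nat.prime_two.factorization_pow,
        Finsupp.single_eq_same]
    subst hX
    rw [hq] at hI x0 x1
    obtain ⟨ho, hG⟩ := core_trivial X R (by
      rw [← hoj, ← hC, ← hk]
      zify
      linear_combination hI)
    have t0 : e 0 = -1 ∧ d 0 = 35 := by rcases he 0 with h | h <;> rw [h] at hA0 <;> omega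
    have t1 : e 1 = 1 ∧ d 1 = 34 := by rcases he 1 with h | h <;> rw [h] at hA1 <;> omega
    rw [t0.1] at x0 v0
    rw [t1.1] at x1 v1
    push_cast at x0 x1 v0 v1
    refine no_five X ho hG hM hu hv hvo (χ 0) (χ 1) (hχ 0).2.1 (hχ 1).2.1 ?_ ?_ ?_ ?_ ?_ ?_
    · rw [hd, t0.2]; norm_num
    · linear_combination -x0
    · linear_combination -v0
    · rw [hd, t1.2]; norm_num
    · linear_combination x1
    · linear_combination v1

end Ctx

/-- The gap. -/
theorem no_gap (hGW : CfsgLib.GWCons.RankOneCover.DihedralClassification.{u}) (G : Type u) [Group G]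
    [Finite G] [IsSimpleGroup G] (S : Sylow 2 G) (hS : Cfsg.IsQuasiDihedral ↥(S : Subgroup G))
    (hodd : ∀ r : ℕ, r.Prime → r ≠ 2 → ∀ R : Sylow r G, IsCyclic R) : False := by
  haveI := Fintype.ofFinite G
  obtain ⟨m, p, hp, qd, ha, hτ, hm, Q, hσ', hτ'⟩ := exists_frame hGW S hS hodd
  have hperf : commutator G = ⊤ := by
    refine (IsSimpleGroup.eq_bot_or_eq_top_of_normal _ inferInstance).resolve_left fun h => ?_
    have h1 : ⁅qd.τ, qd.σ⁆ ∈ commutator G :=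
      Subgroup.commutator_mem_commutator (Subgroup.mem_top _) (Subgroup.mem_top _)
    rw [h, Subgroup.mem_bot, commutatorElement_def] at h1
    have h2 := qd.rel
    rw [mul_inv_eq_one.1 h1, ha] at h2
    have hm4 : 4 ≤ 2 ^ m := le_trans (by norm_num) (Nat.pow_le_pow_right two_pos hm)
    have h4 : (4 : ℤ) ≤ 2 ^ m := by exact_mod_cast hm4
    rw [show (2 : ℤ) ^ m - 1 = 2 ^ m - 2 + 1 by ring, zpow_add_one, right_eq_mul] at h2
    have h3 := Int.le_of_dvd (by omega) (orderOf_dvd_iff_zpow_eq_one.2 h2)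
    rw [qd.ord] at h3
    push_cast at h3
    omega
  let X : Ctx G p m := ⟨S, ⟨qd, ha, hτ, hm⟩, inferInstance, hodd, Q, hσ', hτ'⟩
  refine X.false_of_ctx fun χ h1 => CfsgLib.Recog.DegreeMultiset.eq_principal_of_perfect hperf χ ?_
  obtain ⟨n, hn, -, -⟩ := irr_degree_dvd_card χ
  rw [hn] at h1
  simp [charDegree, hn, Nat.cast_eq_one.1 h1]

end CfsgLib.SDCyclic
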