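import Cfsg.Agent.Lib.SDCyclic.SLAut
import Cfsg.Agent.Lib.QuatDefect.Group
import Cfsg.Agent.Lib.SpecLin.SLTwoClassSize
import Cfsg.Agent.Lib.ClassicalGroups.SL2

/-!
Groups with a normal `SL₂(p)` of index two and semidihedral Sylow 2-subgroups.
-/

set_option autoImplicit false
set_option linter.unusedSectionVars false
set_option linter.style.haveILetI false

namespace CfsgLib.SDCyclic

open Matrix CfsgLib.QuatDefect

universe u

variable {p : ℕ} [Fact p.Prime]

local notation "M2" => Matrix (Fin 2) (Fin 2) (ZMod p)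
local notation "SL" => Matrix.SpecialLinearGroup (Fin 2) (ZMod p)

/-- The data of the quotient of an involution centraliser by its odd core. -/
structure Model (D : Type u) [Group D] (p m : ℕ) [Fact p.Prime] where
  /-- the embedding of `SL₂(p)` -/
  emb : Matrix.SpecialLinearGroup (Fin 2) (ZMod p) →* D
  inj : Function.Injective emb
  normal : emb.range.Normal
  /-- a Sylow 2-subgroup -/
  S : Subgroup D
  /-- its semidihedral data -/
  qd : QD S m
  a_eq : qd.a = 2 ^ m - 1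
  τ_sq : qd.τ * qd.τ = 1
  two_le : 2 ≤ m
  p_ne : p ≠ 2
  sylow : (Nat.card D).factorization 2 = m + 2
  card : Nat.card D = 2 * (p * (p ^ 2 - 1))

namespace Model

variable {D : Type u} [Group D] [Finite D] {m : ℕ} (Q : Model D p m)

include Q in
theorem two_ne : (2 : ZMod p) ≠ 0 := fun e => Q.p_ne ((Nat.prime_dvd_prime_iff_eq
  (Fact.out : p.Prime) Nat.prime_two).1 ((CharP.cast_eq_zero_iff (ZMod p) p 2).1 (by exact_mod_cast e)))

include Q in
theorem p_odd : p % 2 = 1 :=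
  Nat.odd_iff.1 ((Fact.out : p.Prime).odd_of_ne_two Q.p_ne)

/-- The normal subgroup. -/
abbrev L : Subgroup D := Q.emb.range

theorem card_L : Nat.card Q.L = p * (p ^ 2 - 1) := by
  rw [← Nat.card_congr (MonoidHom.ofInjective Q.inj).toEquiv, SpecLin.SLTwo.card_sl_two, ZMod.card]

include Q in
theorem card_pos' : 0 < p * (p ^ 2 - 1) := by
  have := (Fact.out : p.Prime).two_le
  have : 4 ≤ p ^ 2 := by nlinarith
  exact Nat.mul_pos (by omega) (by omega)

theorem index_L : Q.L.index = 2 := by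
  have h := Q.L.card_mul_index
  rw [Q.card_L, Q.card, mul_comm 2 (p * (p ^ 2 - 1))] at h
  exact Nat.eq_of_mul_eq_mul_left Q.card_pos' h

theorem mul_mem_iff {a b : D} : a * b ∈ Q.L ↔ (a ∈ Q.L ↔ b ∈ Q.L) :=
  Subgroup.mul_mem_iff_of_index_two Q.index_L

theorem sq_mem (a : D) : a * a ∈ Q.L := Q.mul_mem_iff.2 Iff.rfl

theorem odd_mem {x : D} (hx : Odd (orderOf x)) : x ∈ Q.L := by
  obtain ⟨k, hk⟩ := hx
  have h : x = ((x ^ k) * (x ^ k))⁻¹ := by
    rw [← pow_add]
    refine (inv_eq_of_mul_eq_one_left ?_).symm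
    rw [← pow_succ', show k + k + 1 = orderOf x by omega, pow_orderOf_eq_one]
  rw [h]; exact Q.L.inv_mem (Q.sq_mem _)

/-- The central involution. -/
def zD : D := Q.emb (-1)

theorem zD_mem : Q.zD ∈ Q.L := ⟨_, rfl⟩

theorem orderOf_zD : orderOf Q.zD = 2 := by
  rw [zD, orderOf_injective Q.emb Q.inj]
  exact orderOf_eq_prime (by rw [pow_two]; exact Subtype.ext (by simp))
    (CfsgLib.SL2Char.neg_one_ne_one Q.two_ne)

theorem eq_zD {x : D} (hx : x ∈ Q.L) (h2 : x * x = 1) (h1 : x ≠ 1) : x = Q.zD := by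
  obtain ⟨g, rfl⟩ := hx
  rw [zD, CfsgLib.InvChar.eq_neg_one_of_sq Q.two_ne (g := g) (fun e => h1 (by rw [e, map_one]))
    (Q.inj (by rw [map_mul, h2, map_one]))]

theorem zD_central (c : D) : c * Q.zD = Q.zD * c := by
  refine mul_inv_eq_iff_eq_mul.1 (Q.eq_zD (Q.normal.conj_mem _ Q.zD_mem c) ?_ fun h => ?_)
  · have h := pow_orderOf_eq_one Q.zD
    rw [Q.orderOf_zD, pow_two] at h
    rw [show c * Q.zD * c⁻¹ * (c * Q.zD * c⁻¹) = c * (Q.zD * Q.zD) * c⁻¹ by group, h]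
    group
  · have := Q.orderOf_zD
    rw [conj_eq_one_iff.1 h, orderOf_one] at this
    omega

/-- The Sylow 2-subgroup as such. -/
noncomputable def syl : Sylow 2 D :=
  haveI : Fact (Nat.Prime 2) := ⟨Nat.prime_two⟩
  Sylow.ofCard Q.S (by rw [Q.qd.card, Q.sylow, pow_add]; ring)

theorem exists_conj_le {K : Subgroup D} (hK : IsPGroup 2 K) :
    ∃ g : D, ∀ x ∈ K, g * x * g⁻¹ ∈ Q.S := by
  haveI : Fact (Nat.Prime 2) := ⟨Nat.prime_two⟩
  obtain ⟨P, hP⟩ := hK.exists_le_sylow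
  obtain ⟨g, hg⟩ := MulAction.exists_smul_eq D P Q.syl
  refine ⟨g, fun x hx => ?_⟩
  have : MulAut.conj g • x ∈ ((g • P : Sylow 2 D) : Subgroup D) := by
    rw [Sylow.coe_subgroup_smul]
    exact Subgroup.smul_mem_pointwise_smul _ _ _ (hP hx)
  rw [hg] at this
  exact this

theorem σ_pow : orderOf Q.qd.σ = 2 * 2 ^ m := Q.qd.ord

/-- The rotation subgroup is not inside `L`. -/
theorem σ_notMem : Q.qd.σ ∉ Q.L := by
  intro hσ
  haveI : Fact (Nat.Prime 2) := ⟨Nat.prime_two⟩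
  obtain ⟨K, hK, hnc⟩ := CfsgLib.ClassicalGroups.SL2.exists_pGroup_not_commutative
    (F := ZMod p) Q.two_ne
  obtain ⟨g, hg⟩ := hσ
  have hc : Nat.card (Subgroup.zpowers g) = 2 ^ (m + 1) := by
    rw [Nat.card_zpowers, ← orderOf_injective Q.emb Q.inj, hg, Q.σ_pow, pow_succ']
  have hv : (Nat.card SL).factorization 2 = m + 1 := by
    have h := Q.sylow
    rw [Q.card, Nat.factorization_mul two_ne_zero Q.card_pos'.ne', Finsupp.add_apply,
      Nat.prime_two.factorization_self] at h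
    rw [SpecLin.SLTwo.card_sl_two, ZMod.card]
    omega
  obtain ⟨P, hP⟩ := hK.exists_le_sylow
  let R : Sylow 2 SL := Sylow.ofCard (Subgroup.zpowers g) (by rw [hc, hv])
  haveI : IsCyclic (R : Subgroup SL) := inferInstanceAs (IsCyclic (Subgroup.zpowers g))
  haveI : IsCyclic (P : Subgroup SL) :=
    isCyclic_of_surjective _ (Sylow.equiv R P).surjective
  exact hnc ⟨⟨fun a b => Subtype.ext (show (a : SL) * b = b * a from congrArg Subtype.val
    ((IsCyclic.commGroup (α := (P : Subgroup SL))).mul_comm ⟨a, hP a.2⟩ ⟨b, hP b.2⟩))⟩⟩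

theorem rot_mem_iff (s : ZMod (2 * 2 ^ m)) : Q.qd.rot s ∈ Q.L ↔ Even s.val := by
  rw [QD.rot]
  induction s.val with
  | zero => simp
  | succ k ih => rw [pow_succ, Q.mul_mem_iff, ih, Nat.even_add_one]; simp [Q.σ_notMem]

theorem y_mem : Q.qd.y ∈ Q.L := by
  rw [QD.y, QD.rot_natCast]
  obtain ⟨k, hk⟩ : ∃ k, 2 ^ (m - 1) = k + k :=
    ⟨2 ^ (m - 2), by have := Q.two_le; rw [← two_mul, ← pow_succ']; congr 1; omega⟩
  rw [hk, pow_add]
  exact Q.sq_mem _

theorem z_eq : Q.qd.z = Q.zD := by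
  refine Q.eq_zD ?_ ?_ fun h => ?_
  · rw [QD.z_eq_y_sq]; exact Q.L.mul_mem Q.y_mem Q.y_mem
  · rw [← pow_two, ← Q.qd.orderOf_z, pow_orderOf_eq_one]
  · have := Q.qd.orderOf_z
    rw [h, orderOf_one] at this
    omega

theorem τ_notMem : Q.qd.τ ∉ Q.L := fun h => Q.qd.notMem <| by
  have h1 : Q.qd.τ ≠ 1 := fun e => Q.qd.notMem (e ▸ Subgroup.one_mem _)
  rw [Q.eq_zD h Q.τ_sq h1, ← Q.z_eq]
  exact Q.qd.rot_mem_zpowers _

theorem y_sq : Q.qd.y * Q.qd.y = Q.zD := by rw [← QD.z_eq_y_sq, Q.z_eq]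

theorem orderOf_y : orderOf Q.qd.y = 4 := by
  refine orderOf_eq_prime_pow (p := 2) (n := 1) ?_ ?_
  · intro h
    rw [pow_one, pow_two, Q.y_sq] at h
    have := Q.orderOf_zD
    rw [h, orderOf_one] at this
    omega
  · rw [show 2 ^ (1 + 1) = 2 * 2 from rfl, pow_mul, pow_two Q.qd.y, Q.y_sq, ← Q.orderOf_zD,
      pow_orderOf_eq_one]

/-- An element outside `L` of order dividing four has order dividing two. -/
theorem sq_eq_one_of_notMem {c : D} (hc : c ∉ Q.L) (h4 : c ^ 4 = 1) : c * c = 1 := by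
  haveI : Fact (Nat.Prime 2) := ⟨Nat.prime_two⟩
  obtain ⟨i, -, hi⟩ := (Nat.dvd_prime_pow Nat.prime_two).1
    (show orderOf c ∣ 2 ^ 2 from orderOf_dvd_of_pow_eq_one h4)
  have hp : IsPGroup 2 (Subgroup.zpowers c) := IsPGroup.of_card (n := i) (by rw [Nat.card_zpowers, hi])
  obtain ⟨g, hg⟩ := Q.exists_conj_le hp
  have hnot : g * c * g⁻¹ ∉ Q.L := fun h => hc (by
    have := Q.normal.conj_mem _ h g⁻¹
    simpa [mul_assoc] using this)
  have key : (g * c * g⁻¹) * (g * c * g⁻¹) = 1 := by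
    obtain ⟨s, hs | hs⟩ := Q.qd.exists_elem (hg c (Subgroup.mem_zpowers c))
    · exfalso
      rw [hs, Q.rot_mem_iff] at hnot
      have e : Q.qd.rot s ^ 4 = 1 := by rw [← hs, conj_pow, h4, mul_one, mul_inv_cancel]
      rw [QD.rot_pow_four, QD.rot_eq_one_iff] at e
      refine hnot ((Q.rot_mem_iff s).1 ?_)
      exact Subgroup.zpowers_le.2 Q.y_mem (Q.qd.four_torsion e)
    · rw [hs] at hnot ⊢
      have hev : Even s.val := by
        by_contra h
        refine hnot (Q.mul_mem_iff.2 (iff_of_false (fun h' => h ((Q.rot_mem_iff s).1 h')) Q.τ_notMem))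
      rw [show Q.qd.rot s * Q.qd.τ * (Q.qd.rot s * Q.qd.τ) =
        Q.qd.rot s * (Q.qd.τ * Q.qd.rot s * Q.qd.τ⁻¹) * (Q.qd.τ * Q.qd.τ) by group, QD.τ_conj,
        Q.τ_sq, mul_one, ← QD.rot_add, Q.a_eq, QD.rot_eq_one_iff]
      obtain ⟨r, hr⟩ := hev
      have hs' : s = 2 * (r : ZMod (2 * 2 ^ m)) := by
        haveI : NeZero (2 * 2 ^ m) := ⟨by positivity⟩
        rw [← ZMod.natCast_zmod_val s, hr]; push_cast; ring
      have hz := QD.cast_two_pow_eq_zero (m := m)
      push_cast at hz ⊢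
      rw [hs']
      linear_combination (r : ZMod (2 * 2 ^ m)) * hz
  have := congrArg (fun x => g⁻¹ * x * g) key
  simpa [mul_assoc] using this

/-- The elements centralising `L` lie in it. -/
theorem mem_of_centralizer {c : D} (hc : ∀ x ∈ Q.L, c * x = x * c) : c ∈ Q.L := by
  by_contra hcL
  haveI : Fact (Nat.Prime 2) := ⟨Nat.prime_two⟩
  haveI := Q.normal
  set K : Subgroup D := Subgroup.centralizer (Q.L : Set D)
  have hcK : c ∈ K := Subgroup.mem_centralizer_iff.2 fun x hx => (hc x hx).symm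
  have h4 : ∀ x ∈ K, x ^ 4 = 1 := by
    intro x hx
    have h := Q.sq_mem x
    have hcomm : ∀ y ∈ Q.L, y * x = x * y := Subgroup.mem_centralizer_iff.1 hx
    obtain ⟨g, hg⟩ := h
    have hgc : g ∈ Subgroup.center SL := Subgroup.mem_center_iff.2 fun y => Q.inj (by
      rw [map_mul, map_mul, hg, ← mul_assoc, hcomm _ ⟨y, rfl⟩, mul_assoc, hcomm _ ⟨y, rfl⟩,
        mul_assoc])
    have hg2 : g * g = 1 := by
      rcases CfsgLib.SpecLin.SLTwo.mem_center_iff'.1 hgc with e | e <;>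
        exact Subtype.ext (by simp [e])
    rw [show x ^ 4 = (x * x) * (x * x) by rw [pow_succ, pow_succ, pow_two]; group, ← hg, ← map_mul,
      hg2, map_one]
  obtain ⟨g, hg⟩ := Q.exists_conj_le (K := K) (fun x => ⟨2, Subtype.ext (h4 x x.2)⟩)
  set d := g * c * g⁻¹ with hd
  have hdK : d ∈ K := (Subgroup.Normal.conj_mem inferInstance c hcK g)
  have hdy : d * Q.qd.y = Q.qd.y * d := (Subgroup.mem_centralizer_iff.1 hdK _ Q.y_mem).symm
  have hdL : d ∉ Q.L := fun h => hcL (by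
    have := Q.normal.conj_mem _ h g⁻¹
    simpa [hd, mul_assoc] using this)
  obtain ⟨s, hs | hs⟩ := Q.qd.exists_elem (hg c hcK)
  · have e := h4 d hdK
    rw [hd, hs, QD.rot_pow_four, QD.rot_eq_one_iff] at e
    exact hdL (by rw [hd, hs]; exact Subgroup.zpowers_le.2 Q.y_mem (Q.qd.four_torsion e))
  · rw [hd, hs, mul_assoc, mul_inv_eq_iff_eq_mul.1 Q.qd.τ_y, ← mul_assoc, ← mul_assoc,
      ← (show Commute (Q.qd.rot s) Q.qd.y from QD.rot_comm _ _ _).eq] at hdy
    have h2 : Q.qd.y⁻¹ = Q.qd.y := by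
      refine mul_left_cancel (a := Q.qd.rot s) (mul_right_cancel (b := Q.qd.τ) ?_)
      rw [← hdy, (show Commute (Q.qd.rot s) Q.qd.y⁻¹ from
        Commute.inv_right (QD.rot_comm _ _ _)).eq]
    have := Q.orderOf_y
    rw [inv_eq_iff_mul_eq_one, ← pow_two] at h2
    have hd := Nat.le_of_dvd two_pos (orderOf_dvd_of_pow_eq_one h2)
    omega

/-- Conjugation on `SL₂(p)`. -/
theorem exists_mat (c : D) : ∃ A : M2, A.det ≠ 0 ∧
    ∀ x x' : SL, c * Q.emb x * c⁻¹ = Q.emb x' → A * x.1 = x'.1 * A := by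
  let e := MonoidHom.ofInjective Q.inj
  have hmem : ∀ x, c * Q.emb x * c⁻¹ ∈ Q.L := fun x => Q.normal.conj_mem _ ⟨x, rfl⟩ c
  let ψ : SL →* SL :=
    { toFun := fun x => e.symm ⟨_, hmem x⟩
      map_one' := by simp
      map_mul' := fun a b => by
        rw [← map_mul]; congr 1; exact Subtype.ext (by simp [mul_assoc]) }
  have hψ : ∀ x, Q.emb (ψ x) = c * Q.emb x * c⁻¹ := fun x => by
    show ((e (e.symm ⟨_, hmem x⟩) : Q.L) : D) = _
    rw [MulEquiv.apply_symm_apply]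
  have hinj : Function.Injective ψ := fun a b h => Q.inj (by
    have h' := congrArg Q.emb h
    rwa [hψ, hψ, mul_left_inj, mul_right_inj] at h')
  obtain ⟨A, hA, hA'⟩ := exists_intertwiner Q.p_ne ψ hinj
  exact ⟨A, hA, fun x x' h => by rw [hA', show ψ x = x' from Q.inj (by rw [hψ, h])]⟩

theorem exists_conj_eq (c : D) (x : SL) : ∃ x', c * Q.emb x * c⁻¹ = Q.emb x' := by
  obtain ⟨x', hx⟩ := Q.normal.conj_mem _ ⟨x, rfl⟩ c
  exact ⟨x', hx.symm⟩

/-- A square determinant means an element of `L`. -/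
theorem mem_of_square {c : D} {A : M2}
    (hA : ∀ x x' : SL, c * Q.emb x * c⁻¹ = Q.emb x' → A * x.1 = x'.1 * A)
    (hdet : A.det ≠ 0) (hsq : IsSquare A.det) : c ∈ Q.L := by
  obtain ⟨r, hr⟩ := hsq
  have hr0 : r ≠ 0 := by rintro rfl; simp [hr] at hdet
  let B : SL := ⟨r⁻¹ • A, by rw [Matrix.det_smul, Fintype.card_fin, hr]; field_simp⟩
  have hmem : (Q.emb B)⁻¹ * c ∈ Q.L := by
    refine Q.mem_of_centralizer ?_
    rintro _ ⟨x, rfl⟩
    obtain ⟨x', hx'⟩ := Q.exists_conj_eq c x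
    have hB : B * x = x' * B := Subtype.ext (by
      show r⁻¹ • A * x.1 = x'.1 * (r⁻¹ • A)
      rw [smul_mul_assoc, mul_smul_comm, hA x x' hx'])
    have e := congrArg Q.emb hB
    rw [map_mul, map_mul] at e
    calc (Q.emb B)⁻¹ * c * Q.emb x = (Q.emb B)⁻¹ * (Q.emb x' * Q.emb B) * (Q.emb B)⁻¹ * c := by
          rw [mul_assoc, mul_inv_eq_iff_eq_mul.1 hx']; group
      _ = (Q.emb B)⁻¹ * (Q.emb B * Q.emb x) * (Q.emb B)⁻¹ * c := by rw [e]
      _ = _ := by group
  have h := Q.L.mul_mem ⟨B, rfl⟩ hmem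
  rwa [mul_inv_cancel_left] at h

theorem trace_eq {c : D} {x x' : SL} (h : c * Q.emb x * c⁻¹ = Q.emb x') :
    x'.1.trace = x.1.trace := by
  obtain ⟨A, hA, hA'⟩ := Q.exists_mat c
  have hu : IsUnit A.det := isUnit_iff_ne_zero.2 hA
  have hx : x'.1 = A * x.1 * A⁻¹ := by
    rw [hA' x x' h, mul_assoc, Matrix.mul_nonsing_inv _ hu, mul_one]
  rw [hx, Matrix.trace_mul_cycle, Matrix.nonsing_inv_mul _ hu, one_mul]

theorem card_class (x : SL) (N : ℕ)
    (hN : {M : SL | M.1.trace = x.1.trace ∧ ∀ s : ZMod p, M.1 ≠ s • 1}.ncard = N)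
    (hx : ∀ s : ZMod p, x.1 ≠ s • 1) :
    {y : D | IsConj (Q.emb x) y}.ncard ≤ N ∧ {y : D | IsConj (Q.emb x) y} ⊆
      Q.emb '' {M : SL | M.1.trace = x.1.trace ∧ ∀ s : ZMod p, M.1 ≠ s • 1} := by
  have hsub : {y : D | IsConj (Q.emb x) y} ⊆
      Q.emb '' {M : SL | M.1.trace = x.1.trace ∧ ∀ s : ZMod p, M.1 ≠ s • 1} := by
    intro y hy
    obtain ⟨c, rfl⟩ := isConj_iff.1 hy
    obtain ⟨x', hx'⟩ := Q.exists_conj_eq c x
    refine ⟨x', ⟨Q.trace_eq hx', fun s hs => hx s ?_⟩, hx'.symm⟩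
    obtain ⟨A, hA, hA'⟩ := Q.exists_mat c
    have h := hA' x x' hx'
    rw [hs, smul_one_mul, ← mul_smul_one] at h
    exact ((Matrix.isUnit_iff_isUnit_det A).2 (isUnit_iff_ne_zero.2 hA)).mul_left_cancel h
  refine ⟨?_, hsub⟩
  rw [← hN]
  exact (Set.ncard_le_ncard hsub (Set.toFinite _)).trans (Set.ncard_image_le (Set.toFinite _))

theorem isConj_of_semisimple {x x' : SL} (ht : x.1.trace ^ 2 ≠ 4)
    (h : IsConj (Q.emb x) (Q.emb x')) : IsConj x x' := by
  obtain ⟨c, hc⟩ := isConj_iff.1 h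
  have htr := Q.trace_eq hc
  have hns : ∀ y : SL, y.1.trace ^ 2 ≠ 4 → ∀ s : ZMod p, y.1 ≠ s • 1 := by
    intro y hy s hs
    apply hy
    have hd := y.prop
    rw [hs, Matrix.det_smul, Matrix.det_one, mul_one, Fintype.card_fin] at hd
    rw [hs, Matrix.trace_smul, Matrix.trace_one, Fintype.card_fin, smul_eq_mul]
    push_cast
    linear_combination 4 * hd
  exact SpecLin.SLTwo.isConj_of_trace_eq (Or.inr ht) (hns x ht) (hns x' (by rwa [htr])) htr.symm

theorem card_centralizer_semisimple {x : SL} (ht : x.1.trace ^ 2 ≠ 4) :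
    Nat.card (Subgroup.centralizer ({Q.emb x} : Set D)) =
      2 * Nat.card (Subgroup.centralizer ({x} : Set SL)) := by
  have himg : {y : D | IsConj (Q.emb x) y} = Q.emb '' {M : SL | IsConj x M} := by
    ext y
    constructor
    · intro hy
      obtain ⟨c, rfl⟩ := isConj_iff.1 hy
      obtain ⟨x', hx'⟩ := Q.exists_conj_eq c x
      exact ⟨x', Q.isConj_of_semisimple ht (hx' ▸ hy), hx'.symm⟩
    · rintro ⟨M, hM, rfl⟩
      exact Q.emb.map_isConj hM
  have h1 := (Subgroup.centralizer ({Q.emb x} : Set D)).card_mul_index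
  have h2 := (Subgroup.centralizer ({x} : Set SL)).card_mul_index
  rw [SpecLin.SLTwo.index_centralizer_eq_ncard, himg, Set.ncard_image_of_injective _ Q.inj,
    ← SpecLin.SLTwo.index_centralizer_eq_ncard, Q.card] at h1
  rw [SpecLin.SLTwo.card_sl_two, ZMod.card] at h2
  refine Nat.eq_of_mul_eq_mul_right (Nat.pos_of_ne_zero
    (Subgroup.index_ne_zero_of_finite (H := Subgroup.centralizer ({x} : Set SL)))) ?_
  rw [h1, mul_assoc, h2]

/-! ### Elements of order `p` -/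

include Q in
theorem trace_of_orderOf {x : SL} (hx : orderOf x = p) :
    x.1.trace = 2 ∧ ∀ s : ZMod p, x.1 ≠ s • 1 := by
  obtain ⟨b, hb, hc⟩ := (CfsgLib.SL2Char.orderOf_eq_char_iff p Q.p_ne x).1 hx
  have htr : x.1.trace = 2 := by
    rw [CfsgLib.SL2Char.trace_sq_of_isConj hc, CfsgLib.SL2Char.bEl_trace]; norm_num
  refine ⟨htr, fun s hs => ?_⟩
  rcases CfsgLib.SL2Tori.scalar_cases hs with e | e
  · have : x = 1 := Subtype.ext e
    rw [this, orderOf_one] at hx
    exact (Fact.out : p.Prime).ne_one hx.symm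
  · rw [e, Matrix.trace_neg, Matrix.trace_one, Fintype.card_fin] at htr
    push_cast at htr
    exact mul_ne_zero Q.two_ne Q.two_ne (by linear_combination -htr)

theorem card_centralizer_p {x : SL} (hx : orderOf x = p) :
    Nat.card (Subgroup.centralizer ({Q.emb x} : Set D)) = 2 * p := by
  obtain ⟨htr, hns⟩ := Q.trace_of_orderOf hx
  have heq : Subgroup.centralizer ({Q.emb x} : Set D) =
      (Subgroup.centralizer ({x} : Set SL)).map Q.emb := by
    ext c
    simp only [Subgroup.mem_map, Subgroup.mem_centralizer_singleton_iff]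
    constructor
    · intro hc
      obtain ⟨A, hA, hA'⟩ := Q.exists_mat c
      have h := hA' x x (mul_inv_eq_iff_eq_mul.2 hc)
      obtain ⟨a, b, e⟩ := CfsgLib.SL2Tori.commutant hns h
      obtain ⟨g, hg⟩ := Q.mem_of_square hA' hA ⟨a + b, by
        rw [e, CfsgLib.SL2Tori.det_comb a b x.prop, htr]; ring⟩
      exact ⟨g, Q.inj (by rw [map_mul, map_mul, hg, hc]), hg⟩
    · rintro ⟨g, hg, rfl⟩
      rw [← map_mul, hg, map_mul]
  rw [heq, Subgroup.card_map_of_injective Q.inj,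
    SpecLin.SLTwo.centralizer_card_unipotent hns Q.two_ne (c := 1) (mul_one _) (by rw [htr, mul_one]),
    ZMod.card]

theorem isConj_p {x x' : SL} (hx : orderOf x = p) (hx' : orderOf x' = p) :
    IsConj (Q.emb x) (Q.emb x') := by
  obtain ⟨htr, hns⟩ := Q.trace_of_orderOf hx
  obtain ⟨htr', hns'⟩ := Q.trace_of_orderOf hx'
  set T := {M : SL | M.1.trace = x.1.trace ∧ ∀ s : ZMod p, M.1 ≠ s • 1}
  have hT : T.ncard + 1 ≤ p * p := by
    have h := SpecLin.SLTwo.ncard_trace (F := ZMod p) 2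
    rw [ZMod.card] at h
    have hr : (SpecLin.SLTwo.roots (2 : ZMod p)).card = 1 := by
      classical
      rw [show SpecLin.SLTwo.roots (2 : ZMod p) = {1} from ?_, Finset.card_singleton]
      ext a
      simp only [SpecLin.SLTwo.roots, Finset.mem_filter, Finset.mem_univ, true_and, Finset.mem_singleton]
      constructor
      · intro h
        exact sub_eq_zero.1 (mul_self_eq_zero.1 (show (a - 1) * (a - 1) = 0 by linear_combination -h))
      · rintro rfl; ring
    rw [hr, mul_one] at h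
    have hlt : T ⊂ {M : SL | M.1.trace = 2} := by
      refine ⟨fun M hM => hM.1.trans htr, fun hsub => ?_⟩
      have : (1 : SL) ∈ T := hsub (by simp [Matrix.trace_one, Fintype.card_fin])
      exact this.2 1 (by simp)
    have := Set.ncard_lt_ncard hlt (Set.toFinite _)
    omega
  obtain ⟨-, hsub⟩ := Q.card_class x T.ncard rfl hns
  have hcl : T.ncard ≤ {y : D | IsConj (Q.emb x) y}.ncard := by
    rw [← SpecLin.SLTwo.index_centralizer_eq_ncard]
    have h1 := (Subgroup.centralizer ({Q.emb x} : Set D)).card_mul_index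
    rw [Q.card_centralizer_p hx, Q.card, mul_assoc] at h1
    have h2 := Nat.eq_of_mul_eq_mul_left two_pos h1
    rw [Nat.eq_of_mul_eq_mul_left (Fact.out : p.Prime).pos h2, pow_two]
    omega
  have heq := Set.eq_of_subset_of_ncard_le hsub
    ((Set.ncard_image_le (Set.toFinite T)).trans hcl) (Set.toFinite _)
  have : Q.emb x' ∈ {y : D | IsConj (Q.emb x) y} :=
    heq.symm ▸ ⟨x', ⟨htr'.trans htr.symm, hns'⟩, rfl⟩
  exact this

/-! ### The centraliser of the element of order four -/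

theorem exists_J : ∃ J : SL, Q.emb J = Q.qd.y ∧ J.1.trace = 0 ∧ J * J = -1 := by
  obtain ⟨J, hJ⟩ := Q.y_mem
  have hJJ : J * J = -1 := Q.inj (by rw [map_mul, hJ, Q.y_sq]; rfl)
  refine ⟨J, hJ, ?_, hJJ⟩
  have e := congrArg (fun g : SL => g.1) hJJ
  simp only [Matrix.SpecialLinearGroup.coe_mul] at e
  have e00 := congrFun (congrFun e 0) 0
  have e11 := congrFun (congrFun e 1) 1
  simp [Matrix.mul_apply, Fin.sum_univ_two] at e00 e11
  have hd := CfsgLib.PLocal.SLTwo.det_eq J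
  rw [Matrix.trace_fin_two]
  have : (J.1 0 0 + J.1 1 1) * (J.1 0 0 + J.1 1 1) = 0 := by linear_combination e00 + e11 + 2 * hd
  exact mul_self_eq_zero.1 this

theorem card_centralizer_y :
    Nat.card (Subgroup.centralizer ({Q.qd.y} : Set D)) =
      if p % 4 = 3 then 2 * (p + 1) else 2 * (p - 1) := by
  obtain ⟨J, hJ, htr, -⟩ := Q.exists_J
  have h4 : (4 : ZMod p) ≠ 0 := by
    rw [show (4 : ZMod p) = 2 * 2 by norm_num]; exact mul_ne_zero Q.two_ne Q.two_ne
  have ht : J.1.trace ^ 2 ≠ 4 := by rw [htr]; simpa using h4.symm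
  rw [← hJ, Q.card_centralizer_semisimple ht]
  have h2 := (Subgroup.centralizer ({J} : Set SL)).card_mul_index
  rw [SpecLin.SLTwo.index_centralizer_eq_ncard, SpecLin.SLTwo.card_sl_two, ZMod.card] at h2
  have hp := (Fact.out : p.Prime).two_le
  have hsplit : p ^ 2 - 1 = (p + 1) * (p - 1) := by
    rw [show (p ^ 2 - 1) = p ^ 2 - 1 ^ 2 by rw [one_pow], Nat.sq_sub_sq]
  rcases SpecLin.SLTwo.ncard_class_semisimple (Or.inr ⟨Q.two_ne, ht⟩) with ⟨hr, hc⟩ | ⟨hr, hc⟩
  · rw [if_neg]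
    · congr 1
      rw [hc, hsplit, ZMod.card] at h2
      exact Nat.eq_of_mul_eq_mul_right (by positivity : 0 < p * (p + 1)) (by rw [h2]; ring)
    · intro h3
      classical
      obtain ⟨a, ha⟩ := Finset.card_pos.1 (by omega : 0 < (SpecLin.SLTwo.roots J.1.trace).card)
      simp only [SpecLin.SLTwo.roots, Finset.mem_filter, Finset.mem_univ, true_and] at ha
      rw [htr] at ha
      exact (ZMod.exists_sq_eq_neg_one_iff.1 ⟨a, by linear_combination ha⟩) h3
  · rw [if_pos]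
    · congr 1
      rw [hc, hsplit, ZMod.card] at h2
      exact Nat.eq_of_mul_eq_mul_right (Nat.mul_pos (by omega) (by omega) : 0 < p * (p - 1))
        (by rw [h2]; ring)
    · by_contra h3
      obtain ⟨a, ha⟩ := ZMod.exists_sq_eq_neg_one_iff.2 h3
      exact SpecLin.SLTwo.roots_of_root (t := J.1.trace) (r := a)
        (by rw [htr]; linear_combination ha) hr

/-- The involution `τ` inverts the elements of odd order centralising `y`. -/
theorem τ_inverts {x : D} (hx : Odd (orderOf x)) (hxy : x * Q.qd.y = Q.qd.y * x) :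
    Q.qd.τ * x * Q.qd.τ⁻¹ = x⁻¹ := by
  obtain ⟨X, rfl⟩ := Q.odd_mem hx
  obtain ⟨J, hJ, htr, -⟩ := Q.exists_J
  have hJs : ∀ s : ZMod p, J.1 ≠ s • 1 := fun s hs => by
    have hd := J.prop
    rw [hs, Matrix.det_smul, Matrix.det_one, mul_one, Fintype.card_fin] at hd
    rw [hs, Matrix.trace_smul, Matrix.trace_one, Fintype.card_fin, smul_eq_mul] at htr
    push_cast at htr
    rcases mul_eq_zero.1 htr with h | h
    · rw [h] at hd; simp at hd
    · exact Q.two_ne h
  rw [← hJ, ← map_mul, ← map_mul] at hxy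
  obtain ⟨a, b, e⟩ := CfsgLib.SL2Tori.commutant hJs (CfsgLib.SL2Tori.coe_comm (Q.inj hxy))
  obtain ⟨A, hA, hA'⟩ := Q.exists_mat Q.qd.τ
  have hJi : A * J.1 = (J⁻¹).1 * A := hA' J J⁻¹ (by rw [map_inv, hJ, QD.τ_y])
  obtain ⟨X', hX'⟩ := Q.exists_conj_eq Q.qd.τ X
  rw [hX', ← map_inv]
  congr 1
  have h := hA' X X' hX'
  rw [CfsgLib.SL2Tori.coe_inv_eq, htr, zero_smul, zero_sub, neg_mul] at hJi
  have hXi : (X⁻¹).1 = a • 1 - b • J.1 := by
    rw [CfsgLib.SL2Tori.coe_inv_eq, e, CfsgLib.SL2Tori.trace_comb, htr, mul_zero, add_zero]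
    module
  have h' : A * X.1 = (X⁻¹).1 * A := by
    rw [hXi, e, mul_add, mul_smul_comm, mul_smul_comm, hJi, sub_mul, smul_mul_assoc, smul_mul_assoc,
      mul_one, one_mul]
    module
  exact Subtype.ext (((Matrix.isUnit_iff_isUnit_det A).2 (isUnit_iff_ne_zero.2 hA)).mul_right_cancel
    (h.symm.trans h'))

end Model

end CfsgLib.SDCyclic
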