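import Cfsg.Agent.Lib.SDCyclic.Split
import Cfsg.Agent.Lib.CyclicZFact.Psl

/-!
Non-solvable groups with cyclic odd Sylow subgroups and Sylow 2-subgroups with a cyclic subgroup of
index at most two, given the dihedral classification and the semidihedral simple case.
-/

set_option autoImplicit false
set_option linter.style.haveILetI false

open Subgroup

namespace CfsgLib.SDCyclic

universe u

open CfsgLib.GWCons.RankOneCover (DihedralClassification)

/-- A normal self-centralising `PSL₂(p)` has index at most two. -/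
theorem index_dvd_two {G : Type u} [Group G] [Finite G] (N : Subgroup G) [N.Normal]
    (hC : centralizer (N : Set G) = ⊥) {p : ℕ} [Fact p.Prime] (h5 : 5 ≤ p)
    (e : N ≃* Matrix.ProjectiveSpecialLinearGroup (Fin 2) (ZMod p)) : N.index ∣ 2 := by
  set X := Matrix.ProjectiveSpecialLinearGroup (Fin 2) (ZMod p)
  have hgcd : Nat.gcd 2 (p - 1) = 2 := by
    refine Nat.gcd_eq_left ?_
    obtain ⟨k, hk⟩ := (Fact.out : p.Prime).odd_of_ne_two (by omega)
    omega
  have hX : 2 * Nat.card X = (p + 1) * (p * (p - 1)) := by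
    have := CfsgLib.PSL2.card_psl (F := ZMod p)
    rwa [ZMod.card, hgcd] at this
  have hAut : Nat.card (MulAut X) = 2 * Nat.card X := by
    rw [Cfsg.Agent.S0813.result (F := ZMod p) p 1 le_rfl (by rw [ZMod.card, pow_one]) 2 le_rfl
      (fun _ => by rw [pow_one]; omega), if_pos rfl, CfsgLib.PSL2.card_pgl, ZMod.card, hX, one_mul,
      one_mul]
  let φ : G →* MulAut X := (MulAut.congr e).toMonoidHom.comp (MulAut.conjNormal (H := N))
  have hinj : Function.Injective φ := by
    refine (MulAut.congr e).injective.comp ((injective_iff_map_eq_one _).2 fun g hg => ?_)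
    have : g ∈ centralizer (N : Set G) := mem_centralizer_iff.2 fun s hs => by
      have := congrArg Subtype.val (DFunLike.congr_fun hg ⟨s, hs⟩)
      rw [MulAut.conjNormal_apply, MulAut.one_apply] at this
      exact (mul_inv_eq_iff_eq_mul.1 this).symm
    rwa [hC, mem_bot] at this
  refine Nat.dvd_of_mul_dvd_mul_left (Nat.card_pos (α := N)) ?_
  rw [card_mul_index, Nat.card_congr e.toEquiv, mul_comm (Nat.card X), ← hAut]
  exact card_dvd_of_injective φ hinj

/-- The structure theorem. -/
theorem main (hGW : DihedralClassification.{u})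
    (hgap : ∀ (G : Type u) [Group G] [Finite G] [IsSimpleGroup G] (S : Sylow 2 G),
      Cfsg.IsQuasiDihedral ↥(S : Subgroup G) →
      (∀ p : ℕ, p.Prime → p ≠ 2 → ∀ P : Sylow p G, IsCyclic P) → False)
    {G : Type u} [Group G] [Finite G] (hns : ¬ Group.IsSolvable G)
    (hodd : ∀ p : ℕ, p.Prime → p ≠ 2 → ∀ P : Sylow p G, IsCyclic P)
    (h2 : ∀ S : Sylow 2 G, ∃ C : Subgroup ↥(S : Subgroup G), IsCyclic C ∧ C.index ∣ 2) :
    ∃ G₀ : Subgroup G, G₀.Normal ∧ G₀.index ∣ 2 ∧
      ∃ X L : Subgroup ↥G₀, X.Normal ∧ L.Normal ∧ X ⊓ L = ⊥ ∧ X ⊔ L = ⊤ ∧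
        (Nat.card X).Coprime (Nat.card L) ∧
        Odd (Nat.card X) ∧ (∃ (C : Subgroup ↥X) (_ : C.Normal), IsCyclic C ∧ IsCyclic (↥X ⧸ C)) ∧
        ∃ (p : ℕ) (_ : Fact p.Prime), 5 ≤ p ∧
          (Nonempty (↥L ≃* Matrix.ProjectiveSpecialLinearGroup (Fin 2) (ZMod p)) ∨
           Nonempty (↥L ≃* Matrix.SpecialLinearGroup (Fin 2) (ZMod p))) := by
  have hO := oddCyclic_of_sylow hodd
  have hT := cycTwo_of_sylow h2
  set R := Cfsg.solvableRadical G
  haveI : R.Normal := CfsgLib.Structure.solvableRadical_normal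
  haveI hRs : Group.IsSolvable R := CfsgLib.Structure.isSolvable_solvableRadical
  set π := QuotientGroup.mk' R
  have hπ := QuotientGroup.mk'_surjective R
  have hrad := CfsgLib.Structure.solvableRadical_quotient (G := G)
  haveI : Nontrivial (G ⧸ R) := by
    by_contra h
    rw [not_nontrivial_iff_subsingleton] at h
    exact hns ((Group.isSolvable_iff_subgroup_quotient R).2
      ⟨hRs, Group.isSolvable_of_comm fun a b => Subsingleton.elim _ _⟩)
  have hO' := hO.of_surjective π hπ
  have hT' := hT.of_surjective π hπ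
  obtain ⟨N, hN, hNs, hNc, hC⟩ := CfsgLib.CyclicZFact.exists_simple hrad
    fun E _ hE => (hT'.card_le_four hE).trans (by norm_num)
  haveI := hN
  haveI := hNs
  obtain ⟨p, hp, h5, ⟨e⟩⟩ := simple_eq_psl hGW hgap hNc
    (hO'.of_injective N.subtype N.subtype_injective) (hT'.of_injective N.subtype N.subtype_injective)
  let φ := e.toMonoidHom.comp (π.subgroupComap N)
  have hφ : Function.Surjective φ :=
    e.surjective.comp (π.subgroupComap_surjective_of_surjective N hπ)
  have hker : Group.IsSolvable φ.ker := by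
    let ι : φ.ker →* R :=
      { toFun := fun x => ⟨((x : N.comap π) : G), by
          have h := x.2
          rw [MonoidHom.mem_ker, MonoidHom.comp_apply, MulEquiv.coe_toMonoidHom, e.map_eq_one_iff] at h
          exact (QuotientGroup.eq_one_iff _).1 (congrArg Subtype.val h)⟩
        map_one' := rfl
        map_mul' := fun _ _ => rfl }
    exact Group.isSolvable_of_isSolvable_injective (f := ι)
      fun a b h => Subtype.ext (Subtype.ext (congrArg Subtype.val h :))
  refine ⟨N.comap π, inferInstance, ?_, ?_⟩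
  · rw [index_comap_of_surjective N hπ]
    exact index_dvd_two N hC h5 e
  · obtain ⟨X, L, h1, h2, h3, h4, h6, h7, h8, h9⟩ := split hGW h5 φ hφ hker
      (hO.of_injective (N.comap π).subtype (subtype_injective _))
      (hT.of_injective (N.comap π).subtype (subtype_injective _))
    exact ⟨X, L, h1, h2, h3, h4, h6, h7, h8, p, hp, h5, h9⟩

end CfsgLib.SDCyclic
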