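import Cfsg.Agent.Lib.SL2Char.OrderP
import Cfsg.Agent.Lib.PLocal.SLTwoBasic
import Cfsg.Agent.Lib.InvChar.SLTwo

/-!
An injective endomorphism of `SL₂(p)` is given by conjugation with a matrix.
-/

set_option autoImplicit false

namespace CfsgLib.SDCyclic

open Matrix CfsgLib.PLocal.SLTwo CfsgLib.Schur

variable {p : ℕ} [Fact p.Prime]

local notation "M2" => Matrix (Fin 2) (Fin 2) (ZMod p)
local notation "SL" => Matrix.SpecialLinearGroup (Fin 2) (ZMod p)

theorem upper_mul {K : Type*} [Field K] (a b : K) : upper a * upper b = upper (a + b) := by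
  apply ext_entries <;> simp <;> ring

theorem lower_mul {K : Type*} [Field K] (a b : K) : lower a * lower b = lower (a + b) := by
  apply ext_entries <;> simp <;> ring

theorem upper_pow {K : Type*} [Field K] (a : K) (n : ℕ) : upper a ^ n = upper (n * a) := by
  induction n with
  | zero => apply ext_entries <;> simp
  | succ n ih => rw [pow_succ, ih, upper_mul]; congr 1; push_cast; ring

theorem lower_pow {K : Type*} [Field K] (a : K) (n : ℕ) : lower a ^ n = lower (n * a) := by
  induction n with
  | zero => apply ext_entries <;> simp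
  | succ n ih => rw [pow_succ, ih, lower_mul]; congr 1; push_cast; ring

theorem eq_top_of_unitri {H : Subgroup SL} (hu : upper 1 ∈ H) (hl : lower 1 ∈ H) : H = ⊤ := by
  have hU : ∀ t : ZMod p, upper t ∈ H := fun t => by
    have := H.pow_mem hu t.val
    rwa [upper_pow, ZMod.natCast_zmod_val, mul_one] at this
  have hL : ∀ t : ZMod p, lower t ∈ H := fun t => by
    have := H.pow_mem hl t.val
    rwa [lower_pow, ZMod.natCast_zmod_val, mul_one] at this
  have key : ∀ g : SL, g.1 1 0 ≠ 0 → g ∈ H := by
    intro g hc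
    have hd := det_eq g
    have e : g = upper ((g.1 0 0 - 1) / g.1 1 0) * lower (g.1 1 0) *
        upper ((g.1 1 1 - 1) / g.1 1 0) := by
      apply ext_entries <;> simp <;> field_simp <;> first | linear_combination hd | linear_combination -hd | ring
    rw [e]; exact H.mul_mem (H.mul_mem (hU _) (hL _)) (hU _)
  refine eq_top_iff.2 fun g _ => ?_
  by_cases hc : g.1 1 0 = 0
  · have hd := det_eq g
    rw [hc, mul_zero, sub_zero] at hd
    have h1 := key (g * lower 1) (by simpa [hc] using right_ne_zero_of_mul_eq_one hd)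
    have := H.mul_mem h1 (H.inv_mem hl)
    rwa [mul_inv_cancel_right] at this
  · exact key g hc

/-- Intertwiners compose along a generating pair. -/
theorem intertwine_of_gens (ψ : SL →* SL) {A : M2}
    (hu : A * (upper 1 : SL).1 = (ψ (upper 1)).1 * A)
    (hl : A * (lower 1 : SL).1 = (ψ (lower 1)).1 * A) : ∀ x : SL, A * x.1 = (ψ x).1 * A := by
  let H : Subgroup SL :=
    { carrier := {x | A * x.1 = (ψ x).1 * A}
      one_mem' := by simp
      mul_mem' := fun {a b} ha hb => by
        simp only [Set.mem_setOf_eq, map_mul, Matrix.SpecialLinearGroup.coe_mul] at ha hb ⊢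
        rw [← mul_assoc, ha, mul_assoc, hb, mul_assoc]
      inv_mem' := fun {a} ha => by
        simp only [Set.mem_setOf_eq] at ha ⊢
        have h1 : (ψ a⁻¹).1 * (ψ a).1 = 1 := by
          rw [← Matrix.SpecialLinearGroup.coe_mul, ← map_mul, inv_mul_cancel, map_one]; rfl
        have h2 : a.1 * (a⁻¹).1 = 1 := by
          rw [← Matrix.SpecialLinearGroup.coe_mul, mul_inv_cancel]; rfl
        calc A * (a⁻¹).1 = (ψ a⁻¹).1 * ((ψ a).1 * A) * (a⁻¹).1 := by rw [← mul_assoc, h1, one_mul]
          _ = (ψ a⁻¹).1 * A * (a.1 * (a⁻¹).1) := by rw [← ha]; simp only [mul_assoc]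
          _ = (ψ a⁻¹).1 * A := by rw [h2, mul_one] }
  have := eq_top_of_unitri (H := H) hu hl
  exact fun x => (this.ge (Subgroup.mem_top x) : x ∈ H)

theorem orderOf_upper {t : ZMod p} (ht : t ≠ 0) : orderOf (upper t) = p := by
  refine orderOf_eq_prime ?_ fun h => ht ?_
  · rw [upper_pow, ZMod.natCast_self, zero_mul]
    apply ext_entries <;> simp
  · simpa using congrArg (fun x : SL => x.1 0 1) h

theorem orderOf_lower {t : ZMod p} (ht : t ≠ 0) : orderOf (lower t) = p := by
  refine orderOf_eq_prime ?_ fun h => ht ?_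
  · rw [lower_pow, ZMod.natCast_self, zero_mul]
    apply ext_entries <;> simp
  · simpa using congrArg (fun x : SL => x.1 1 0) h

/-- An injective endomorphism is conjugation by a matrix. -/
theorem exists_intertwiner (hp : p ≠ 2) (ψ : SL →* SL) (hψ : Function.Injective ψ) :
    ∃ A : M2, A.det ≠ 0 ∧ ∀ x : SL, A * x.1 = (ψ x).1 * A := by
  have hp' := (Fact.out : p.Prime)
  have h2 : (2 : ZMod p) ≠ 0 := fun e => hp ((Nat.prime_dvd_prime_iff_eq hp' Nat.prime_two).1
    ((CharP.cast_eq_zero_iff (ZMod p) p 2).1 (by exact_mod_cast e)))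
  have hord : orderOf (ψ (upper 1)) = p := by rw [orderOf_injective ψ hψ, orderOf_upper one_ne_zero]
  obtain ⟨b, hb, hcj⟩ := (CfsgLib.SL2Char.orderOf_eq_char_iff p hp _).1 hord
  obtain ⟨g, hg⟩ := isConj_iff.1 hcj
  let φ : SL →* SL := (MulAut.conj g).toMonoidHom.comp ψ
  have hφ : Function.Injective φ := (MulAut.conj g).injective.comp hψ
  have hu' : φ (upper 1) = upper b := by
    show g * ψ (upper 1) * g⁻¹ = _
    rw [hg]
    apply ext_entries <;> simp
  set w := φ (lower 1) with hw
  have hwp : orderOf w = p := by rw [hw, orderOf_injective φ hφ, orderOf_lower one_ne_zero]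
  obtain ⟨b', -, hcw⟩ := (CfsgLib.SL2Char.orderOf_eq_char_iff p hp _).1 hwp
  have htr : tr w = 2 := by
    have := CfsgLib.SL2Char.trace_sq_of_isConj hcw
    rw [Matrix.trace_fin_two] at this
    rw [tr, this, CfsgLib.SL2Char.bEl_trace]
    norm_num
  have hc : w.1 1 0 ≠ 0 := by
    intro h0
    have hd := det_eq w
    rw [h0, mul_zero, sub_zero] at hd
    rw [tr] at htr
    have ha : w.1 0 0 = 1 := by
      have : (w.1 0 0 - 1) * (w.1 0 0 - 1) = 0 := by linear_combination w.1 0 0 * htr - hd
      exact sub_eq_zero.1 (mul_self_eq_zero.1 this)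
    have hd' : w.1 1 1 = 1 := by rw [ha, one_mul] at hd; exact hd
    have hwu : w * upper b = upper b * w := by
      apply ext_entries <;> simp [h0, ha, hd'] <;> ring
    rw [hw, ← hu', ← map_mul, ← map_mul] at hwu
    simpa using congrArg (fun x : SL => x.1 0 0) (hφ hwu)
  set s := (1 - w.1 0 0) / w.1 1 0
  let χ : SL →* SL := (MulAut.conj (upper s)).toMonoidHom.comp φ
  have hχu : χ (upper 1) = upper b := by
    show upper s * φ (upper 1) * (upper s)⁻¹ = _
    rw [hu', upper_mul, add_comm, ← upper_mul, mul_inv_cancel_right]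
  have hχl : χ (lower 1) = lower (w.1 1 0) := by
    show upper s * w * (upper s)⁻¹ = _
    have hd := det_eq w
    rw [tr] at htr
    apply ext_entries <;> simp [(inv_entry (upper s : SL)).1, (inv_entry (upper s : SL)).2.1,
      (inv_entry (upper s : SL)).2.2.1, (inv_entry (upper s : SL)).2.2.2, s] <;>
      field_simp <;> grind
  have hneg : χ (-1) = -1 := by
    refine CfsgLib.InvChar.eq_neg_one_of_sq h2 ?_ ?_
    · intro h
      refine CfsgLib.SL2Char.neg_one_ne_one h2 (((MulAut.conj (upper s)).injective.comp hφ) ?_)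
      show χ (-1) = χ 1
      rw [h, map_one]
    · rw [← map_mul, show (-1 : SL) * -1 = 1 from Subtype.ext (by simp), map_one]
  have hk : b * w.1 1 0 = 1 := by
    have h1 : (upper (1 : ZMod p) * (lower 1)⁻¹ * upper 1) * (upper 1 * (lower 1)⁻¹ * upper 1) = -1 := by
      apply ext_entries <;> simp [(inv_entry (lower (1 : ZMod p))).1, (inv_entry (lower (1 : ZMod p))).2.1,
        (inv_entry (lower (1 : ZMod p))).2.2.1, (inv_entry (lower (1 : ZMod p))).2.2.2]
    have h3 := congrArg χ h1
    simp only [map_mul, map_inv, hχu, hχl, hneg] at h3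
    have e00 := congrArg (fun x : SL => x.1 0 0) h3
    have e10 := congrArg (fun x : SL => x.1 1 0) h3
    simp [(inv_entry (lower (w.1 1 0))).1, (inv_entry (lower (w.1 1 0))).2.1,
        (inv_entry (lower (w.1 1 0))).2.2.1, (inv_entry (lower (w.1 1 0))).2.2.2] at e00 e10
    have : 2 * w.1 1 0 * (b * w.1 1 0 - 1) = 0 := by linear_combination e10
    exact sub_eq_zero.1 ((mul_eq_zero.1 this).resolve_left (mul_ne_zero h2 hc))
  set D : M2 := !![b, 0; 0, 1]
  refine ⟨(g⁻¹ * (upper s)⁻¹ : SL).1 * D, ?_, ?_⟩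
  · rw [Matrix.det_mul, Matrix.SpecialLinearGroup.det_coe, one_mul, Matrix.det_fin_two_of]
    simpa using hb
  · have hD := intertwine_of_gens χ (A := D) (by
      rw [hχu]
      ext i j; fin_cases i <;> fin_cases j <;> simp [D, Matrix.mul_apply, upper]) (by
      rw [hχl]
      ext i j; fin_cases i <;> fin_cases j <;> simp [D, Matrix.mul_apply, lower]
      linear_combination -hk)
    intro x
    have hx : (ψ x) * (g⁻¹ * (upper s)⁻¹) = (g⁻¹ * (upper s)⁻¹) * χ x := by
      show ψ x * (g⁻¹ * (upper s)⁻¹) =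
        (g⁻¹ * (upper s)⁻¹) * (upper s * (g * ψ x * g⁻¹) * (upper s)⁻¹)
      group
    rw [mul_assoc, hD x, ← mul_assoc, ← Matrix.SpecialLinearGroup.coe_mul, ← hx,
      Matrix.SpecialLinearGroup.coe_mul, mul_assoc]

end CfsgLib.SDCyclic
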