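import Cfsg.Agent.Lib.SDCyclic.Basic
import Cfsg.Agent.Lib.Zassenhaus.Perfect
import Cfsg.Agent.Lib.Components.Basic
import Cfsg.Agent.Lib.Transfer.Central
import Cfsg.Agent.Lib.PSL2.MinimalSimple

/-!
A group with small Sylow subgroups and a solvable normal subgroup with quotient `PSL₂(p)` is the
product of an odd normal Z-group and `PSL₂(p)` or `SL₂(p)`, of coprime orders.
-/

set_option autoImplicit false
set_option linter.style.haveILetI false

open Subgroup
open scoped commutatorElement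

namespace CfsgLib.SDCyclic

universe u

open CfsgLib.GWCons.RankOneCover (DihedralClassification)

section Cyclic

variable {G : Type u} [Group G]

/-- The subgroups of a cyclic `2`-group form a chain. -/
theorem chain [Finite G] {c x y : G} {k : ℕ} (hk : orderOf c = 2 ^ k) (hx : x ∈ zpowers c)
    (hy : y ∈ zpowers c) : x ∈ zpowers y ∨ y ∈ zpowers x := by
  classical
  haveI : Fintype (zpowers c) := Fintype.ofFinite _
  have key : ∀ a b : G, a ∈ zpowers c → b ∈ zpowers c → orderOf a ∣ orderOf b → a ∈ zpowers b := by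
    intro a b ha hb hdvd
    set a' : zpowers c := ⟨a, ha⟩
    set b' : zpowers c := ⟨b, hb⟩
    have hd : 0 < orderOf b' := orderOf_pos b'
    let A := Finset.univ.filter fun z : zpowers c => z ^ orderOf b' = 1
    let B := Finset.univ.filter fun z : zpowers c => z ∈ zpowers b'
    have hsub : B ⊆ A := fun z hz => by
      obtain ⟨i, rfl⟩ := mem_zpowers_iff.1 (Finset.mem_filter.1 hz).2
      refine Finset.mem_filter.2 ⟨Finset.mem_univ _, ?_⟩
      rw [← zpow_natCast, ← zpow_mul, mul_comm, zpow_mul, zpow_natCast, pow_orderOf_eq_one, one_zpow]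
    have hB : B.card = orderOf b' := by
      rw [← Nat.card_zpowers b', Nat.card_eq_fintype_card, Fintype.card_subtype]
    have hAB : B = A := Finset.eq_of_subset_of_card_le hsub
      (by rw [hB]; exact IsCyclic.card_pow_eq_one_le hd)
    have : a' ∈ A := Finset.mem_filter.2 ⟨Finset.mem_univ _, orderOf_dvd_iff_pow_eq_one.1 (by
      rwa [← Subgroup.orderOf_coe, ← Subgroup.orderOf_coe])⟩
    rw [← hAB] at this
    obtain ⟨i, hi⟩ := mem_zpowers_iff.1 (Finset.mem_filter.1 this).2
    exact ⟨i, by simpa using congrArg Subtype.val hi⟩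
  have hdiv : ∀ a : G, a ∈ zpowers c → ∃ i, orderOf a = 2 ^ i := fun a ha => by
    have h := Subgroup.orderOf_dvd_natCard (zpowers c) ha
    rw [Nat.card_zpowers, hk] at h
    obtain ⟨i, -, hi⟩ := (Nat.dvd_prime_pow Nat.prime_two).1 h
    exact ⟨i, hi⟩
  obtain ⟨i, hi⟩ := hdiv x hx
  obtain ⟨j, hj⟩ := hdiv y hy
  rcases le_total i j with h | h
  · exact Or.inl (key x y hx hy (hi ▸ hj ▸ pow_dvd_pow 2 h))
  · exact Or.inr (key y x hy hx (hi ▸ hj ▸ pow_dvd_pow 2 h))

/-- A perfect group centralises a cyclic normal subgroup. -/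
theorem commutator_cyclic_eq_bot [Finite G] {D C : Subgroup G} (hD : ⁅D, D⁆ = D) [C.Normal]
    (hC : IsCyclic C) : ⁅D, C⁆ = ⊥ := by
  letI : CommGroup (MulAut C) :=
    { (inferInstance : Group (MulAut C)) with
      mul_comm := fun a b => by
        obtain ⟨g, hg⟩ := IsCyclic.exists_generator (α := C)
        obtain ⟨i, hi⟩ := mem_zpowers_iff.1 (hg (a g))
        obtain ⟨j, hj⟩ := mem_zpowers_iff.1 (hg (b g))
        apply MulEquiv.ext
        intro x
        obtain ⟨k, rfl⟩ := mem_zpowers_iff.1 (hg x)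
        simp only [MulAut.mul_apply, map_zpow]
        rw [← hi, ← hj, map_zpow, map_zpow, ← hi, ← hj, ← zpow_mul, ← zpow_mul, ← zpow_mul,
          ← zpow_mul, mul_left_comm] }
  rw [commutator_eq_bot_iff_le_centralizer]
  intro d hd
  have hker : d ∈ (MulAut.conjNormal : G →* MulAut C).ker :=
    Abelianization.commutator_subset_ker _ (by
      rw [_root_.commutator_def]
      rw [← hD] at hd
      exact commutator_mono le_top le_top hd)
  refine mem_centralizer_iff.2 fun x hx => ?_
  have := congrArg Subtype.val (DFunLike.congr_fun hker ⟨x, hx⟩)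
  rw [MulAut.conjNormal_apply, MulAut.one_apply] at this
  exact (mul_inv_eq_iff_eq_mul.1 this).symm

/-- A group with a cyclic Sylow `2`-subgroup has a subgroup of odd order and `2`-power index. -/
theorem exists_odd_two_index {K : Type u} [Group K] [Finite K] (T : Sylow 2 K)
    (hT : IsCyclic (T : Subgroup K)) :
    ∃ M : Subgroup K, M.Normal ∧ Odd (Nat.card M) ∧ ∃ k, M.index = 2 ^ k := by
  haveI : Fact (Nat.Prime 2) := ⟨Nat.prime_two⟩
  by_cases heven : 2 ∣ Nat.card K
  · have hn := hT.normalizer_le_centralizer ((Nat.minFac_eq_two_iff _).mpr heven)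
    have hc := MonoidHom.ker_transferSylow_isComplement' T hn
    refine ⟨(MonoidHom.transferSylow T hn).ker, inferInstance, ?_, ?_⟩
    · have h := T.not_dvd_index
      rw [hc.index_eq_card] at h
      rwa [← Nat.not_even_iff_odd, even_iff_two_dvd]
    · rw [hc.symm.index_eq_card]
      exact IsPGroup.iff_card.1 T.2
  · exact ⟨⊤, inferInstance, by rw [card_top, ← Nat.not_even_iff_odd, even_iff_two_dvd]; exact heven,
      0, by rw [index_top, pow_zero]⟩

end Cyclic

theorem map_center_eD {A B : Type*} [Group A] [Group B] (e : A ≃* B) :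
    (center A).map e.toMonoidHom = center B := by
  ext y
  simp only [mem_map, mem_center_iff, MulEquiv.coe_toMonoidHom]
  constructor
  · rintro ⟨x, hx, rfl⟩ g
    obtain ⟨g', rfl⟩ := e.surjective g
    rw [← map_mul, hx, map_mul]
  · intro hy
    refine ⟨e.symm y, fun g => e.injective ?_, e.apply_symm_apply y⟩
    rw [map_mul, map_mul, e.apply_symm_apply, hy]

/-- Isomorphic coefficient fields give isomorphic groups. -/
def slCongr {F K : Type} [Field F] [Field K] (f : F ≃+* K) :
    Matrix.SpecialLinearGroup (Fin 2) F ≃* Matrix.SpecialLinearGroup (Fin 2) K :=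
  MonoidHom.toMulEquiv (Matrix.SpecialLinearGroup.map f.toRingHom)
    (Matrix.SpecialLinearGroup.map f.symm.toRingHom)
    (MonoidHom.ext fun _ => Subtype.ext <| Matrix.ext fun _ _ => f.symm_apply_apply _)
    (MonoidHom.ext fun _ => Subtype.ext <| Matrix.ext fun _ _ => f.apply_symm_apply _)

/-- The simple groups `PSL₂(p)` are not soluble, simple and of even order. -/
theorem psl_facts (p : ℕ) [Fact p.Prime] (h5 : 5 ≤ p) :
    IsSimpleGroup (Matrix.ProjectiveSpecialLinearGroup (Fin 2) (ZMod p)) ∧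
      ¬ IsMulCommutative (Matrix.ProjectiveSpecialLinearGroup (Fin 2) (ZMod p)) := by
  have h := CfsgLib.PSL2.psl_not_solvable (K := ZMod p) (by rw [ZMod.card]; omega)
  refine ⟨h.2.1, fun hc => h.1 ?_⟩
  exact Group.isSolvable_of_comm hc.is_comm.comm

variable {H : Type u} [Group H] [Finite H] {p : ℕ} [Fact p.Prime]

/-- The split. -/
theorem split (hGW : DihedralClassification.{u}) (h5 : 5 ≤ p)
    (π : H →* Matrix.ProjectiveSpecialLinearGroup (Fin 2) (ZMod p)) (hπ : Function.Surjective π)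
    (hker : Group.IsSolvable π.ker) (hO : OddCyclic H) (hT : CycTwo H) :
    ∃ X L : Subgroup H, X.Normal ∧ L.Normal ∧ X ⊓ L = ⊥ ∧ X ⊔ L = ⊤ ∧
      (Nat.card X).Coprime (Nat.card L) ∧ Odd (Nat.card X) ∧
      (∃ (C : Subgroup ↥X) (_ : C.Normal), IsCyclic C ∧ IsCyclic (↥X ⧸ C)) ∧
      (Nonempty (↥L ≃* Matrix.ProjectiveSpecialLinearGroup (Fin 2) (ZMod p)) ∨
        Nonempty (↥L ≃* Matrix.SpecialLinearGroup (Fin 2) (ZMod p))) := by
  classical
  haveI : Fact (Nat.Prime 2) := ⟨Nat.prime_two⟩
  obtain ⟨hXs, hXc⟩ := psl_facts p h5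
  haveI := hXs
  haveI := CfsgLib.CyclicZFact.isPerfect_of_simple hXc
  have hXeven := CfsgLib.CyclicZFact.even_of_simple hXc
  set K := π.ker with hK
  -- a 2-group whose image is not cyclic
  have hnc : ∀ S : Sylow 2 H, ¬ IsCyclic ((S : Subgroup H).map π) := fun S hc => by
    obtain ⟨M, hM⟩ := CfsgLib.Involutions.exists_index_two_of_cyclic_sylow (even_iff_two_dvd.2 hXeven)
      (S.mapSurjective hπ) (by rw [Sylow.coe_mapSurjective]; exact hc)
    exact CfsgLib.GWCons.RankOneCover.index_ne_two M hM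
  -- every 2-subgroup of the kernel lies in the cyclic part
  have hTK : ∀ (S : Sylow 2 H) (c : H), c ∈ (S : Subgroup H) →
      (zpowers c).relIndex (S : Subgroup H) ∣ 2 → (S : Subgroup H) ⊓ K ≤ zpowers c := by
    intro S c hc hi t ht
    by_contra htc
    obtain ⟨htS, htK⟩ := mem_inf.1 ht
    refine hnc S ?_
    have h2 : ((zpowers c).subgroupOf (S : Subgroup H)).index = 2 := by
      rw [relIndex] at hi
      refine ((Nat.dvd_prime Nat.prime_two).1 hi).resolve_left fun h1 => htc ?_
      exact subgroupOf_eq_top.1 (index_eq_one.1 h1) htS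
    have e : (S : Subgroup H).map π = zpowers (π c) := by
      refine le_antisymm ?_ (zpowers_le.2 ⟨c, hc, rfl⟩)
      rintro _ ⟨x, hx, rfl⟩
      by_cases hxc : x ∈ zpowers c
      · rw [← MonoidHom.map_zpowers]; exact mem_map_of_mem π hxc
      · have := (mul_mem_iff_of_index_two h2 (a := (⟨x, hx⟩ : (S : Subgroup H))) (b := ⟨t, htS⟩)).2
          (by simp [mem_subgroupOf, hxc, htc])
        have hxt : x * t ∈ zpowers c := mem_subgroupOf.1 this
        rw [show π x = π (x * t) by rw [map_mul, MonoidHom.mem_ker.1 htK, mul_one],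
          ← MonoidHom.map_zpowers]
        exact mem_map_of_mem π hxt
    rw [e]; infer_instance
  -- the kernel is a Z-group
  haveI hKZ : IsZGroup K := ⟨fun q hq P => by
    haveI := Fact.mk hq
    by_cases h2 : q = 2
    · subst h2
      obtain ⟨S, hS⟩ := (P.2.map K.subtype).exists_le_sylow
      obtain ⟨c, hc, hi⟩ := hT S S.2
      haveI : IsCyclic ((P : Subgroup K).map K.subtype) :=
        isCyclic_of_le (fun x hx => hTK S c hc hi (mem_inf.2 ⟨hS hx, map_subtype_le _ hx⟩) :
          (P : Subgroup K).map K.subtype ≤ zpowers c)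
      exact (equivMapOfInjective _ _ K.subtype_injective).isCyclic.2 inferInstance
    · haveI := hO q hq h2 _ (P.2.map K.subtype)
      exact (equivMapOfInjective _ _ K.subtype_injective).isCyclic.2 inferInstance⟩
  -- its odd part
  obtain ⟨T₀⟩ : Nonempty (Sylow 2 K) := inferInstance
  obtain ⟨M, hMn, hModd, k, hMi⟩ := exists_odd_two_index T₀ (hKZ.isZGroup 2 Nat.prime_two T₀)
  set O := Cfsg.pPrimeCore 2 K with hOdef
  have hMO : M ≤ O := CfsgLib.PCore.le_pPrimeCore hMn (Nat.coprime_two_right.2 hModd)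
  haveI : O.Characteristic := by rw [hOdef]; infer_instance
  set X := O.map K.subtype with hXdef
  haveI hXn : X.Normal := by rw [hXdef]; infer_instance
  have hXodd : Odd (Nat.card X) := by
    rw [hXdef, card_subtype, hOdef, ← Nat.not_even_iff_odd, even_iff_two_dvd]
    exact CfsgLib.PCore.not_dvd_card_pPrimeCore
  have hXK : X ≤ K := map_subtype_le _
  -- the perfect part
  obtain ⟨D, hDn, hD1, hDp⟩ := CfsgLib.Zassenhaus.exists_perfect_subgroup
    (G := H) (fun hs => Group.IsPerfect.not_isSolvable (Matrix.ProjectiveSpecialLinearGroup (Fin 2) (ZMod p))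
      (Group.isSolvable_of_surjective hπ))
  haveI := hDn
  haveI hDP : Group.IsPerfect D := ⟨hDp⟩
  have hDD : ⁅D, D⁆ = D := by
    rw [← map_subtype_commutator, hDp, ← MonoidHom.range_eq_map, range_subtype]
  have hDK : ¬ D ≤ K := fun hle => by
    haveI : Group.IsSolvable D :=
      Group.isSolvable_of_isSolvable_injective (inclusion_injective hle)
    haveI : Nontrivial D := D.nontrivial_iff_ne_bot.2 hD1
    exact Group.IsPerfect.not_isSolvable D inferInstance
  have hDtop : D.map π = ⊤ := by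
    refine (Normal.map inferInstance π hπ).eq_bot_or_eq_top.resolve_left fun h => hDK ?_
    rwa [Subgroup.map_eq_bot_iff] at h
  -- the perfect part centralises the kernel
  have hcent : ⁅D, K⁆ = ⊥ := by
    set A := (commutator K).map K.subtype with hA
    haveI : A.Normal := by rw [hA]; infer_instance
    have hAc : IsCyclic A := by
      rw [hA]
      haveI := IsZGroup.isCyclic_commutator K
      exact (equivMapOfInjective _ _ K.subtype_injective).isCyclic.1 inferInstance
    have h1 : ⁅D, A⁆ = ⊥ := commutator_cyclic_eq_bot hDD hAc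
    set q := QuotientGroup.mk' A with hq
    haveI hKn : (K.map q).Normal := Normal.map inferInstance q (QuotientGroup.mk'_surjective A)
    have hKc : IsCyclic (K.map q) := by
      have hle : commutator K ≤ (q.subgroupMap K).ker := fun x hx => by
        rw [MonoidHom.mem_ker]
        exact Subtype.ext ((QuotientGroup.eq_one_iff _).2 ⟨x, hx, rfl⟩)
      haveI hab : IsCyclic (Abelianization K) := inferInstance
      refine isCyclic_of_surjective (G' := Abelianization K) (QuotientGroup.lift (commutator K) (q.subgroupMap K) hle :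
        Abelianization K →* _) fun y => ?_
      obtain ⟨x, rfl⟩ := q.subgroupMap_surjective K y
      exact ⟨QuotientGroup.mk x, rfl⟩
    have hDq : ⁅D.map q, D.map q⁆ = D.map q := by rw [← map_commutator, hDD]
    have h2 : ⁅D, K⁆ ≤ A := by
      have := commutator_cyclic_eq_bot hDq hKc
      rwa [← map_commutator, Subgroup.map_eq_bot_iff, hq, QuotientGroup.ker_mk'] at this
    refine CfsgLib.Components.commutator_eq_bot_of_perfect hDD (le_bot_iff.1 ?_)
    rw [← h1, commutator_comm D A]
    exact commutator_mono h2 le_rfl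
  have hcomm : ∀ d ∈ D, ∀ x ∈ K, d * x = x * d := fun d hd x hx =>
    CfsgLib.Components.commute_of_commutator_eq_bot hcent hd hx
  -- the intersection is a central 2-group
  set Z := K.subgroupOf D with hZdef
  have hZc : Z ≤ center D := fun z hz => mem_center_iff.2 fun d =>
    Subtype.ext (hcomm d d.2 z (mem_subgroupOf.1 hz))
  have hOD : OddCyclic D := hO.of_injective D.subtype D.subtype_injective
  have hZ2 : ∀ (q : ℕ), q.Prime → q ≠ 2 → ∀ z ∈ Z, orderOf z = q → False := by
    intro q hq hq2 z hz hzo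
    haveI := Fact.mk hq
    obtain ⟨Q, hQ⟩ := (IsPGroup.of_card (n := 1) (by rw [Nat.card_zpowers, hzo, pow_one]) :
      IsPGroup q (zpowers z)).exists_le_sylow
    haveI := hOD q hq hq2 Q Q.2
    have : z = 1 := CfsgLib.Transfer.eq_one_of_central_commutator (Q : Subgroup D)
      IsCyclic.isMulCommutative Q.card_coprime_index (hQ (mem_zpowers z))
      (hDP.commutator_eq_top ▸ mem_top z) (hZc hz)
    rw [this, orderOf_one] at hzo
    exact hq.one_lt.ne hzo
  -- the two parts are disjoint, of coprime orders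
  have hdisj : X ⊓ D = ⊥ := by
    rw [eq_bot_iff_forall]
    intro x hx
    obtain ⟨hxX, hxD⟩ := mem_inf.1 hx
    by_contra hne
    obtain ⟨q, hq, hqd⟩ := Nat.exists_prime_and_dvd (fun h => hne (orderOf_eq_one_iff.1 h))
    haveI := Fact.mk hq
    have hq2 : q ≠ 2 := fun h => Nat.not_even_iff_odd.2 hXodd (even_iff_two_dvd.2
      (h ▸ hqd.trans (Subgroup.orderOf_dvd_natCard X hxX)))
    have ho : orderOf (⟨x, hxD⟩ ^ (orderOf x / q) : D) = q := by
      rw [orderOf_pow_of_dvd (Nat.div_pos (Nat.le_of_dvd (orderOf_pos x) hqd) hq.pos).ne'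
        (by rw [Subgroup.orderOf_mk]; exact Nat.div_dvd_of_dvd hqd), Subgroup.orderOf_mk]
      exact Nat.div_div_self hqd (orderOf_pos x).ne'
    exact hZ2 q hq hq2 _ (pow_mem (mem_subgroupOf.2 (hXK hxX)) _) ho
  have hcop : (Nat.card X).Coprime (Nat.card D) := by
    refine Nat.coprime_of_dvd fun q hq h1 h2 => ?_
    haveI := Fact.mk hq
    have hq2 : q ≠ 2 := fun h => Nat.not_even_iff_odd.2 hXodd (even_iff_two_dvd.2 (h ▸ h1))
    obtain ⟨⟨x, hx⟩, hxo⟩ := exists_prime_orderOf_dvd_card' q h1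
    obtain ⟨⟨d, hd⟩, hdo⟩ := exists_prime_orderOf_dvd_card' q h2
    rw [Subgroup.orderOf_mk] at hxo hdo
    obtain ⟨Q, hQ⟩ := (IsPGroup.of_card (n := 1) (by rw [Nat.card_zpowers, hdo, pow_one]) :
      IsPGroup q (zpowers d)).exists_le_sylow
    obtain ⟨R, hR⟩ := (IsPGroup.of_card (n := 1) (by rw [Nat.card_zpowers, hxo, pow_one]) :
      IsPGroup q (zpowers x)).exists_le_sylow
    obtain ⟨g, hg⟩ := MulAction.exists_smul_eq H R Q
    set x' := g * x * g⁻¹ with hx'
    have hx'Q : x' ∈ (Q : Subgroup H) := by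
      rw [← hg, Sylow.coe_subgroup_smul]
      exact ⟨x, hR (mem_zpowers x), rfl⟩
    have hx'X : x' ∈ X := hXn.conj_mem x hx g
    have hx'o : orderOf x' = q := by rw [hx', ← MulAut.conj_apply, MulEquiv.orderOf_eq, hxo]
    haveI := hO q hq hq2 Q Q.2
    classical
    haveI : Fintype (Q : Subgroup H) := Fintype.ofFinite _
    have hdQ : d ∈ (Q : Subgroup H) := hQ (mem_zpowers d)
    have hmem : x' ∈ zpowers d := by
      let A := Finset.univ.filter fun z : (Q : Subgroup H) => z ^ q = 1
      let B := Finset.univ.filter fun z : (Q : Subgroup H) => z ∈ zpowers (⟨d, hdQ⟩ : (Q : Subgroup H))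
      have hsub : B ⊆ A := fun z hz => by
        obtain ⟨i, rfl⟩ := mem_zpowers_iff.1 (Finset.mem_filter.1 hz).2
        refine Finset.mem_filter.2 ⟨Finset.mem_univ _, ?_⟩
        rw [← zpow_natCast, ← zpow_mul, mul_comm, zpow_mul, zpow_natCast,
          show (⟨d, hdQ⟩ : (Q : Subgroup H)) ^ q = 1 from Subtype.ext (by
            simpa using (hdo ▸ pow_orderOf_eq_one d : d ^ q = 1)), one_zpow]
      have hB : B.card = q := by
        rw [← Fintype.card_subtype, ← Nat.card_eq_fintype_card, Nat.card_zpowers, Subgroup.orderOf_mk, hdo]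
      have hAB : B = A := Finset.eq_of_subset_of_card_le hsub
        (by rw [hB]; exact IsCyclic.card_pow_eq_one_le hq.pos)
      have : (⟨x', hx'Q⟩ : (Q : Subgroup H)) ∈ A := Finset.mem_filter.2 ⟨Finset.mem_univ _,
        Subtype.ext (by simpa using (hx'o ▸ pow_orderOf_eq_one x' : x' ^ q = 1))⟩
      rw [← hAB] at this
      obtain ⟨i, hi⟩ := mem_zpowers_iff.1 (Finset.mem_filter.1 this).2
      exact ⟨i, by simpa using congrArg Subtype.val hi⟩
    have : x' ∈ X ⊓ D := mem_inf.2 ⟨hx'X, zpowers_le.2 hd hmem⟩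
    rw [hdisj, mem_bot] at this
    rw [this, orderOf_one] at hx'o
    exact hq.one_lt.ne hx'o
  -- 2-elements of the kernel lie in the perfect part
  have hsurj : Function.Surjective (π.comp D.subtype) := fun y => by
    obtain ⟨d, hd, rfl⟩ := (hDtop ▸ mem_top y : y ∈ D.map π)
    exact ⟨⟨d, hd⟩, rfl⟩
  have hSy : ∀ R : Sylow 2 D, ∃ (S : Sylow 2 H) (c : H),
      (R : Subgroup D).map D.subtype ≤ (S : Subgroup H) ∧ c ∈ (S : Subgroup H) ∧
      (zpowers c).relIndex (S : Subgroup H) ∣ 2 := fun R => by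
    obtain ⟨S, hS⟩ := (R.2.map D.subtype).exists_le_sylow
    obtain ⟨c, hc, hi⟩ := hT S S.2
    exact ⟨S, c, hS, hc, hi⟩
  obtain ⟨R₀⟩ : Nonempty (Sylow 2 D) := inferInstance
  obtain ⟨S, c, hRS, hc, hi⟩ := hSy R₀
  obtain ⟨u, huD, huc, huK⟩ : ∃ u, u ∈ D ∧ u ∈ zpowers c ∧ u ∉ K := by
    by_contra hno
    push Not at hno
    refine hnc S ?_
    have hle : (S : Subgroup H).map π ≤ (R₀ : Subgroup D).map (π.comp D.subtype) := by
      have h1 : (R₀ : Subgroup D).map (π.comp D.subtype) ≤ (S : Subgroup H).map π := by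
        rw [← map_map]; exact map_mono hRS
      exact ((R₀.mapSurjective hsurj).3 (S.2.map π) h1).le
    by_cases hall : ∀ d ∈ (R₀ : Subgroup D), (d : H) ∈ zpowers c
    · have hb : (S : Subgroup H).map π ≤ ⊥ := fun y hy => by
        obtain ⟨d, hd, rfl⟩ := hle hy
        exact mem_bot.2 (hno _ d.2 (hall d hd))
      haveI : IsCyclic (⊥ : Subgroup (Matrix.ProjectiveSpecialLinearGroup (Fin 2) (ZMod p))) :=
        isCyclic_of_subsingleton
      exact isCyclic_of_le hb
    · push Not at hall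
      obtain ⟨d₀, hd₀, hd₀c⟩ := hall
      have hd₀S : (d₀ : H) ∈ (S : Subgroup H) := hRS ⟨d₀, hd₀, rfl⟩
      have h2 : ((zpowers c).subgroupOf (S : Subgroup H)).index = 2 := by
        rw [relIndex] at hi
        refine ((Nat.dvd_prime Nat.prime_two).1 hi).resolve_left fun h1 => hd₀c ?_
        exact subgroupOf_eq_top.1 (index_eq_one.1 h1) hd₀S
      refine isCyclic_of_le (hle.trans ?_ : _ ≤ zpowers (π (d₀ : H)))
      rintro _ ⟨d, hd, rfl⟩
      show π (d : H) ∈ _
      have hdS : (d : H) ∈ (S : Subgroup H) := hRS ⟨d, hd, rfl⟩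
      by_cases hdc : (d : H) ∈ zpowers c
      · rw [MonoidHom.mem_ker.1 (hno _ d.2 hdc)]
        exact one_mem _
      · have h3 := (mul_mem_iff_of_index_two h2
          (a := (⟨(d : H), hdS⟩ : (S : Subgroup H))⁻¹) (b := ⟨(d₀ : H), hd₀S⟩)).2
          (by simp [mem_subgroupOf, hdc, hd₀c])
        have h4 : (d : H)⁻¹ * (d₀ : H) ∈ zpowers c := by simpa [mem_subgroupOf] using h3
        have h5 := MonoidHom.mem_ker.1 (hno _ (mul_mem (inv_mem d.2) d₀.2) h4)
        rw [map_mul, map_inv, inv_mul_eq_one] at h5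
        rw [h5]
        exact mem_zpowers _
  obtain ⟨k', hk'⟩ := IsPGroup.iff_orderOf.1 S.2 ⟨c, hc⟩
  rw [Subgroup.orderOf_mk] at hk'
  have hK2 : ∀ (P : Subgroup H), P ≤ K → IsPGroup 2 P → P ≤ D := by
    intro P hPK hP x hx
    obtain ⟨S', hS'⟩ := hP.exists_le_sylow
    obtain ⟨g, hg⟩ := MulAction.exists_smul_eq H S S'
    obtain ⟨t, ht, htx⟩ : ∃ t ∈ (S : Subgroup H), g * t * g⁻¹ = x := by
      have := hS' hx
      rw [← hg, Sylow.coe_subgroup_smul] at this
      obtain ⟨t, ht, htx⟩ := this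
      exact ⟨t, ht, htx⟩
    have hKn : K.Normal := by rw [hK]; infer_instance
    have htK : t ∈ K := by
      rw [show t = g⁻¹ * x * g⁻¹⁻¹ by rw [← htx]; group]
      exact hKn.conj_mem x (hPK hx) g⁻¹
    have htc : t ∈ zpowers c := hTK S c hc hi (mem_inf.2 ⟨ht, htK⟩)
    rw [← htx]
    refine hDn.conj_mem t ?_ g
    rcases chain hk' huc htc with h | h
    · exact absurd (zpowers_le.2 htK h) huK
    · exact zpowers_le.2 huD h
  -- they generate
  have hgen : X ⊔ D = ⊤ := by
    have hMT : M ⊔ (T₀ : Subgroup K) = ⊤ := by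
      refine index_eq_one.1 ?_
      have h1 : (M ⊔ (T₀ : Subgroup K)).index ∣ 2 ^ k := hMi ▸ index_dvd_of_le le_sup_left
      obtain ⟨i, -, hi'⟩ := (Nat.dvd_prime_pow Nat.prime_two).1 h1
      rcases i with _ | i
      · rw [hi', pow_zero]
      · exfalso
        exact T₀.not_dvd_index ((dvd_pow_self 2 (Nat.succ_ne_zero i)).trans
          (hi' ▸ index_dvd_of_le le_sup_right))
    have hKle : K ≤ X ⊔ D := by
      calc K = (⊤ : Subgroup K).map K.subtype := by rw [← MonoidHom.range_eq_map, range_subtype]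
        _ = M.map K.subtype ⊔ (T₀ : Subgroup K).map K.subtype := by rw [← hMT, Subgroup.map_sup]
        _ ≤ X ⊔ D := sup_le_sup (map_mono hMO) (hK2 _ (map_subtype_le _) (T₀.2.map _))
    rw [eq_top_iff]
    intro g _
    obtain ⟨d, hd⟩ := hsurj (π g)
    rw [← mul_inv_cancel_left (d : H) g]
    refine mul_mem (mem_sup_right d.2) (hKle ?_)
    rw [hK, MonoidHom.mem_ker, map_mul, map_inv, inv_mul_eq_one]
    exact hd
  -- the odd part is cyclic by cyclic
  haveI : IsZGroup X := IsZGroup.of_injective (inclusion_injective hXK)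
  refine ⟨X, D, hXn, hDn, hdisj, hgen, hcop, hXodd,
    ⟨commutator X, inferInstance, IsZGroup.isCyclic_commutator X,
      (inferInstance : IsCyclic (Abelianization X))⟩, ?_⟩
  -- recognition of the perfect part
  set φ := π.comp D.subtype with hφ
  have hφker : φ.ker = Z := by ext d; simp [hZdef, hφ, hK, mem_subgroupOf]
  by_cases hZ : Z = ⊥
  · exact Or.inl ⟨MulEquiv.ofBijective φ
      ⟨(MonoidHom.ker_eq_bot_iff φ).1 (by rw [hφker, hZ]), hsurj⟩⟩
  right
  haveI : Z.Normal := by rw [hZdef, hK]; infer_instance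
  have hZp : IsPGroup 2 Z := by
    intro z
    obtain ⟨n, m, hm, hnm⟩ := Nat.exists_eq_two_pow_mul_odd (orderOf_pos z).ne'
    refine ⟨n, orderOf_dvd_iff_pow_eq_one.1 ?_⟩
    by_contra hnd
    have hm1 : m ≠ 1 := fun e => hnd (by rw [hnm, e, mul_one])
    obtain ⟨q, hq, hqm⟩ := Nat.exists_prime_and_dvd hm1
    have hq2 : q ≠ 2 := fun e => Nat.not_even_iff_odd.2 hm (even_iff_two_dvd.2 (e ▸ hqm))
    have hqz : q ∣ Nat.card Z :=
      (hqm.trans (hnm ▸ dvd_mul_left m _)).trans (orderOf_dvd_natCard z)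
    haveI := Fact.mk hq
    obtain ⟨w, hw⟩ := exists_prime_orderOf_dvd_card' q hqz
    exact hZ2 q hq hq2 _ w.2 (by rw [Subgroup.orderOf_coe, hw])
  obtain ⟨z, hz, hzo⟩ : ∃ z ∈ Z, orderOf z = 2 := by
    obtain ⟨j, hj⟩ := IsPGroup.iff_card.1 hZp
    have hj0 : j ≠ 0 := fun e => hZ (eq_bot_of_card_eq _ (by rw [hj, e, pow_zero]))
    obtain ⟨w, hw⟩ := exists_prime_orderOf_dvd_card' 2 (hj ▸ dvd_pow_self 2 hj0)
    exact ⟨w, w.2, by rw [Subgroup.orderOf_coe, hw]⟩
  have hDodd : ∀ y : D, orderOf y = 2 → y = z := by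
    intro y hy
    obtain ⟨R, hR⟩ := (IsPGroup.of_card (n := 1) (by rw [Nat.card_zpowers, hy, pow_one]) :
      IsPGroup 2 (zpowers y)).exists_le_sylow
    obtain ⟨S₁, c₁, hRS₁, hc₁, hi₁⟩ := hSy R
    have hzR : ∀ g : D, g * z * g⁻¹ = z := fun g => by
      rw [mul_inv_eq_iff_eq_mul]; exact mem_center_iff.1 (hZc hz) g
    have hzS : (z : H) ∈ zpowers c₁ := by
      refine hTK S₁ c₁ hc₁ hi₁ (mem_inf.2 ⟨?_, mem_subgroupOf.1 hz⟩)
      obtain ⟨R', hR'⟩ := (IsPGroup.of_card (n := 1) (by rw [Nat.card_zpowers, hzo, pow_one]) :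
        IsPGroup 2 (zpowers z)).exists_le_sylow
      obtain ⟨g, hg⟩ := MulAction.exists_smul_eq D R' R
      refine hRS₁ ⟨z, ?_, rfl⟩
      rw [← hg, Sylow.coe_subgroup_smul]
      exact ⟨z, hR' (mem_zpowers z), hzR g⟩
    have hone : ∀ w : D, orderOf w = 2 → (w : H) ∈ zpowers c₁ → w = z := fun w hw hwc =>
      Subtype.ext (invol_eq hwc hzS (by rw [Subgroup.orderOf_coe, hw]) (by rw [Subgroup.orderOf_coe, hzo]))
    by_cases hyc : (y : H) ∈ zpowers c₁
    · exact hone y hy hyc
    exfalso
    set Q := (zpowers c₁).subgroupOf D with hQ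
    have hQi : Q.relIndex (R : Subgroup D) = 2 := by
      have h1 : Q.relIndex (R : Subgroup D) = (zpowers c₁).relIndex ((R : Subgroup D).map D.subtype) := by
        rw [hQ, subgroupOf, relIndex_comap]
      rw [h1]
      have h2 : (zpowers c₁).relIndex ((R : Subgroup D).map D.subtype) ≤ 2 :=
        (relIndex_le_of_le_right hRS₁ (fun e => by rw [e] at hi₁; simp at hi₁)).trans
          (Nat.le_of_dvd two_pos hi₁)
      have h3 : (zpowers c₁).relIndex ((R : Subgroup D).map D.subtype) ≠ 0 := index_ne_zero_of_finite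
      have h4 : (zpowers c₁).relIndex ((R : Subgroup D).map D.subtype) ≠ 1 := fun e =>
        hyc (relIndex_eq_one.1 e ⟨y, hR (mem_zpowers y), rfl⟩)
      omega
    have hy2 : y ^ 2 = 1 := hy ▸ pow_orderOf_eq_one y
    obtain ⟨N, -, hN2, -⟩ := CfsgLib.Transfer.thompson_transfer R Q hQi y hy2 fun g _ hgQ => by
      have h := hone (g * y * g⁻¹) (by rw [← MulAut.conj_apply, MulEquiv.orderOf_eq, hy])
        (mem_subgroupOf.1 hgQ)
      have : y = z := by
        rw [show y = g⁻¹ * (g * y * g⁻¹) * g⁻¹⁻¹ by group, h]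
        exact hzR g⁻¹
      exact hyc (this ▸ hzS)
    exact CfsgLib.GWCons.RankOneCover.index_ne_two N hN2
  have hrank : Cfsg.PRankLE 2 1 D := by
    intro A _ hA
    have hsub : ∀ a : A, (a : D) = 1 ∨ (a : D) = z := fun a => by
      by_cases h1 : (a : D) = 1
      · exact Or.inl h1
      · exact Or.inr (hDodd _ (orderOf_eq_prime (hA a a.2) h1))
    rw [pow_one]
    refine (Nat.card_le_card_of_injective
      (fun a : A => if (a : D) = 1 then (0 : Fin 2) else 1) fun a b e => ?_).trans
      (by rw [Nat.card_eq_fintype_card, Fintype.card_fin])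
    rcases hsub a with ha | ha <;> rcases hsub b with hb | hb
    · exact Subtype.ext (ha.trans hb.symm)
    · exfalso
      have : (b : D) ≠ 1 := fun e1 => by rw [hb] at e1; rw [e1, orderOf_one] at hzo; omega
      dsimp only at e
      rw [if_pos ha, if_neg this] at e
      exact absurd e (by decide)
    · exfalso
      have : (a : D) ≠ 1 := fun e1 => by rw [ha] at e1; rw [e1, orderOf_one] at hzo; omega
      dsimp only at e
      rw [if_neg this, if_pos hb] at e
      exact absurd e (by decide)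
    · exact Subtype.ext (ha.trans hb.symm)
  have hDeven : Even (Nat.card D) := even_iff_two_dvd.2 (hzo ▸ orderOf_dvd_natCard z)
  have hcore : Cfsg.oddCore D = ⊥ := by
    set N := Cfsg.pPrimeCore 2 D with hN
    have hNodd := CfsgLib.PCore.not_dvd_card_pPrimeCore (p := 2) (G := D)
    have hNn : N.Normal := by rw [hN]; infer_instance
    rcases (hNn.map φ hsurj).eq_bot_or_eq_top with h | h
    · rw [Subgroup.map_eq_bot_iff, hφker] at h
      exact CfsgLib.PCore.eq_bot_of_isPGroup_coprime (hZp.to_le h) (CfsgLib.PCore.pPrimeCore_coprime)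
    · exfalso
      refine hNodd ((even_iff_two_dvd.1 (even_iff_two_dvd.2 hXeven)).trans ?_)
      rw [← card_top (G := Matrix.ProjectiveSpecialLinearGroup (Fin 2) (ZMod p)), ← h]
      exact card_map_dvd _ _
  have hcen : center D = φ.ker := by
    refine le_antisymm (fun d hd => ?_) (hφker ▸ hZc)
    rw [MonoidHom.mem_ker]
    have h1 : center (Matrix.ProjectiveSpecialLinearGroup (Fin 2) (ZMod p)) = ⊥ :=
      (inferInstance : (center (Matrix.ProjectiveSpecialLinearGroup (Fin 2) (ZMod p))).Normal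
        ).eq_bot_or_eq_top.resolve_right fun h => hXc ⟨⟨fun a b => (mem_center_iff.1 (h ▸ mem_top b) a)⟩⟩
    rw [← mem_bot, ← h1, mem_center_iff]
    intro x
    obtain ⟨d', rfl⟩ := hsurj x
    rw [← map_mul, ← map_mul, mem_center_iff.1 hd d']
  let eQ : D ⧸ center D ≃* Matrix.ProjectiveSpecialLinearGroup (Fin 2) (ZMod p) :=
    (QuotientGroup.quotientMulEquivOfEq hcen).trans (QuotientGroup.quotientKerEquivOfSurjective φ hsurj)
  let e0 : D ⧸ Cfsg.oddCore D ≃* D :=
    (QuotientGroup.quotientMulEquivOfEq hcore).trans QuotientGroup.quotientBot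
  rcases CfsgLib.GWCons.RankOneCover.main hGW hDP hrank hDeven with ⟨F, i1, i2, hFodd, h3, ⟨e⟩⟩ | hA
  · letI := i1
    letI := i2
    let eD : D ≃* Matrix.SpecialLinearGroup (Fin 2) F := e0.symm.trans e
    let eP : D ⧸ center D ≃* Matrix.ProjectiveSpecialLinearGroup (Fin 2) F :=
      QuotientGroup.congr _ _ eD (map_center_eD eD)
    let f := eQ.symm.trans eP
    have hO' := ((hOD.of_surjective (QuotientGroup.mk' (center D)) (QuotientGroup.mk'_surjective _)
      ).of_surjective eP.toMonoidHom eP.surjective)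
    obtain ⟨r, hr, hFr⟩ := prime_of_psl hFodd hO'
    haveI := Fact.mk hr
    have hcard := Nat.card_congr f.toEquiv
    have h1 := CfsgLib.PSL2.card_psl (F := F)
    have h2 := CfsgLib.PSL2.card_psl (F := ZMod p)
    rw [hFr] at h1
    rw [ZMod.card] at h2
    have hpo : Odd p := (Fact.out : p.Prime).odd_of_ne_two (by omega)
    have hro : Odd r := hFr ▸ hFodd
    obtain ⟨a, ha⟩ := hpo
    obtain ⟨b, hb⟩ := hro
    rw [Nat.gcd_eq_left (show 2 ∣ r - 1 by omega)] at h1
    rw [Nat.gcd_eq_left (show 2 ∣ p - 1 by omega), hcard, h1, ha, hb] at h2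
    simp only [Nat.add_sub_cancel] at h2
    have hrp : r = p := by
      rcases Nat.lt_trichotomy a b with h | h | h
      · exfalso; nlinarith [Nat.mul_le_mul (Nat.mul_le_mul (show 2*a+3 ≤ 2*b+1 by omega) (show 2*a+3 ≤ 2*b+1 by omega)) (show 2*a+2 ≤ 2*b by omega)]
      · omega
      · exfalso; nlinarith [Nat.mul_le_mul (Nat.mul_le_mul (show 2*b+3 ≤ 2*a+1 by omega) (show 2*b+3 ≤ 2*a+1 by omega)) (show 2*b+2 ≤ 2*a by omega)]
    subst hrp
    exact ⟨eD.trans (slCongr (ZMod.ringEquivOfPrime F hr hFr).symm)⟩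
  · exfalso
    obtain ⟨-, ⟨e⟩, -⟩ := hA
    refine not_oddCyclic_alt_seven ?_
    refine OddCyclic.of_surjective ?_ e.toMonoidHom e.surjective
    exact (hOD.of_surjective (QuotientGroup.mk' (Cfsg.oddCore D)) (QuotientGroup.mk'_surjective _)
      ).of_surjective (QuotientGroup.mk' _) (QuotientGroup.mk'_surjective _)

end CfsgLib.SDCyclic
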