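import Cfsg.Agent.Lib.SDCyclic.Exc

/-!
The values and inner products of the two exceptional functions.
-/

set_option autoImplicit false
set_option linter.unusedSectionVars false
set_option linter.style.haveILetI false

namespace CfsgLib.SDCyclic

open Cfsg CfsgLib.QuatDefect CfsgLib.Characters
open scoped ComplexConjugate Classical

universe u

variable {G : Type u} [Group G] {S : Sylow 2 G} {m : ℕ} (K : Sd G S m)

/-- The values of the first function on the rotations, modulo four. -/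
def vTheta (i : ℕ) : ℤ := if i % 2 = 1 then 2 else if i % 4 = 2 then 4 else 0

/-- The values of the second function on the rotations, modulo four. -/
def vZero (i : ℕ) : ℤ := if i % 2 = 1 then 4 else 0

theorem periodic_sum (M : ℕ) (φ : ℕ → ℤ) (h : ∀ i, φ (i + 4) = φ i) :
    ∑ i ∈ Finset.range (4 * M), φ i = M * (φ 0 + φ 1 + φ 2 + φ 3) := by
  have hk : ∀ k r, φ (4 * k + r) = φ r := by
    intro k r
    induction k with
    | zero => simp
    | succ k ih => rw [show 4 * (k + 1) + r = 4 * k + r + 4 by ring, h, ih]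
  induction M with
  | zero => simp
  | succ M ih =>
    rw [show 4 * (M + 1) = 4 * M + 1 + 1 + 1 + 1 by ring, Finset.sum_range_succ, Finset.sum_range_succ,
      Finset.sum_range_succ, Finset.sum_range_succ, ih]
    simp only [add_assoc]
    rw [hk M 1, hk M (1 + 1), hk M (1 + (1 + 1)), show φ (4 * M) = φ 0 from hk M 0]
    push_cast
    ring

theorem sum_zmod (φ : ℕ → ℤ) (h : ∀ i, φ (i + 4) = φ i) (hm : 2 ≤ m) :
    ∑ s : ZMod (2 * 2 ^ m), φ s.val = 2 ^ (m - 1) * (φ 0 + φ 1 + φ 2 + φ 3) := by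
  obtain ⟨k, hk⟩ : ∃ k, 2 * 2 ^ m = k + 1 := ⟨2 * 2 ^ m - 1, by have := Nat.two_pow_pos m; omega⟩
  have e : ∀ n, n = k + 1 → (haveI : NeZero (k + 1) := ⟨by omega⟩; ∀ (_ : NeZero n), ∑ s : ZMod n, φ s.val = ∑ i ∈ Finset.range n, φ i) := by
    rintro n rfl _
    exact Fin.sum_univ_eq_sum_range φ (k + 1)
  rw [e _ hk ⟨by positivity⟩, show 2 * 2 ^ m = 4 * 2 ^ (m - 1) by
    conv_lhs => rw [show m = m - 1 + 1 by omega, pow_succ]
    ring, periodic_sum _ _ h]
  push_cast
  ring

theorem val_parity (s : ZMod (2 * 2 ^ m)) :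
    ((2 ^ m : ℕ) : ZMod (2 * 2 ^ m)) * s =
      if s.val % 2 = 1 then ((2 ^ m : ℕ) : ZMod (2 * 2 ^ m)) else 0 := by
  haveI : NeZero (2 * 2 ^ m) := ⟨by positivity⟩
  conv_lhs => rw [← ZMod.natCast_zmod_val s, ← Nat.div_add_mod s.val 2]
  have h := QD.cast_two_pow_eq_zero (m := m)
  push_cast at h ⊢
  rcases Nat.mod_two_eq_zero_or_one s.val with e | e
  · rw [e, if_neg (by omega)]
    push_cast
    linear_combination ((s.val / 2 : ℕ) : ZMod (2 * 2 ^ m)) * h
  · rw [e, if_pos rfl]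
    push_cast
    linear_combination ((s.val / 2 : ℕ) : ZMod (2 * 2 ^ m)) * h

theorem addChar_half :
    (ZMod.stdAddChar (((2 ^ m : ℕ) : ZMod (2 * 2 ^ m))) : ℂ) = -1 := by
  haveI : NeZero (2 * 2 ^ m) := ⟨by positivity⟩
  have h2 : (ZMod.stdAddChar (((2 ^ m : ℕ) : ZMod (2 * 2 ^ m))) : ℂ) ^ 2 = 1 := by
    rw [sq, ← AddChar.map_add_eq_mul, ← two_mul, QD.cast_two_pow_eq_zero, AddChar.map_zero_eq_one]
  refine (sq_eq_one_iff.1 h2).resolve_left fun h => ?_
  rw [← AddChar.map_zero_eq_one (ZMod.stdAddChar (N := 2 * 2 ^ m))] at h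
  have := ZMod.injective_stdAddChar h
  rw [ZMod.natCast_eq_zero_iff] at this
  have := Nat.le_of_dvd (Nat.two_pow_pos m) this
  have := Nat.two_pow_pos m
  omega

theorem pair_zero_rot (s : ZMod (2 * 2 ^ m)) : K.qd.pair 0 (K.qd.rot s) = 2 := by
  rw [QD.pair_rot, mul_zero, zero_mul, AddChar.map_zero_eq_one]; norm_num

theorem pair_half_rot (s : ZMod (2 * 2 ^ m)) :
    K.qd.pair ((2 ^ m : ℕ) : ZMod (2 * 2 ^ m)) (K.qd.rot s) = if s.val % 2 = 1 then -2 else 2 := by
  rw [QD.pair_rot, K.qd.a_half, val_parity]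
  split_ifs
  · rw [addChar_half]; norm_num
  · rw [AddChar.map_zero_eq_one]; norm_num

theorem pair_quarter_rot (s : ZMod (2 * 2 ^ m)) :
    K.qd.pair ((2 ^ (m - 1) : ℕ) : ZMod (2 * 2 ^ m)) (K.qd.rot s) =
      if s.val % 2 = 1 then 0 else if s.val % 4 = 2 then -2 else 2 := by
  haveI : NeZero (2 * 2 ^ m) := ⟨by positivity⟩
  set y : ZMod (2 * 2 ^ m) := ((2 ^ (m - 1) : ℕ) : ZMod (2 * 2 ^ m)) with hy
  have h2y : (2 : ZMod (2 * 2 ^ m)) * y = ((2 ^ m : ℕ) : ZMod (2 * 2 ^ m)) := by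
    rw [hy]; exact_mod_cast congrArg (Nat.cast (R := ZMod (2 * 2 ^ m))) K.qd.two_mul_half
  rw [QD.pair_rot, K.qd.a_y, neg_mul, AddChar.map_neg_eq_inv]
  by_cases hodd : s.val % 2 = 1
  · rw [if_pos hodd]
    have hsq : (ZMod.stdAddChar (y * s) : ℂ) ^ 2 = -1 := by
      rw [sq, ← AddChar.map_add_eq_mul, ← two_mul, ← mul_assoc, h2y, val_parity, if_pos hodd,
        addChar_half]
    have hne : (ZMod.stdAddChar (y * s) : ℂ) ≠ 0 := fun h => by rw [h] at hsq; norm_num at hsq
    rw [inv_eq_of_mul_eq_one_right (b := -(ZMod.stdAddChar (y * s) : ℂ)) (by linear_combination -hsq)]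
    ring
  · rw [if_neg hodd]
    obtain ⟨k, hk⟩ : ∃ k, s.val = 2 * k := ⟨s.val / 2, by omega⟩
    have hsk : y * s = ((2 ^ m : ℕ) : ZMod (2 * 2 ^ m)) * (k : ZMod (2 * 2 ^ m)) := by
      conv_lhs => rw [← ZMod.natCast_zmod_val s, hk]
      push_cast at h2y ⊢
      linear_combination (k : ZMod (2 * 2 ^ m)) * h2y
    have hkp : (ZMod.stdAddChar (y * s) : ℂ) = (-1) ^ k := by
      rw [hsk, mul_comm _ (k : ZMod (2 * 2 ^ m)), ← nsmul_eq_mul, AddChar.map_nsmul_eq_pow, addChar_half]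
    rw [hkp]
    rcases Nat.even_or_odd k with hk2 | hk2
    · rw [hk2.neg_one_pow, if_neg (by obtain ⟨r, hr⟩ := hk2; omega)]; norm_num
    · rw [hk2.neg_one_pow, if_pos (by obtain ⟨r, hr⟩ := hk2; omega)]; norm_num

theorem thetaFun_rot (s : ZMod (2 * 2 ^ m)) :
    thetaFun K (K.qd.rot s) = (vTheta s.val : ℂ) := by
  rw [thetaFun, pair_zero_rot, pair_quarter_rot, vTheta]
  split_ifs <;> norm_num

theorem thetaZero_rot (s : ZMod (2 * 2 ^ m)) :
    thetaZero K (K.qd.rot s) = (vZero s.val : ℂ) := by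
  rw [thetaZero, pair_zero_rot, pair_half_rot, vZero]
  split_ifs <;> norm_num

theorem thetaFun_outside (s : ZMod (2 * 2 ^ m)) : thetaFun K (K.qd.rot s * K.qd.τ) = 0 := by
  rw [thetaFun, QD.pair_outside, QD.pair_outside, sub_zero]

theorem thetaZero_outside (s : ZMod (2 * 2 ^ m)) : thetaZero K (K.qd.rot s * K.qd.τ) = 0 := by
  rw [thetaZero, QD.pair_outside, QD.pair_outside, sub_zero]

theorem isCharacter_pair_syl [Fintype G] (j : ZMod (2 * 2 ^ m)) :
    IsCharacter (S : Subgroup G) (fun p => K.qd.pair j p) :=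
  K.qd.isCharacter_pair (S : Subgroup G).subtype Subtype.val_injective (Subgroup.range_subtype _) j

theorem two_mul_ne_of_val {s : ZMod (2 * 2 ^ m)} (hm : 2 ≤ m) (h : s.val % 4 ≠ 0) : 2 * s ≠ 0 := by
  haveI : NeZero (2 * 2 ^ m) := ⟨by positivity⟩
  intro e
  rw [← ZMod.natCast_zmod_val s, show (2 : ZMod (2 * 2 ^ m)) * (s.val : ZMod (2 * 2 ^ m)) =
    ((2 * s.val : ℕ) : ZMod (2 * 2 ^ m)) by push_cast; rfl, ZMod.natCast_eq_zero_iff] at e
  have h4 : 4 ∣ 2 ^ m := ⟨2 ^ (m - 2), by rw [show (4 : ℕ) = 2 ^ 2 from rfl, ← pow_add, Nat.add_sub_cancel' hm]⟩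
  exact h (Nat.dvd_iff_mod_eq_zero.1 (h4.trans (Nat.dvd_of_mul_dvd_mul_left two_pos e)))

theorem rotFun_of {f : G → ℂ} [Fintype G] (v : ℕ → ℤ) (hout : ∀ s, f (K.qd.rot s * K.qd.τ) = 0)
    (hrot : ∀ s, f (K.qd.rot s) = (v s.val : ℂ)) (hv : ∀ i, v i ≠ 0 → i % 4 ≠ 0)
    (hc : IsClassFunction (S : Subgroup G) (fun p => f p)) : RotFun K f where
  cls g hg h hh := hc ⟨g, hg⟩ ⟨h, hh⟩
  supp g hg hne := by
    obtain ⟨s, rfl | rfl⟩ := K.qd.exists_elem hg
    · refine ⟨s, rfl, two_mul_ne_of_val K.two_le (hv _ fun h0 => hne ?_)⟩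
      rw [hrot, h0, Int.cast_zero]
    · exact absurd (hout s) hne

theorem isGen_thetaFun [Fintype G] :
    IsGeneralizedCharacter (S : Subgroup G) (fun p => thetaFun K p) := by
  exact isGeneralizedCharacter_sub (isGeneralizedCharacter_of_isCharacter (isCharacter_pair_syl K 0))
    (isGeneralizedCharacter_of_isCharacter (isCharacter_pair_syl K _))

theorem isGen_thetaZero [Fintype G] :
    IsGeneralizedCharacter (S : Subgroup G) (fun p => thetaZero K p) := by
  exact isGeneralizedCharacter_sub (isGeneralizedCharacter_of_isCharacter (isCharacter_pair_syl K 0))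
    (isGeneralizedCharacter_of_isCharacter (isCharacter_pair_syl K _))

theorem rotFun_theta [Fintype G] : RotFun K (thetaFun K) :=
  rotFun_of K vTheta (thetaFun_outside K) (thetaFun_rot K)
    (fun i hi => by simp only [vTheta] at hi; split_ifs at hi <;> omega)
    (isClassFunction_of_isGeneralizedCharacter (isGen_thetaFun K))

theorem rotFun_zero [Fintype G] : RotFun K (thetaZero K) :=
  rotFun_of K vZero (thetaZero_outside K) (thetaZero_rot K)
    (fun i hi => by simp only [vZero] at hi; split_ifs at hi <;> omega)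
    (isClassFunction_of_isGeneralizedCharacter (isGen_thetaZero K))

theorem isGen_indRot [Fintype G] (R : Ret K) {f : G → ℂ}
    (hf : IsGeneralizedCharacter (S : Subgroup G) (fun p => f p)) :
    IsGeneralizedCharacter G (indRot R f) := by
  refine CharArtin.isGeneralizedCharacter_indFun K.qd.H ?_
  obtain ⟨a, b, ha, hb, e⟩ := hf
  set π' : K.qd.H →* (S : Subgroup G) := R.π.codRestrict (S : Subgroup G) R.mem
  exact ⟨_, _, CharGalois.isCharacter_comp ha π', CharGalois.isCharacter_comp hb π',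
    funext fun h => congrFun e (π' h)⟩

theorem avg_rot [Fintype G] {F : G → ℂ} (φ : ℕ → ℤ) (hper : ∀ i, φ (i + 4) = φ i)
    (hout : ∀ s, F (K.qd.rot s * K.qd.τ) = 0) (hrot : ∀ s, F (K.qd.rot s) = (φ s.val : ℂ)) :
    (Nat.card (S : Subgroup G) : ℂ)⁻¹ * ∑ p : (S : Subgroup G), F p =
      ((φ 0 + φ 1 + φ 2 + φ 3 : ℤ) : ℂ) / 8 := by
  rw [sum_rot hout, Finset.sum_congr rfl fun s _ => hrot s, ← Int.cast_sum, sum_zmod φ hper K.two_le,
    K.qd.card]
  have h : (2 : ℂ) ^ m = 2 * 2 ^ (m - 1) := by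
    rw [← pow_succ', Nat.sub_add_cancel (le_trans one_le_two K.two_le)]
  have : (2 : ℂ) ^ (m - 1) ≠ 0 := pow_ne_zero _ two_ne_zero
  push_cast
  rw [h]
  field_simp
  ring

variable [Fintype G] (R : Ret K)

theorem vTheta_add (i : ℕ) : vTheta (i + 4) = vTheta i := by simp [vTheta, Nat.add_mod]

theorem vZero_add (i : ℕ) : vZero (i + 4) = vZero i := by simp [vZero, Nat.add_mod]

theorem norm_theta : classInner (indRot R (thetaFun K)) (indRot R (thetaFun K)) = 3 := by
  rw [inner_indRot R (rotFun_theta K) (rotFun_theta K),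
    avg_rot K (F := fun g => thetaFun K g * conj (thetaFun K g)) (fun i => vTheta i * vTheta i)
      (fun i => by rw [vTheta_add]) (fun s => by simp [thetaFun_outside])
      (fun s => by simp [thetaFun_rot])]
  norm_num [vTheta]

theorem norm_zero : classInner (indRot R (thetaZero K)) (indRot R (thetaZero K)) = 4 := by
  rw [inner_indRot R (rotFun_zero K) (rotFun_zero K),
    avg_rot K (F := fun g => thetaZero K g * conj (thetaZero K g)) (fun i => vZero i * vZero i)
      (fun i => by rw [vZero_add]) (fun s => by simp [thetaZero_outside])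
      (fun s => by simp [thetaZero_rot])]
  norm_num [vZero]

theorem inner_theta_zero : classInner (indRot R (thetaFun K)) (indRot R (thetaZero K)) = 2 := by
  rw [inner_indRot R (rotFun_theta K) (rotFun_zero K),
    avg_rot K (F := fun g => thetaFun K g * conj (thetaZero K g)) (fun i => vTheta i * vZero i)
      (fun i => by rw [vTheta_add, vZero_add]) (fun s => by simp [thetaFun_outside])
      (fun s => by simp [thetaFun_rot, thetaZero_rot])]
  norm_num [vTheta, vZero]

theorem theta_one : classInner (indRot R (thetaFun K)) (fun _ : G => (1 : ℂ)) = 1 := by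
  rw [inner_indRot_one, avg_rot K vTheta vTheta_add (thetaFun_outside K) (thetaFun_rot K)]
  norm_num [vTheta]

theorem zero_one : classInner (indRot R (thetaZero K)) (fun _ : G => (1 : ℂ)) = 1 := by
  rw [inner_indRot_one, avg_rot K vZero vZero_add (thetaZero_outside K) (thetaZero_rot K)]
  norm_num [vZero]

end CfsgLib.SDCyclic
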